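import Mathlib

/-!
# Polynomial algebras are standard smooth of relative dimension the number of variables (helper5)
-/

set_option autoImplicit false
universe u
open Algebra

namespace Groth.Agent.Lib.Helper5.Grass.PolySmooth

variable (R : Type u) [CommRing R] (σ : Type) [Finite σ]

/-- the presentation of `R[σ]/(∅)` with no relations -/
noncomputable def preSub : PreSubmersivePresentation R
    (MvPolynomial σ R ⧸ (Ideal.span (Set.range (Empty.elim : Empty → MvPolynomial σ R)))) σ Empty :=
  PreSubmersivePresentation.naive (v := (Empty.elim : Empty → MvPolynomial σ R))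
    (Empty.elim : Empty → σ) (fun a => a.elim)

noncomputable def sub : SubmersivePresentation R
    (MvPolynomial σ R ⧸ (Ideal.span (Set.range (Empty.elim : Empty → MvPolynomial σ R)))) σ Empty where
  toPreSubmersivePresentation := preSub R σ
  jacobian_isUnit := by
    classical
    letI : Fintype Empty := inferInstance
    rw [PreSubmersivePresentation.jacobian_eq_jacobiMatrix_det, Matrix.det_isEmpty, map_one]
    exact isUnit_one

theorem isStandardSmoothOfRelativeDimension_mvPolynomial :
    Algebra.IsStandardSmoothOfRelativeDimension (Nat.card σ) R (MvPolynomial σ R) := by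
  have h1 : Algebra.IsStandardSmoothOfRelativeDimension (Nat.card σ) R
      (MvPolynomial σ R ⧸ (Ideal.span (Set.range (Empty.elim : Empty → MvPolynomial σ R)))) := by
    apply (sub R σ).isStandardSmoothOfRelativeDimension
    simp [Presentation.dimension]
  have hbot : Ideal.span (Set.range (Empty.elim : Empty → MvPolynomial σ R)) = ⊥ := by
    simp
  exact Algebra.IsStandardSmoothOfRelativeDimension.of_algEquiv (Nat.card σ)
    ((Ideal.quotientEquivAlgOfEq R hbot).trans (AlgEquiv.quotientBot R (MvPolynomial σ R)))

end Groth.Agent.Lib.Helper5.Grass.PolySmooth
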