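import Mathlib

/-!
# Grassmannian points: general lemmas (helper5)
-/

set_option autoImplicit false
universe u
open TensorProduct Module Module.Grassmannian TensorProduct.AlgebraTensorModule

namespace Groth.Agent.Lib.Helper5.Grass.GrAlg1

section Gen
variable {R : Type u} [CommRing R] {M : Type u} [AddCommGroup M] [Module R M] {k : ℕ}

/-- two Grassmannian points with `N₁ ≤ N₂` are equal -/
theorem eq_of_le {B : Type u} [CommRing B] {P : Type u} [AddCommGroup P] [Module B P]
    (N₁ N₂ : G(k, P; B)) (h : N₁.toSubmodule ≤ N₂.toSubmodule) : N₁ = N₂ := by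
  apply Module.Grassmannian.ext
  apply le_antisymm h
  let φ : (P ⧸ N₁.toSubmodule) →ₗ[B] (P ⧸ N₂.toSubmodule) :=
    Submodule.mapQ N₁.toSubmodule N₂.toSubmodule LinearMap.id h
  have hs : Function.Surjective φ := by
    intro y
    obtain ⟨p, rfl⟩ := Submodule.Quotient.mk_surjective _ y
    exact ⟨Submodule.Quotient.mk p, rfl⟩
  have hb : Function.Bijective φ := by
    apply Module.bijective_of_surjective_of_rankAtStalk_eq hs
    intro m _
    rw [N₁.rankAtStalk_eq, N₂.rankAtStalk_eq]
  intro x hx
  have h0 : φ (Submodule.Quotient.mk x) = 0 := by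
    show Submodule.Quotient.mk (LinearMap.id x) = (0 : P ⧸ N₂.toSubmodule)
    exact (Submodule.Quotient.mk_eq_zero _).2 hx
  have h1 : (Submodule.Quotient.mk x : P ⧸ N₁.toSubmodule) = 0 := hb.1 (by rw [h0, map_zero])
  exact (Submodule.Quotient.mk_eq_zero _).1 h1

variable {A B : Type u} [CommRing A] [CommRing B] [Algebra R A] [Algebra R B]

/-- the base-change map `A ⊗ M → B ⊗ M` along `f : A →ₐ[R] B` -/
noncomputable def bc (f : A →ₐ[R] B) : A ⊗[R] M →ₗ[R] B ⊗[R] M := f.toLinearMap.rTensor M

@[simp] theorem bc_tmul (f : A →ₐ[R] B) (a : A) (m : M) : bc f (a ⊗ₜ[R] m) = f a ⊗ₜ m := rfl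

theorem bc_smul (f : A →ₐ[R] B) (a : A) (x : A ⊗[R] M) : bc f (a • x) = f a • bc f x := by
  induction x using TensorProduct.induction_on with
  | zero => simp
  | tmul a' m => simp [smul_tmul', bc_tmul]
  | add x y hx hy => rw [smul_add, map_add, hx, hy, map_add, smul_add]

theorem cancel_symm_bc (f : A →ₐ[R] B) (x : A ⊗[R] M) :
    letI : Algebra A B := f.toAlgebra
    letI : IsScalarTower R A B := IsScalarTower.of_algebraMap_eq' <| IsScalarTower.algebraMap_eq R A B
    (cancelBaseChange R A B B M).symm (bc f x) = (1 : B) ⊗ₜ[A] x := by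
  letI : Algebra A B := f.toAlgebra
  letI : IsScalarTower R A B := IsScalarTower.of_algebraMap_eq' <| IsScalarTower.algebraMap_eq R A B
  induction x using TensorProduct.induction_on with
  | zero => simp
  | tmul a m =>
    rw [bc_tmul, cancelBaseChange_symm_tmul]
    have h1 : (a ⊗ₜ[R] m : A ⊗[R] M) = a • ((1 : A) ⊗ₜ[R] m) := by
      rw [smul_tmul', smul_eq_mul, mul_one]
    rw [h1, ← TensorProduct.smul_tmul]
    congr 1
    show f a = a • (1 : B)
    rw [Algebra.smul_def, mul_one]
    rfl
  | add x y hx hy => rw [map_add, map_add, hx, hy, tmul_add]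

/-- the image of a point of `N` lies in `map f N` -/
theorem bc_mem_map (f : A →ₐ[R] B) (N : G(k, A ⊗[R] M; A)) (x : A ⊗[R] M)
    (hx : x ∈ N.toSubmodule) : bc f x ∈ (Module.Grassmannian.map f N).toSubmodule := by
  letI : Algebra A B := f.toAlgebra
  letI : IsScalarTower R A B := IsScalarTower.of_algebraMap_eq' <| IsScalarTower.algebraMap_eq R A B
  rw [map_toSubmodule, LinearMap.mem_ker]
  show (N.toSubmodule.mkQ.baseChange B) ((cancelBaseChange R A B B M).symm (bc f x)) = 0
  rw [cancel_symm_bc, LinearMap.baseChange_tmul]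
  have : N.toSubmodule.mkQ x = 0 := (Submodule.Quotient.mk_eq_zero _).2 hx
  rw [this, tmul_zero]

/-- `map f N` is the smallest submodule containing the image of `N` -/
theorem map_le_iff (f : A →ₐ[R] B) (N : G(k, A ⊗[R] M; A)) (L : Submodule B (B ⊗[R] M)) :
    (Module.Grassmannian.map f N).toSubmodule ≤ L ↔ ∀ x ∈ N.toSubmodule, bc f x ∈ L := by
  constructor
  · intro h x hx
    exact h (bc_mem_map f N x hx)
  · intro h
    letI : Algebra A B := f.toAlgebra
    letI : IsScalarTower R A B :=
      IsScalarTower.of_algebraMap_eq' <| IsScalarTower.algebraMap_eq R A B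
    intro y hy
    rw [map_toSubmodule, LinearMap.mem_ker] at hy
    have hy' : (N.toSubmodule.mkQ.baseChange B) ((cancelBaseChange R A B B M).symm y) = 0 := hy
    have hmem : (cancelBaseChange R A B B M).symm y ∈
        LinearMap.ker (LinearMap.lTensor B N.toSubmodule.mkQ) := by
      rw [LinearMap.mem_ker]
      exact hy'
    rw [lTensor_mkQ] at hmem
    obtain ⟨z, hz0⟩ := hmem
    have hz : (N.toSubmodule.subtype.baseChange B) z = (cancelBaseChange R A B B M).symm y := hz0
    clear hz0
    have hy2 : y = cancelBaseChange R A B B M (N.toSubmodule.subtype.baseChange B z) := by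
      rw [hz, LinearEquiv.apply_symm_apply]
    rw [hy2]
    clear hy2 hz hy' hy
    induction z using TensorProduct.induction_on with
    | zero => simp
    | tmul b n =>
      rw [LinearMap.baseChange_tmul]
      have h2 : (b ⊗ₜ[A] (N.toSubmodule.subtype n) : B ⊗[A] (A ⊗[R] M)) =
          b • ((1 : B) ⊗ₜ[A] (n : A ⊗[R] M)) := by
        rw [smul_tmul', smul_eq_mul, mul_one]; rfl
      rw [h2, map_smul, ← cancel_symm_bc, LinearEquiv.apply_symm_apply]
      exact L.smul_mem b (h _ n.2)
    | add z w ihz ihw =>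
      rw [map_add, map_add]
      exact L.add_mem ihz ihw

end Gen

end Groth.Agent.Lib.Helper5.Grass.GrAlg1
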