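import Mathlib
import Groth.Agent.Lib.Helper5.Grass.GrAlg1

/-!
# Pulling back Grassmannian points along a surjection of modules (helper5)
-/

set_option autoImplicit false
universe u
open TensorProduct Module Module.Grassmannian TensorProduct.AlgebraTensorModule

noncomputable section

namespace Groth.Agent.Lib.Helper5.Grass.GrComap

open Groth.Agent.Lib.Helper5.Grass.GrAlg1

variable {R : Type u} [CommRing R] {M₁ M₂ : Type u} [AddCommGroup M₁] [Module R M₁]
  [AddCommGroup M₂] [Module R M₂] {k : ℕ} (v : M₁ →ₗ[R] M₂) (hv : Function.Surjective v)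

/-- the preimage of a Grassmannian point under a surjection -/
def comapG (A : Type u) [CommRing A] [Algebra R A] (N : G(k, A ⊗[R] M₂; A)) :
    G(k, A ⊗[R] M₁; A) :=
  haveI hL : Function.Surjective (N.toSubmodule.mkQ ∘ₗ v.baseChange A) :=
    (Submodule.mkQ_surjective _).comp (LinearMap.baseChange_surjective A hv)
  haveI equiv := (N.toSubmodule.mkQ ∘ₗ v.baseChange A).quotKerEquivOfSurjective hL
  { toSubmodule := LinearMap.ker (N.toSubmodule.mkQ ∘ₗ v.baseChange A)
    finite_quotient := Module.Finite.equiv equiv.symm
    projective_quotient := Module.Projective.of_equiv equiv.symm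
    rankAtStalk_eq := fun p => by
      rw [Module.rankAtStalk_eq_of_equiv equiv]
      exact N.rankAtStalk_eq p }

theorem comapG_toSubmodule (A : Type u) [CommRing A] [Algebra R A] (N : G(k, A ⊗[R] M₂; A)) :
    (comapG v hv A N).toSubmodule = N.toSubmodule.comap (v.baseChange A) := by
  show LinearMap.ker (N.toSubmodule.mkQ ∘ₗ v.baseChange A) = _
  rw [LinearMap.ker_comp, Submodule.ker_mkQ]

theorem baseChange_bc {A B : Type u} [CommRing A] [CommRing B] [Algebra R A] [Algebra R B]
    (f : A →ₐ[R] B) (x : A ⊗[R] M₁) :
    v.baseChange B (bc f x) = bc f (v.baseChange A x) := by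
  induction x using TensorProduct.induction_on with
  | zero => simp
  | tmul a m => simp [bc_tmul, LinearMap.baseChange_tmul]
  | add x y hx hy => rw [map_add, map_add, hx, hy, map_add, map_add]

/-- naturality of the preimage -/
theorem map_comapG {A B : Type u} [CommRing A] [CommRing B] [Algebra R A] [Algebra R B]
    (f : A →ₐ[R] B) (N : G(k, A ⊗[R] M₂; A)) :
    Module.Grassmannian.map f (comapG v hv A N) = comapG v hv B (Module.Grassmannian.map f N) := by
  apply eq_of_le
  rw [map_le_iff]
  intro x hx
  rw [comapG_toSubmodule, Submodule.mem_comap] at hx ⊢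
  rw [baseChange_bc]
  exact bc_mem_map f N _ hx

theorem comapG_injective (A : Type u) [CommRing A] [Algebra R A] :
    Function.Injective (comapG (k := k) v hv A) := by
  intro N N' h
  apply Module.Grassmannian.ext
  have h2 := congrArg Module.Grassmannian.toSubmodule h
  rw [comapG_toSubmodule, comapG_toSubmodule] at h2
  exact Submodule.comap_injective_of_surjective (LinearMap.baseChange_surjective A hv) h2

/-- the equivalence of Grassmannian points induced by a linear equivalence -/
def equivG (φ : M₁ ≃ₗ[R] M₂) (A : Type u) [CommRing A] [Algebra R A] :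
    G(k, A ⊗[R] M₁; A) ≃ G(k, A ⊗[R] M₂; A) where
  toFun := comapG φ.symm.toLinearMap φ.symm.surjective A
  invFun := comapG φ.toLinearMap φ.surjective A
  left_inv N := by
    apply Module.Grassmannian.ext
    rw [comapG_toSubmodule, comapG_toSubmodule, ← Submodule.comap_comp,
      ← LinearMap.baseChange_comp]
    have : φ.symm.toLinearMap ∘ₗ φ.toLinearMap = LinearMap.id := by
      ext x; simp
    rw [this, LinearMap.baseChange_id, Submodule.comap_id]
  right_inv N := by
    apply Module.Grassmannian.ext
    rw [comapG_toSubmodule, comapG_toSubmodule, ← Submodule.comap_comp,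
      ← LinearMap.baseChange_comp]
    have : φ.toLinearMap ∘ₗ φ.symm.toLinearMap = LinearMap.id := by
      ext x; simp
    rw [this, LinearMap.baseChange_id, Submodule.comap_id]

theorem map_equivG (φ : M₁ ≃ₗ[R] M₂) {A B : Type u} [CommRing A] [CommRing B] [Algebra R A]
    [Algebra R B] (f : A →ₐ[R] B) (N : G(k, A ⊗[R] M₁; A)) :
    Module.Grassmannian.map f (equivG φ A N) = equivG φ B (Module.Grassmannian.map f N) :=
  map_comapG φ.symm.toLinearMap φ.symm.surjective f N

end Groth.Agent.Lib.Helper5.Grass.GrComap

end
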