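import Mathlib
import Groth.Agent.Lib.Helper5.Grass.GrComap

/-!
# The closed condition "N contains given elements" on Grassmannian points (helper5)
-/

set_option autoImplicit false
universe u
open TensorProduct Module Module.Grassmannian TensorProduct.AlgebraTensorModule

noncomputable section

namespace Groth.Agent.Lib.Helper5.Grass.GrObs

open Groth.Agent.Lib.Helper5.Grass.GrAlg1 Groth.Agent.Lib.Helper5.Grass.GrComap

section Dual
variable {C : Type u} [CommRing C] {Q : Type u} [AddCommGroup Q] [Module C Q]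
  [Module.Finite C Q] [Module.Projective C Q] (D : Type u) [CommRing D] [Algebra C D]

/-- vanishing of `1 ⊗ q` in `D ⊗ Q` is detected by the linear forms on `Q` -/
theorem one_tmul_eq_zero_iff (q : Q) :
    ((1 : D) ⊗ₜ[C] q = 0) ↔ ∀ l : Q →ₗ[C] C, algebraMap C D (l q) = 0 := by
  constructor
  · intro h l
    have h2 := congrArg (fun t => TensorProduct.rid C D (l.baseChange D t)) h
    simp only [LinearMap.baseChange_tmul, TensorProduct.rid_tmul, map_zero] at h2
    rw [Algebra.algebraMap_eq_smul_one]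
    exact h2
  · intro h
    obtain ⟨n, f, g, -, -, hfg⟩ := Module.Finite.exists_comp_eq_id_of_projective C Q
    have h1 : q = ∑ k, (g q k) • f (fun j => if k = j then 1 else 0) := by
      rw [← LinearMap.pi_apply_eq_sum_univ f (g q)]
      exact (LinearMap.congr_fun hfg q).symm
    rw [h1, TensorProduct.tmul_sum]
    refine Finset.sum_eq_zero fun k _ => ?_
    rw [← TensorProduct.smul_tmul, Algebra.smul_def]
    have := h ((LinearMap.proj k) ∘ₗ g)
    simp only [LinearMap.comp_apply, LinearMap.proj_apply] at this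
    rw [this, zero_mul, TensorProduct.zero_tmul]

end Dual

section Obs
variable {R : Type u} [CommRing R] {M : Type u} [AddCommGroup M] [Module R M] {k : ℕ}
  (K : Set M)

/-- the obstruction ideal for a submodule to contain the elements `1 ⊗ κ`, `κ ∈ K` -/
def obsK {C : Type u} [CommRing C] [Algebra R C] (N : Submodule C (C ⊗[R] M)) : Ideal C :=
  Ideal.span {c | ∃ (κ : M) (_ : κ ∈ K) (l : ((C ⊗[R] M) ⧸ N) →ₗ[C] C),
    c = l (N.mkQ ((1 : C) ⊗ₜ[R] κ))}

theorem one_tmul_mem_map_iff {C D : Type u} [CommRing C] [CommRing D] [Algebra R C] [Algebra R D]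
    (f : C →ₐ[R] D) (N : G(k, C ⊗[R] M; C)) (κ : M) :
    ((1 : D) ⊗ₜ[R] κ ∈ (Module.Grassmannian.map f N).toSubmodule) ↔
      ∀ l : ((C ⊗[R] M) ⧸ N.toSubmodule) →ₗ[C] C,
        f (l (N.toSubmodule.mkQ ((1 : C) ⊗ₜ[R] κ))) = 0 := by
  letI : Algebra C D := f.toAlgebra
  letI : IsScalarTower R C D := IsScalarTower.of_algebraMap_eq' <| IsScalarTower.algebraMap_eq R C D
  rw [map_toSubmodule, LinearMap.mem_ker]
  have h1 : baseChangeMkQ D N.toSubmodule ((1 : D) ⊗ₜ[R] κ) =
      (1 : D) ⊗ₜ[C] (N.toSubmodule.mkQ ((1 : C) ⊗ₜ[R] κ)) := by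
    simp [baseChangeMkQ, cancelBaseChange_symm_tmul, LinearMap.baseChange_tmul]
  rw [h1, one_tmul_eq_zero_iff]
  rfl

/-- the closed condition is cut out by the obstruction ideal -/
theorem obsK_le_ker_iff {C D : Type u} [CommRing C] [CommRing D] [Algebra R C] [Algebra R D]
    (f : C →ₐ[R] D) (N : G(k, C ⊗[R] M; C)) :
    obsK K N.toSubmodule ≤ RingHom.ker (f : C →+* D) ↔
      ∀ κ ∈ K, (1 : D) ⊗ₜ[R] κ ∈ (Module.Grassmannian.map f N).toSubmodule := by
  constructor
  · intro h κ hκ
    rw [one_tmul_mem_map_iff]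
    intro l
    have : l (N.toSubmodule.mkQ ((1 : C) ⊗ₜ[R] κ)) ∈ obsK K N.toSubmodule :=
      Ideal.subset_span ⟨κ, hκ, l, rfl⟩
    exact h this
  · intro h
    refine Ideal.span_le.2 ?_
    rintro c ⟨κ, hκ, l, rfl⟩
    exact (one_tmul_mem_map_iff f N κ).1 (h κ hκ) l

end Obs

section Ker
variable {R : Type u} [CommRing R] {M₁ M₂ : Type u} [AddCommGroup M₁] [Module R M₁]
  [AddCommGroup M₂] [Module R M₂] {k : ℕ} (v : M₁ →ₗ[R] M₂) (hv : Function.Surjective v)
  (E : Type u) [CommRing E] [Algebra R E]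

include hv in
/-- the kernel of the base change of a surjection is generated by the `1 ⊗ κ` -/
theorem ker_baseChange_le_iff (L : Submodule E (E ⊗[R] M₁)) :
    LinearMap.ker (v.baseChange E) ≤ L ↔
      ∀ κ ∈ LinearMap.ker v, (1 : E) ⊗ₜ[R] κ ∈ L := by
  constructor
  · intro h κ hκ
    apply h
    rw [LinearMap.mem_ker, LinearMap.baseChange_tmul, LinearMap.mem_ker.1 hκ, tmul_zero]
  · intro h x hx
    have hmem : x ∈ LinearMap.ker (LinearMap.lTensor E v) := by
      rw [LinearMap.mem_ker]
      exact hx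
    have hex := lTensor_exact E (LinearMap.exact_subtype_ker_map v) hv
    rw [LinearMap.exact_iff] at hex
    rw [hex] at hmem
    obtain ⟨z, hz⟩ := hmem
    clear hx
    rw [← hz]
    clear hz
    induction z using TensorProduct.induction_on with
    | zero => simp
    | tmul e κ =>
      rw [LinearMap.lTensor_tmul]
      have : (e ⊗ₜ[R] ((LinearMap.ker v).subtype κ) : E ⊗[R] M₁) =
          e • ((1 : E) ⊗ₜ[R] (κ : M₁)) := by
        rw [smul_tmul', smul_eq_mul, mul_one]; rfl
      rw [this]
      exact L.smul_mem e (h _ κ.2)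
    | add z w ihz ihw =>
      rw [map_add]
      exact L.add_mem ihz ihw

/-- the image of a Grassmannian point containing the kernel -/
def pushG (N : G(k, E ⊗[R] M₁; E))
    (hN : LinearMap.ker (v.baseChange E) ≤ N.toSubmodule) : G(k, E ⊗[R] M₂; E) :=
  haveI hL : Function.Surjective ((N.toSubmodule.map (v.baseChange E)).mkQ ∘ₗ v.baseChange E) :=
    (Submodule.mkQ_surjective _).comp (LinearMap.baseChange_surjective E hv)
  haveI hker : LinearMap.ker ((N.toSubmodule.map (v.baseChange E)).mkQ ∘ₗ v.baseChange E) =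
      N.toSubmodule := by
    rw [LinearMap.ker_comp, Submodule.ker_mkQ, Submodule.comap_map_eq, sup_eq_left.2 hN]
  haveI equiv : ((E ⊗[R] M₁) ⧸ N.toSubmodule) ≃ₗ[E]
      ((E ⊗[R] M₂) ⧸ (N.toSubmodule.map (v.baseChange E))) :=
    (Submodule.quotEquivOfEq _ _ hker.symm).trans
      (((N.toSubmodule.map (v.baseChange E)).mkQ ∘ₗ v.baseChange E).quotKerEquivOfSurjective hL)
  { toSubmodule := N.toSubmodule.map (v.baseChange E)
    finite_quotient := Module.Finite.equiv equiv
    projective_quotient := Module.Projective.of_equiv equiv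
    rankAtStalk_eq := fun p => by
      rw [← Module.rankAtStalk_eq_of_equiv equiv]
      exact N.rankAtStalk_eq p }

theorem comapG_pushG (N : G(k, E ⊗[R] M₁; E))
    (hN : LinearMap.ker (v.baseChange E) ≤ N.toSubmodule) :
    comapG v hv E (pushG v hv E N hN) = N := by
  apply Module.Grassmannian.ext
  rw [comapG_toSubmodule]
  show (N.toSubmodule.map (v.baseChange E)).comap (v.baseChange E) = _
  rw [Submodule.comap_map_eq, sup_eq_left.2 hN]

theorem ker_le_comapG (N : G(k, E ⊗[R] M₂; E)) :
    LinearMap.ker (v.baseChange E) ≤ (comapG v hv E N).toSubmodule := by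
  rw [comapG_toSubmodule]
  intro x hx
  rw [Submodule.mem_comap, LinearMap.mem_ker.1 hx]
  exact zero_mem _

end Ker

end Groth.Agent.Lib.Helper5.Grass.GrObs

end
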