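import Mathlib

/-!
# Schemes are determined by their affine points (helper5)

Generic lemmas: morphisms agree iff they agree on affine points; natural transformations of
affine points glue to morphisms; criteria for isomorphisms / open immersions / closed immersions
in terms of affine points.
-/

set_option autoImplicit false
universe u
open CategoryTheory CategoryTheory.Limits AlgebraicGeometry TopologicalSpace Opposite

namespace Groth.Agent.Lib.Helper5.Grass.AffYoneda

/-- two morphisms agree iff they agree on all affine points -/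
theorem hom_ext_of_affine {X Y : Scheme.{u}} (f g : X ⟶ Y)
    (h : ∀ (B : CommRingCat.{u}) (t : Spec B ⟶ X), t ≫ f = t ≫ g) : f = g := by
  apply X.affineOpenCover.openCover.hom_ext
  intro i
  exact h _ _

/-- a morphism injective on affine points is a monomorphism -/
theorem mono_of_affine {X Y : Scheme.{u}} (j : Y ⟶ X)
    (h : ∀ (B : CommRingCat.{u}) (a b : Spec B ⟶ Y), a ≫ j = b ≫ j → a = b) : Mono j := by
  refine ⟨fun {Z} a b hab => ?_⟩
  apply hom_ext_of_affine
  intro B t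
  apply h
  rw [Category.assoc, Category.assoc, hab]

/-- a natural family of maps on affine points comes from a unique morphism -/
theorem exists_hom_of_natural {X Y : Scheme.{u}}
    (τ : ∀ (B : CommRingCat.{u}), (Spec B ⟶ X) → (Spec B ⟶ Y))
    (hτ : ∀ (B B' : CommRingCat.{u}) (φ : B ⟶ B') (t : Spec B ⟶ X),
      τ B' (Spec.map φ ≫ t) = Spec.map φ ≫ τ B t) :
    ∃ c : X ⟶ Y, ∀ (B : CommRingCat.{u}) (t : Spec B ⟶ X), τ B t = t ≫ c := by
  have hτ' : ∀ (B B' : CommRingCat.{u}) (s : Spec B' ⟶ Spec B) (t : Spec B ⟶ X),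
      τ B' (s ≫ t) = s ≫ τ B t := by
    intro B B' s t
    have := hτ B B' (Spec.preimage s) t
    rwa [Spec.map_preimage] at this
  let 𝒜 := X.affineOpenCover
  let 𝒰 := 𝒜.openCover
  let c₀ : ∀ i, 𝒰.X i ⟶ Y := fun i => τ (𝒜.X i) (𝒜.f i)
  have hcompat : ∀ i j, pullback.fst (𝒰.f i) (𝒰.f j) ≫ c₀ i =
      pullback.snd (𝒰.f i) (𝒰.f j) ≫ c₀ j := by
    intro i j
    apply hom_ext_of_affine
    intro B t
    have e1 : (t ≫ pullback.fst (𝒰.f i) (𝒰.f j)) ≫ c₀ i =
        τ B ((t ≫ pullback.fst (𝒰.f i) (𝒰.f j)) ≫ 𝒜.f i) := (hτ' _ _ _ _).symm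
    have e2 : (t ≫ pullback.snd (𝒰.f i) (𝒰.f j)) ≫ c₀ j =
        τ B ((t ≫ pullback.snd (𝒰.f i) (𝒰.f j)) ≫ 𝒜.f j) := (hτ' _ _ _ _).symm
    rw [← Category.assoc, ← Category.assoc, e1, e2]
    congr 1
    rw [Category.assoc, Category.assoc]
    congr 1
    exact pullback.condition
  refine ⟨𝒰.glueMorphisms c₀ hcompat, ?_⟩
  intro B t
  -- check on an affine refinement of the pulled-back cover
  let 𝒱 := (𝒰.pullback₁ t)
  apply (𝒱.bind (fun i => (𝒱.X i).affineOpenCover.openCover)).hom_ext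
  rintro ⟨i, k⟩
  let E : CommRingCat.{u} := (𝒱.X i).affineOpenCover.X k
  obtain ⟨w, hwdef⟩ : ∃ w : Spec E ⟶ Spec B, w = ((𝒱.X i).affineOpenCover.f k) ≫ 𝒱.f i := ⟨_, rfl⟩
  obtain ⟨a, hadef⟩ : ∃ a : Spec E ⟶ Spec (𝒜.X i),
      a = ((𝒱.X i).affineOpenCover.f k) ≫ pullback.snd t (𝒰.f i) := ⟨_, rfl⟩
  have hw : w ≫ t = a ≫ 𝒜.f i := by
    rw [hwdef, hadef]
    have hc : 𝒱.f i ≫ t = pullback.snd t (𝒰.f i) ≫ 𝒜.f i := pullback.condition (f := t) (g := 𝒰.f i)
    rw [Category.assoc, hc]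
    exact (Category.assoc _ _ _).symm
  show ((𝒱.X i).affineOpenCover.f k ≫ 𝒱.f i) ≫ τ B t = ((𝒱.X i).affineOpenCover.f k ≫ 𝒱.f i) ≫ t ≫ _
  rw [← hwdef]
  have e1 : w ≫ τ B t = τ E (w ≫ t) := (hτ' _ _ _ _).symm
  have e2 : τ E (a ≫ 𝒜.f i) = a ≫ c₀ i := hτ' _ _ _ _
  have e3 : 𝒜.f i ≫ 𝒰.glueMorphisms c₀ hcompat = c₀ i := 𝒰.ι_glueMorphisms c₀ hcompat i
  calc w ≫ τ B t = a ≫ c₀ i := by rw [e1, hw, e2]
    _ = a ≫ 𝒜.f i ≫ 𝒰.glueMorphisms c₀ hcompat := by rw [e3]
    _ = (w ≫ t) ≫ 𝒰.glueMorphisms c₀ hcompat := by rw [hw, Category.assoc]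
    _ = w ≫ t ≫ 𝒰.glueMorphisms c₀ hcompat := Category.assoc _ _ _

/-- a morphism bijective on affine points is an isomorphism -/
theorem isIso_of_affine_bijective {Y Z : Scheme.{u}} (h : Y ⟶ Z)
    (hb : ∀ (B : CommRingCat.{u}), Function.Bijective (fun t : Spec B ⟶ Y => t ≫ h)) :
    IsIso h := by
  have hsurj : ∀ (B : CommRingCat.{u}) (t : Spec B ⟶ Z), ∃ s : Spec B ⟶ Y, s ≫ h = t :=
    fun B t => (hb B).2 t
  choose inv hinv using hsurj
  have hinj : ∀ (B : CommRingCat.{u}) (a b : Spec B ⟶ Y), a ≫ h = b ≫ h → a = b :=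
    fun B a b hab => (hb B).1 hab
  obtain ⟨c, hc⟩ := exists_hom_of_natural (X := Z) (Y := Y) inv (by
    intro B B' φ t
    apply hinj
    rw [hinv, Category.assoc, hinv])
  refine ⟨c, ?_, ?_⟩
  · apply hom_ext_of_affine
    intro B t
    apply hinj
    have e1 : (t ≫ h) ≫ c = inv B (t ≫ h) := (hc B (t ≫ h)).symm
    rw [Category.assoc, Category.comp_id, ← Category.assoc, ← Category.assoc, e1, hinv]
  · apply hom_ext_of_affine
    intro B t
    rw [← Category.assoc, ← hc, hinv, Category.comp_id]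

/-- if `j : Y ⟶ X` is injective on affine points and a monomorphism `ι : Z ⟶ X` has "the same
affine points" (an affine point of `X` lifts to `Y` iff it lifts to `Z`) then `Y ≅ Z` over `X` -/
theorem exists_iso_of_affine {X Y Z : Scheme.{u}} (j : Y ⟶ X) (ι : Z ⟶ X) [Mono ι]
    (hj : ∀ (B : CommRingCat.{u}) (a b : Spec B ⟶ Y), a ≫ j = b ≫ j → a = b)
    (h : ∀ (B : CommRingCat.{u}) (t : Spec B ⟶ X),
      (∃ s : Spec B ⟶ Y, s ≫ j = t) ↔ ∃ s' : Spec B ⟶ Z, s' ≫ ι = t) :
    ∃ φ : Y ≅ Z, φ.hom ≫ ι = j := by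
  have hex : ∀ (B : CommRingCat.{u}) (s : Spec B ⟶ Y), ∃ s' : Spec B ⟶ Z, s' ≫ ι = s ≫ j :=
    fun B s => (h B (s ≫ j)).1 ⟨s, rfl⟩
  choose τ hτ using hex
  obtain ⟨j', hj'⟩ := exists_hom_of_natural (X := Y) (Y := Z) τ (by
    intro B B' φ t
    rw [← cancel_mono ι, hτ, Category.assoc, Category.assoc, hτ])
  have hfac : j' ≫ ι = j := by
    apply hom_ext_of_affine
    intro B t
    rw [← Category.assoc, ← hj', hτ]
  haveI : IsIso j' := by
    apply isIso_of_affine_bijective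
    intro B
    constructor
    · intro a b hab
      apply hj
      have := congrArg (fun m => m ≫ ι) hab
      simpa only [Category.assoc, hfac] using this
    · intro s'
      obtain ⟨s, hs⟩ := (h B (s' ≫ ι)).2 ⟨s', rfl⟩
      refine ⟨s, ?_⟩
      rw [← cancel_mono ι]
      show (s ≫ j') ≫ ι = s' ≫ ι
      rw [Category.assoc, hfac, hs]
  exact ⟨asIso j', hfac⟩

/-- injectivity on affine points passes to base changes -/
theorem snd_inj_of_inj {X Y T : Scheme.{u}} (j : Y ⟶ X) (t : T ⟶ X)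
    (hj : ∀ (B : CommRingCat.{u}) (a b : Spec B ⟶ Y), a ≫ j = b ≫ j → a = b)
    (E : CommRingCat.{u}) (a b : Spec E ⟶ pullback j t)
    (hab : a ≫ pullback.snd j t = b ≫ pullback.snd j t) : a = b := by
  apply pullback.hom_ext _ hab
  apply hj
  rw [Category.assoc, Category.assoc, pullback.condition, ← Category.assoc, ← Category.assoc, hab]

theorem exists_lift_snd_iff {X Y T : Scheme.{u}} (j : Y ⟶ X) (t : T ⟶ X)
    {E : CommRingCat.{u}} (s : Spec E ⟶ T) :
    (∃ w : Spec E ⟶ pullback j t, w ≫ pullback.snd j t = s) ↔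
      ∃ y : Spec E ⟶ Y, y ≫ j = s ≫ t := by
  constructor
  · rintro ⟨w, rfl⟩
    exact ⟨w ≫ pullback.fst j t, by rw [Category.assoc, Category.assoc, pullback.condition]⟩
  · rintro ⟨y, hy⟩
    exact ⟨pullback.lift y s hy, pullback.lift_snd _ _ _⟩

/-- **open immersion criterion**: `j` is injective on affine points, and locally on the target the
affine points that lift are those inverting a function `d`. -/
theorem isOpenImmersion_of_charts {X Y : Scheme.{u}} (j : Y ⟶ X)
    (hj : ∀ (B : CommRingCat.{u}) (a b : Spec B ⟶ Y), a ≫ j = b ≫ j → a = b)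
    (hcov : ∀ x : X, ∃ (B : CommRingCat.{u}) (t : Spec B ⟶ X), IsOpenImmersion t ∧
      x ∈ Set.range t ∧ ∃ d : B, ∀ (E : CommRingCat.{u}) (σ : B ⟶ E),
        (∃ s : Spec E ⟶ Y, s ≫ j = Spec.map σ ≫ t) ↔ IsUnit (σ.hom d)) :
    IsOpenImmersion j := by
  choose B t ht hx d hd using hcov
  let 𝒰 : X.OpenCover := Scheme.Cover.mkOfCovers X (fun x => Spec (B x)) t
    (fun x => by obtain ⟨y, hy⟩ := hx x; exact ⟨x, y, hy⟩) ht
  apply IsZariskiLocalAtTarget.of_openCover (P := @IsOpenImmersion) 𝒰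
  intro x
  show IsOpenImmersion (pullback.snd j (t x))
  let ι : Spec (CommRingCat.of (Localization.Away (d x))) ⟶ Spec (B x) :=
    Spec.map (CommRingCat.ofHom (algebraMap (B x) (Localization.Away (d x))))
  haveI : IsOpenImmersion ι := inferInstance
  obtain ⟨φ, hφ⟩ := exists_iso_of_affine (pullback.snd j (t x)) ι
    (snd_inj_of_inj j (t x) hj) (by
    intro E s
    rw [exists_lift_snd_iff]
    obtain ⟨σ, rfl⟩ : ∃ σ, s = Spec.map σ := ⟨Spec.preimage s, (Spec.map_preimage s).symm⟩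
    rw [hd x E σ]
    constructor
    · intro hu
      refine ⟨Spec.map (CommRingCat.ofHom (IsLocalization.Away.lift (d x) hu)), ?_⟩
      rw [← Spec.map_comp]
      congr 1
      ext b
      exact IsLocalization.Away.lift_eq (d x) hu b
    · rintro ⟨s', hs'⟩
      obtain ⟨σ', rfl⟩ : ∃ σ', s' = Spec.map σ' := ⟨Spec.preimage s', (Spec.map_preimage s').symm⟩
      rw [← Spec.map_comp] at hs'
      have h1 := Spec.map_injective hs'
      have h2 : σ.hom (d x) = σ'.hom (algebraMap (B x) (Localization.Away (d x)) (d x)) := by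
        rw [← h1]; rfl
      rw [h2]
      exact (IsLocalization.Away.algebraMap_isUnit (d x)).map σ'.hom)
  rw [← hφ]
  infer_instance

/-- **closed immersion criterion**: `j` is injective on affine points, and locally on the target
the affine points that lift are those killing an ideal `J`. -/
theorem isClosedImmersion_of_charts {X Y : Scheme.{u}} (j : Y ⟶ X)
    (hj : ∀ (B : CommRingCat.{u}) (a b : Spec B ⟶ Y), a ≫ j = b ≫ j → a = b)
    (hcov : ∀ x : X, ∃ (B : CommRingCat.{u}) (t : Spec B ⟶ X), IsOpenImmersion t ∧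
      x ∈ Set.range t ∧ ∃ J : Ideal B, ∀ (E : CommRingCat.{u}) (σ : B ⟶ E),
        (∃ s : Spec E ⟶ Y, s ≫ j = Spec.map σ ≫ t) ↔ J ≤ RingHom.ker σ.hom) :
    IsClosedImmersion j := by
  choose B t ht hx J hJ using hcov
  let 𝒰 : X.OpenCover := Scheme.Cover.mkOfCovers X (fun x => Spec (B x)) t
    (fun x => by obtain ⟨y, hy⟩ := hx x; exact ⟨x, y, hy⟩) ht
  apply IsZariskiLocalAtTarget.of_openCover (P := @IsClosedImmersion) 𝒰
  intro x
  show IsClosedImmersion (pullback.snd j (t x))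
  let ι : Spec (CommRingCat.of ((B x) ⧸ J x)) ⟶ Spec (B x) :=
    Spec.map (CommRingCat.ofHom (Ideal.Quotient.mk (J x)))
  haveI : IsClosedImmersion ι :=
    IsClosedImmersion.spec_of_surjective _ Ideal.Quotient.mk_surjective
  obtain ⟨φ, hφ⟩ := exists_iso_of_affine (pullback.snd j (t x)) ι
    (snd_inj_of_inj j (t x) hj) (by
    intro E s
    rw [exists_lift_snd_iff]
    obtain ⟨σ, rfl⟩ : ∃ σ, s = Spec.map σ := ⟨Spec.preimage s, (Spec.map_preimage s).symm⟩
    rw [hJ x E σ]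
    constructor
    · intro hle
      refine ⟨Spec.map (CommRingCat.ofHom (Ideal.Quotient.lift (J x) σ.hom
        (fun a ha => RingHom.mem_ker.1 (hle ha)))), ?_⟩
      rw [← Spec.map_comp]
      congr 1
    · rintro ⟨s', hs'⟩
      obtain ⟨σ', rfl⟩ : ∃ σ', s' = Spec.map σ' := ⟨Spec.preimage s', (Spec.map_preimage s').symm⟩
      rw [← Spec.map_comp] at hs'
      have h1 := Spec.map_injective hs'
      intro a ha
      rw [RingHom.mem_ker, ← h1]
      show σ'.hom (Ideal.Quotient.mk (J x) a) = 0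
      rw [Ideal.Quotient.eq_zero_iff_mem.2 ha, map_zero])
  rw [← hφ]
  infer_instance

end Groth.Agent.Lib.Helper5.Grass.AffYoneda
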