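import Mathlib

/-!
# Affine points of a scheme representing a functor on `R`-algebras (helper5)

(The first definitions follow helper4's `GrassClosed1`, for an arbitrary functor.)
-/

set_option autoImplicit false
universe u
open CategoryTheory CategoryTheory.Limits AlgebraicGeometry TopologicalSpace Opposite

namespace Groth.Agent.Lib.Helper5.Grass.Pts

variable {R : Type u} [CommRing R] (X : Over (Spec (CommRingCat.of R)))

/-- the affine test object -/
noncomputable abbrev SpecO (B : CommAlgCat.{u} R) : Over (Spec (CommRingCat.of R)) :=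
  Over.mk (Spec.map (CommRingCat.ofHom (algebraMap R B)))

/-- the structure map of an affine point -/
noncomputable def rho {E : CommRingCat.{u}} (y : Spec E ⟶ X.left) : CommRingCat.of R ⟶ E :=
  Spec.preimage (y ≫ X.hom)

theorem map_rho {E : CommRingCat.{u}} (y : Spec E ⟶ X.left) :
    Spec.map (rho X y) = y ≫ X.hom := Spec.map_preimage _

noncomputable abbrev algOf {E : CommRingCat.{u}} (y : Spec E ⟶ X.left) : Algebra R E :=
  (rho X y).hom.toAlgebra

/-- the `R`-algebra of an affine point -/
noncomputable def objOf {E : CommRingCat.{u}} (y : Spec E ⟶ X.left) : CommAlgCat.{u} R :=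
  @CommAlgCat.of R _ E _ (algOf X y)

/-- an affine point as a morphism over `Spec R` -/
noncomputable def ptOf {E : CommRingCat.{u}} (y : Spec E ⟶ X.left) : SpecO (objOf X y) ⟶ X :=
  Over.homMk y (map_rho X y).symm

theorem ptOf_left {E : CommRingCat.{u}} (y : Spec E ⟶ X.left) : (ptOf X y).left = y := rfl

variable {F : CommAlgCat.{u} R ⥤ Type u}
variable (eX : ∀ B : CommAlgCat.{u} R, (SpecO B ⟶ X) ≃ F.obj B)
  (heX : ∀ (B C : CommAlgCat.{u} R) (φ' : B ⟶ C) (g : SpecO B ⟶ X) (g' : SpecO C ⟶ X),
      g'.left = Spec.map (CommRingCat.ofHom φ'.hom.toRingHom) ≫ g.left →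
        eX C g' = F.map φ' (eX B g))

/-- the functor value of an affine point -/
noncomputable def valOf {E : CommRingCat.{u}} (y : Spec E ⟶ X.left) : F.obj (objOf X y) :=
  eX (objOf X y) (ptOf X y)

include heX in
/-- the value of a composite affine point -/
theorem transfer (B : CommAlgCat.{u} R) (g : SpecO B ⟶ X) {E : CommRingCat.{u}}
    (y : Spec E ⟶ X.left) (ξ : CommRingCat.of B ⟶ E) (h : y = Spec.map ξ ≫ g.left) :
    ∃ ξ' : B ⟶ objOf X y, (ξ'.hom : ↑B →+* ↑(objOf X y)) = ξ.hom ∧
      valOf X eX y = F.map ξ' (eX B g) := by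
  have hR : rho X y = CommRingCat.ofHom (algebraMap R B) ≫ ξ := by
    apply Spec.map_injective
    rw [map_rho, h, Spec.map_comp, Category.assoc]
    congr 1
    exact Over.w g
  letI : Algebra R E := algOf X y
  let ξ'' : (B : Type u) →ₐ[R] (E : Type u) := ⟨ξ.hom, fun r => by
    have := congrArg (fun m => m.hom r) hR
    exact this.symm⟩
  refine ⟨CommAlgCat.ofHom (R := R) (X := B) (Y := E) ξ'', rfl, ?_⟩
  exact heX B (objOf X y) (CommAlgCat.ofHom (R := R) (X := B) (Y := E) ξ'') g (ptOf X y) h

include heX in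
/-- the value of `Spec.map σ ≫ t` -/
theorem transfer' {A E : CommRingCat.{u}} (t : Spec A ⟶ X.left) (σ : A ⟶ E) :
    ∃ ξ' : objOf X t ⟶ objOf X (Spec.map σ ≫ t),
      (ξ'.hom : ↑(objOf X t) →+* ↑(objOf X (Spec.map σ ≫ t))) = σ.hom ∧
      valOf X eX (Spec.map σ ≫ t) = F.map ξ' (valOf X eX t) :=
  transfer X eX heX (objOf X t) (ptOf X t) (Spec.map σ ≫ t) σ rfl

include heX in
/-- an affine point is determined by its `R`-algebra structure and its value -/
theorem eq_of_valOf {E : CommRingCat.{u}} (y : Spec E ⟶ X.left) (B : CommAlgCat.{u} R)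
    (g : SpecO B ⟶ X) (σ : B ⟶ objOf X y)
    (hv : valOf X eX y = F.map σ (eX B g)) :
    y = Spec.map (CommRingCat.ofHom σ.hom.toRingHom) ≫ g.left := by
  have hw : (Spec.map (CommRingCat.ofHom σ.hom.toRingHom) ≫ g.left) ≫ X.hom =
      (SpecO (objOf X y)).hom := by
    rw [Category.assoc, Over.w g]
    show Spec.map _ ≫ Spec.map _ = Spec.map _
    rw [← Spec.map_comp]
    congr 1
    ext r
    exact σ.hom.commutes r
  let g' : SpecO (objOf X y) ⟶ X :=
    Over.homMk (Spec.map (CommRingCat.ofHom σ.hom.toRingHom) ≫ g.left) hw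
  have h1 : eX (objOf X y) g' = F.map σ (eX B g) := heX B (objOf X y) σ g g' rfl
  have h2 : eX (objOf X y) g' = eX (objOf X y) (ptOf X y) := by rw [h1, ← hv]; rfl
  have h3 := (eX (objOf X y)).injective h2
  have h4 := congrArg (fun m => m.left) h3
  exact h4.symm

end Groth.Agent.Lib.Helper5.Grass.Pts
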