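import Mathlib
import Groth.Agent.Lib.Helper5.Grass.Pts

/-!
# Affine points of a scheme representing a functor on `R`-algebras, II (helper5)
-/

set_option autoImplicit false
universe u
open CategoryTheory CategoryTheory.Limits AlgebraicGeometry TopologicalSpace Opposite

noncomputable section

namespace Groth.Agent.Lib.Helper5.Grass.Pts2

open Groth.Agent.Lib.Helper5.Grass.Pts

variable {R : Type u} [CommRing R] (X : Over (Spec (CommRingCat.of R)))
variable {F : CommAlgCat.{u} R ⥤ Type u}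
variable (eX : ∀ B : CommAlgCat.{u} R, (SpecO B ⟶ X) ≃ F.obj B)
  (heX : ∀ (B C : CommAlgCat.{u} R) (φ' : B ⟶ C) (g : SpecO B ⟶ X) (g' : SpecO C ⟶ X),
      g'.left = Spec.map (CommRingCat.ofHom φ'.hom.toRingHom) ≫ g.left →
        eX C g' = F.map φ' (eX B g))

/-- the point with a given value -/
def ptOfVal (B : CommAlgCat.{u} R) (N : F.obj B) : SpecO B ⟶ X := (eX B).symm N

theorem eX_ptOfVal (B : CommAlgCat.{u} R) (N : F.obj B) : eX B (ptOfVal X eX B N) = N :=
  Equiv.apply_symm_apply _ _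

include heX in
/-- base change of the point with a given value -/
theorem ptOfVal_map (B C : CommAlgCat.{u} R) (ψ : B ⟶ C) (N : F.obj B) :
    (ptOfVal X eX C (F.map ψ N)).left =
      Spec.map (CommRingCat.ofHom ψ.hom.toRingHom) ≫ (ptOfVal X eX B N).left := by
  have hw : (Spec.map (CommRingCat.ofHom ψ.hom.toRingHom) ≫ (ptOfVal X eX B N).left) ≫ X.hom =
      (SpecO C).hom := by
    rw [Category.assoc, Over.w (ptOfVal X eX B N)]
    show Spec.map _ ≫ Spec.map _ = Spec.map _
    rw [← Spec.map_comp]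
    congr 1
    ext r
    exact ψ.hom.commutes r
  let g' : SpecO C ⟶ X :=
    Over.homMk (Spec.map (CommRingCat.ofHom ψ.hom.toRingHom) ≫ (ptOfVal X eX B N).left) hw
  have h1 : eX C g' = F.map ψ (eX B (ptOfVal X eX B N)) :=
    heX B C ψ (ptOfVal X eX B N) g' rfl
  rw [eX_ptOfVal] at h1
  have h2 : g' = ptOfVal X eX C (F.map ψ N) := by
    unfold ptOfVal
    rw [← h1, Equiv.symm_apply_apply]
  rw [← h2]
  rfl

/-- an affine point over `Spec R` with the `R`-algebra structure of `B` -/
def ofLeft (B : CommAlgCat.{u} R) (s : Spec (CommRingCat.of B) ⟶ X.left)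
    (hs : s ≫ X.hom = Spec.map (CommRingCat.ofHom (algebraMap R B))) : SpecO B ⟶ X :=
  Over.homMk s hs

theorem hom_ext_left {B : CommAlgCat.{u} R} (g g' : SpecO B ⟶ X) (h : g.left = g'.left) :
    g = g' := Over.OverMorphism.ext h

include heX in
/-- comparison of `B` with the algebra of the underlying affine point -/
theorem exists_comparison (B : CommAlgCat.{u} R) (g : SpecO B ⟶ X) :
    ∃ (ξ : B ⟶ objOf X g.left) (ζ : objOf X g.left ⟶ B),
      (ξ.hom : ↑B →+* ↑(objOf X g.left)) = RingHom.id _ ∧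
      (ζ.hom : ↑(objOf X g.left) →+* ↑B) = RingHom.id _ ∧
      valOf X eX g.left = F.map ξ (eX B g) ∧ eX B g = F.map ζ (valOf X eX g.left) := by
  obtain ⟨ξ, hξ, hv⟩ := transfer X eX heX B g g.left (𝟙 _) (by rw [Spec.map_id, Category.id_comp])
  have hR : rho X g.left = CommRingCat.ofHom (algebraMap R B) := by
    apply Spec.map_injective
    rw [map_rho]
    exact Over.w g
  let ζ' : @AlgHom R ↑(CommRingCat.of ↑B) ↑B _ _ _ (algOf X g.left) _ :=
    @AlgHom.mk R ↑(CommRingCat.of ↑B) ↑B _ _ _ (algOf X g.left) _ (RingHom.id ↑B) (fun r => by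
        have := congrArg (fun m => m.hom r) hR
        exact this)
  let ζ : objOf X g.left ⟶ B :=
    @CommAlgCat.ofHom R _ (↑(CommRingCat.of ↑B)) ↑B _ (algOf X g.left) _ _ ζ'
  refine ⟨ξ, ζ, hξ, rfl, hv, ?_⟩
  have h1 := heX (objOf X g.left) B ζ (ptOf X g.left) g (by
    show g.left = Spec.map (CommRingCat.ofHom (RingHom.id _)) ≫ g.left
    have : (CommRingCat.ofHom (RingHom.id ↑B) : CommRingCat.of ↑B ⟶ CommRingCat.of ↑B) = 𝟙 _ := rfl
    erw [this, Spec.map_id, Category.id_comp])
  exact h1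

end Groth.Agent.Lib.Helper5.Grass.Pts2

end
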