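import Mathlib
import Groth.Agent.Lib.Helper5.Grass.Pts2
import Groth.Agent.Lib.Helper5.Grass.AffYoneda

/-!
# Affine test objects over `Spec R`: localisation and factorisation lemmas (helper5)
-/

set_option autoImplicit false
universe u
open CategoryTheory CategoryTheory.Limits AlgebraicGeometry TopologicalSpace Opposite

noncomputable section

namespace Groth.Agent.Lib.Helper5.Grass.PtsLoc

open Groth.Agent.Lib.Helper5.Grass.Pts Groth.Agent.Lib.Helper5.Grass.Pts2
  Groth.Agent.Lib.Helper5.Grass.AffYoneda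

variable {R : Type u} [CommRing R]

/-- the morphism of affine test objects induced by an algebra homomorphism -/
def specMap {B B' : CommAlgCat.{u} R} (ψ : B ⟶ B') : SpecO B' ⟶ SpecO B :=
  Over.homMk (Spec.map (CommRingCat.ofHom ψ.hom.toRingHom)) (by
    show Spec.map _ ≫ Spec.map _ = Spec.map _
    rw [← Spec.map_comp]
    congr 1
    ext r
    exact ψ.hom.commutes r)

theorem specMap_left {B B' : CommAlgCat.{u} R} (ψ : B ⟶ B') :
    (specMap ψ).left = Spec.map (CommRingCat.ofHom ψ.hom.toRingHom) := rfl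

theorem specMap_comp {B B' B'' : CommAlgCat.{u} R} (ψ : B ⟶ B') (ψ' : B' ⟶ B'') :
    specMap (ψ ≫ ψ') = specMap ψ' ≫ specMap ψ := by
  apply Over.OverMorphism.ext
  show Spec.map _ = Spec.map _ ≫ Spec.map _
  rw [← Spec.map_comp]
  rfl

theorem specMap_id (B : CommAlgCat.{u} R) : specMap (𝟙 B) = 𝟙 (SpecO B) := by
  apply Over.OverMorphism.ext
  show Spec.map _ = 𝟙 _
  rw [← Spec.map_id]
  rfl

/-- the algebra homomorphism of a morphism of affine test objects -/
def algHomOf {A B : CommAlgCat.{u} R} (g : SpecO B ⟶ SpecO A) : A ⟶ B :=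
  CommAlgCat.ofHom
    { toRingHom := (Spec.preimage g.left).hom
      commutes' := fun r => by
        have h1 : Spec.map (CommRingCat.ofHom (algebraMap R A) ≫ Spec.preimage g.left) =
            Spec.map (CommRingCat.ofHom (algebraMap R B)) := by
          rw [Spec.map_comp, Spec.map_preimage]
          exact Over.w g
        have h2 := Spec.map_injective h1
        exact congrArg (fun m => m.hom r) h2 }

theorem specMap_algHomOf {A B : CommAlgCat.{u} R} (g : SpecO B ⟶ SpecO A) :
    specMap (algHomOf g) = g := by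
  apply Over.OverMorphism.ext
  show Spec.map (CommRingCat.ofHom (Spec.preimage g.left).hom) = g.left
  exact Spec.map_preimage g.left

theorem algHomOf_specMap {A B : CommAlgCat.{u} R} (ψ : A ⟶ B) : algHomOf (specMap ψ) = ψ := by
  apply CommAlgCat.hom_ext
  apply AlgHom.ext
  intro a
  show (Spec.preimage (Spec.map (CommRingCat.ofHom ψ.hom.toRingHom))).hom a = ψ.hom a
  rw [Spec.preimage_map]
  rfl

theorem specMap_injective {A B : CommAlgCat.{u} R} (ψ ψ' : A ⟶ B) (h : specMap ψ = specMap ψ') :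
    ψ = ψ' := by
  rw [← algHomOf_specMap ψ, h, algHomOf_specMap]

/-- factorisation of a point through an affine open -/
theorem exists_factor (T : Over (Spec (CommRingCat.of R))) {A₀ C : CommAlgCat.{u} R}
    (g₀ : SpecO A₀ ⟶ T) [IsOpenImmersion g₀.left] (g : SpecO C ⟶ T)
    (h : Set.range g.left ⊆ Set.range g₀.left) :
    ∃ χ : A₀ ⟶ C, specMap χ ≫ g₀ = g := by
  let l := IsOpenImmersion.lift g₀.left g.left h
  have hl : l ≫ g₀.left = g.left := IsOpenImmersion.lift_fac _ _ _
  have hw : l ≫ (SpecO A₀).hom = (SpecO C).hom := by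
    rw [← Over.w g₀, ← Category.assoc, hl]
    exact Over.w g
  let lo : SpecO C ⟶ SpecO A₀ := Over.homMk l hw
  refine ⟨algHomOf lo, ?_⟩
  rw [specMap_algHomOf]
  apply Over.OverMorphism.ext
  exact hl

theorem factor_unique (T : Over (Spec (CommRingCat.of R))) {A₀ C : CommAlgCat.{u} R}
    (g₀ : SpecO A₀ ⟶ T) [IsOpenImmersion g₀.left] (χ χ' : A₀ ⟶ C)
    (h : specMap χ ≫ g₀ = specMap χ' ≫ g₀) : χ = χ' := by
  apply specMap_injective
  apply Over.OverMorphism.ext
  have h1 := congrArg (fun m => m.left) h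
  have h2 : (specMap χ).left ≫ g₀.left = (specMap χ').left ≫ g₀.left := h1
  exact (cancel_mono g₀.left).1 h2

/-- the localisation of an `R`-algebra at an element -/
abbrev awayAlg (B : CommAlgCat.{u} R) (a : B) : CommAlgCat.{u} R :=
  CommAlgCat.of R (Localization.Away a)

/-- the localisation homomorphism -/
abbrev awayHom (B : CommAlgCat.{u} R) (a : B) : B ⟶ awayAlg B a :=
  CommAlgCat.ofHom (IsScalarTower.toAlgHom R B (Localization.Away a))

theorem range_specMap_awayHom (B : CommAlgCat.{u} R) (a : B) :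
    Set.range (specMap (awayHom B a)).left = (PrimeSpectrum.basicOpen a : Set (PrimeSpectrum B)) := by
  have := PrimeSpectrum.localization_away_comap_range (Localization.Away a) a
  rw [← this]
  rfl

instance isOpenImmersion_specMap_awayHom (B : CommAlgCat.{u} R) (a : B) :
    IsOpenImmersion (specMap (awayHom B a)).left := by
  show IsOpenImmersion (Spec.map (CommRingCat.ofHom (algebraMap B (Localization.Away a))))
  infer_instance

/-- localising a point into an open neighbourhood -/
theorem exists_away_range_subset (T : Over (Spec (CommRingCat.of R))) {B : CommAlgCat.{u} R}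
    (g : SpecO B ⟶ T) (p : Spec (CommRingCat.of B)) (V : T.left.Opens) (hp : g.left p ∈ V) :
    ∃ f : B, f ∉ p.asIdeal ∧ Set.range (specMap (awayHom B f) ≫ g).left ⊆ (V : Set T.left) := by
  obtain ⟨_, ⟨c, rfl⟩, hpc, hcU⟩ := Opens.isBasis_iff_nbhd.1
    (PrimeSpectrum.isBasis_basic_opens (R := B)) (show p ∈ g.left ⁻¹ᵁ V from hp)
  refine ⟨c, hpc, ?_⟩
  rintro _ ⟨t, rfl⟩
  have ht : (specMap (awayHom B c)).left t ∈ Set.range (specMap (awayHom B c)).left := ⟨t, rfl⟩
  rw [range_specMap_awayHom] at ht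
  exact hcU ht

/-- the localisations into a covering family of opens cover -/
theorem span_cover (T : Over (Spec (CommRingCat.of R))) {B : CommAlgCat.{u} R}
    (g : SpecO B ⟶ T) (𝒲 : Set T.left.Opens)
    (hcov : ∀ p : Spec (CommRingCat.of B), ∃ W ∈ 𝒲, g.left p ∈ W) :
    Ideal.span {a : B | ∃ W ∈ 𝒲,
      Set.range (specMap (awayHom B a) ≫ g).left ⊆ (W : Set T.left)} = ⊤ := by
  by_contra h
  obtain ⟨𝔪, hmax, hle⟩ := Ideal.exists_le_maximal _ h
  let p : Spec (CommRingCat.of B) := (⟨𝔪, hmax.isPrime⟩ : PrimeSpectrum B)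
  obtain ⟨W, hW, hpW⟩ := hcov p
  obtain ⟨f, hf, hr⟩ := exists_away_range_subset T g p W hpW
  exact hf (hle (Ideal.subset_span ⟨W, hW, hr⟩))

/-- a point of the localisation over a point of the basic open -/
theorem exists_point_away (B : CommAlgCat.{u} R) (f : B) (p : Spec (CommRingCat.of B))
    (hf : f ∉ p.asIdeal) :
    ∃ p' : Spec (CommRingCat.of (awayAlg B f)), (specMap (awayHom B f)).left p' = p := by
  have : p ∈ Set.range (specMap (awayHom B f)).left := by
    rw [range_specMap_awayHom]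
    exact hf
  exact this

/-- affine open neighbourhoods as points -/
theorem exists_affine_nbhd (T : Over (Spec (CommRingCat.of R))) (x : T.left) :
    ∃ (A₀ : CommAlgCat.{u} R) (g₀ : SpecO A₀ ⟶ T), IsOpenImmersion g₀.left ∧
      x ∈ Set.range g₀.left := by
  obtain ⟨i, z, hz⟩ := T.left.affineOpenCover.openCover.exists_eq x
  refine ⟨objOf T (T.left.affineOpenCover.f i), ptOf T (T.left.affineOpenCover.f i), ?_, ?_⟩
  · show IsOpenImmersion (T.left.affineOpenCover.f i)
    infer_instance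
  · exact ⟨z, hz⟩

/-- morphisms over `Spec R` are determined by their action on affine points -/
theorem over_hom_ext_of_pts {T T' : Over (Spec (CommRingCat.of R))} (a a' : T ⟶ T')
    (h : ∀ (B : CommAlgCat.{u} R) (g : SpecO B ⟶ T), g ≫ a = g ≫ a') : a = a' := by
  apply Over.OverMorphism.ext
  apply hom_ext_of_affine
  intro E t
  have := congrArg (fun m => m.left) (h (objOf T t) (ptOf T t))
  exact this

/-- the algebra homomorphism into the algebra of a composite affine point -/
theorem exists_algLift (T : Over (Spec (CommRingCat.of R))) (B : CommAlgCat.{u} R)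
    (g : SpecO B ⟶ T) {E : CommRingCat.{u}} (y : Spec E ⟶ T.left) (ξ : CommRingCat.of B ⟶ E)
    (h : y = Spec.map ξ ≫ g.left) :
    ∃ ξ' : B ⟶ objOf T y, (ξ'.hom : ↑B →+* ↑(objOf T y)) = ξ.hom ∧
      specMap ξ' ≫ g = ptOf T y := by
  have hR : rho T y = CommRingCat.ofHom (algebraMap R B) ≫ ξ := by
    apply Spec.map_injective
    rw [map_rho, h, Spec.map_comp, Category.assoc]
    congr 1
    exact Over.w g
  letI : Algebra R E := algOf T y
  let ξ'' : (B : Type u) →ₐ[R] (E : Type u) := ⟨ξ.hom, fun r => by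
    have := congrArg (fun m => m.hom r) hR
    exact this.symm⟩
  refine ⟨CommAlgCat.ofHom (R := R) (X := B) (Y := E) ξ'', rfl, ?_⟩
  apply Over.OverMorphism.ext
  exact h.symm

/-- comparison of `B` with the algebra of the underlying affine point -/
theorem exists_zeta (T : Over (Spec (CommRingCat.of R))) (B : CommAlgCat.{u} R)
    (g : SpecO B ⟶ T) :
    ∃ ζ : objOf T g.left ⟶ B, (ζ.hom : ↑(objOf T g.left) →+* ↑B) = RingHom.id _ ∧
      specMap ζ ≫ ptOf T g.left = g := by
  have hR : rho T g.left = CommRingCat.ofHom (algebraMap R B) := by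
    apply Spec.map_injective
    rw [map_rho]
    exact Over.w g
  let ζ' : @AlgHom R ↑(CommRingCat.of ↑B) ↑B _ _ _ (algOf T g.left) _ :=
    @AlgHom.mk R ↑(CommRingCat.of ↑B) ↑B _ _ _ (algOf T g.left) _ (RingHom.id ↑B) (fun r => by
        have := congrArg (fun m => m.hom r) hR
        exact this)
  let ζ : objOf T g.left ⟶ B :=
    @CommAlgCat.ofHom R _ (↑(CommRingCat.of ↑B)) ↑B _ (algOf T g.left) _ _ ζ'
  refine ⟨ζ, rfl, ?_⟩
  apply Over.OverMorphism.ext
  show Spec.map (CommRingCat.ofHom (RingHom.id _)) ≫ g.left = g.left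
  have : (CommRingCat.ofHom (RingHom.id ↑B) : CommRingCat.of ↑B ⟶ CommRingCat.of ↑B) = 𝟙 _ := rfl
  erw [this, Spec.map_id, Category.id_comp]

/-- a natural family of maps on affine points over `Spec R` comes from a morphism -/
theorem exists_over_hom {T T' : Over (Spec (CommRingCat.of R))}
    (τ : ∀ B : CommAlgCat.{u} R, (SpecO B ⟶ T) → (SpecO B ⟶ T'))
    (hτ : ∀ (B B' : CommAlgCat.{u} R) (ψ : B ⟶ B') (g : SpecO B ⟶ T),
      τ B' (specMap ψ ≫ g) = specMap ψ ≫ τ B g) :
    ∃ c : T ⟶ T', ∀ (B : CommAlgCat.{u} R) (g : SpecO B ⟶ T), g ≫ c = τ B g := by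
  let τ₀ : ∀ (E : CommRingCat.{u}), (Spec E ⟶ T.left) → (Spec E ⟶ T'.left) :=
    fun E y => (τ (objOf T y) (ptOf T y)).left
  have hτ₀ : ∀ (E E' : CommRingCat.{u}) (σ : E ⟶ E') (y : Spec E ⟶ T.left),
      τ₀ E' (Spec.map σ ≫ y) = Spec.map σ ≫ τ₀ E y := by
    intro E E' σ y
    obtain ⟨ξ', hξ', hpt⟩ := exists_algLift T (objOf T y) (ptOf T y) (Spec.map σ ≫ y) σ rfl
    show (τ (objOf T (Spec.map σ ≫ y)) (ptOf T (Spec.map σ ≫ y))).left = _
    rw [← hpt, hτ]
    show Spec.map (CommRingCat.ofHom ξ'.hom.toRingHom) ≫ _ = _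
    congr 2
    apply CommRingCat.hom_ext
    exact hξ'
  obtain ⟨c₀, hc₀⟩ := exists_hom_of_natural τ₀ hτ₀
  have hw : c₀ ≫ T'.hom = T.hom := by
    apply hom_ext_of_affine
    intro E t
    have h1 : τ₀ E t ≫ T'.hom = (SpecO (objOf T t)).hom := Over.w (τ (objOf T t) (ptOf T t))
    have h2 : (SpecO (objOf T t)).hom = t ≫ T.hom := map_rho T t
    rw [← Category.assoc, ← hc₀, h1, h2]
  refine ⟨Over.homMk c₀ hw, ?_⟩
  intro B g
  obtain ⟨ζ, hζ, hg⟩ := exists_zeta T B g
  apply Over.OverMorphism.ext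
  show g.left ≫ c₀ = _
  rw [← hc₀]
  show (τ (objOf T g.left) (ptOf T g.left)).left = _
  conv_rhs => rw [← hg, hτ]
  show _ = Spec.map (CommRingCat.ofHom ζ.hom.toRingHom) ≫ _
  have hid : (CommRingCat.ofHom ζ.hom.toRingHom :
      CommRingCat.of ↑(objOf T g.left) ⟶ CommRingCat.of ↑B) = 𝟙 _ := by
    apply CommRingCat.hom_ext
    exact hζ
  erw [hid, Spec.map_id, Category.id_comp]

end Groth.Agent.Lib.Helper5.Grass.PtsLoc

end
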