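import Mathlib
import Groth.Agent.Lib.Helper5.Grass.PtsLoc
import Groth.Agent.Lib.Helper5.LocRepF.Main

/-!
# Functors on `R`-algebras as functors on schemes over `Spec R` (helper5)

A functor `Gf` on `R`-algebras which is a sheaf for standard open covers extends to a Zariski
sheaf on schemes over `Spec R` (the families of `Gf`-values on affine points).
-/

set_option autoImplicit false
universe u
open CategoryTheory CategoryTheory.Limits AlgebraicGeometry TopologicalSpace Opposite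

noncomputable section

namespace Groth.Agent.Lib.Helper5.Grass.AffRep

open Groth.Agent.Lib.Helper5.Grass.Pts Groth.Agent.Lib.Helper5.Grass.Pts2
  Groth.Agent.Lib.Helper5.Grass.AffYoneda Groth.Agent.Lib.Helper5.Grass.PtsLoc
  Groth.Agent.Lib.Helper5.LocRepF

variable {R : Type u} [CommRing R] (Gf : CommAlgCat.{u} R ⥤ Type u)

/-- the sheaf condition for standard open covers -/
structure IsAffSheaf : Prop where
  sep : ∀ (B : CommAlgCat.{u} R) (s : Set B), Ideal.span s = ⊤ → ∀ N N' : Gf.obj B,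
    (∀ a ∈ s, Gf.map (awayHom B a) N = Gf.map (awayHom B a) N') → N = N'
  glue : ∀ (B : CommAlgCat.{u} R) (s : Finset B), Ideal.span (s : Set B) = ⊤ →
    ∀ (Ns : ∀ g : s, Gf.obj (awayAlg B g.1)),
    (∀ (g g' : s) (C : CommAlgCat.{u} R) (σ : awayAlg B g.1 ⟶ C) (σ' : awayAlg B g'.1 ⟶ C),
      awayHom B g.1 ≫ σ = awayHom B g'.1 ≫ σ' → Gf.map σ (Ns g) = Gf.map σ' (Ns g')) →
    ∃ N : Gf.obj B, ∀ g : s, Gf.map (awayHom B g.1) N = Ns g

/-- a natural family of values on the affine points of `T` -/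
structure Fam (T : Over (Spec (CommRingCat.of R))) where
  val : ∀ B : CommAlgCat.{u} R, (SpecO B ⟶ T) → Gf.obj B
  nat : ∀ (B B' : CommAlgCat.{u} R) (ψ : B ⟶ B') (g : SpecO B ⟶ T),
    val B' (specMap ψ ≫ g) = Gf.map ψ (val B g)

variable {Gf}

theorem Fam.ext' {T : Over (Spec (CommRingCat.of R))} (b b' : Fam Gf T)
    (h : ∀ (B : CommAlgCat.{u} R) (g : SpecO B ⟶ T), b.val B g = b'.val B g) : b = b' := by
  cases b; cases b'
  congr
  funext B g
  exact h B g

/-- pullback of a family -/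
def Fam.pull {T T' : Over (Spec (CommRingCat.of R))} (φ : T' ⟶ T) (b : Fam Gf T) : Fam Gf T' where
  val B g := b.val B (g ≫ φ)
  nat B B' ψ g := by
    rw [Category.assoc]
    exact b.nat B B' ψ (g ≫ φ)

theorem Fam.pull_val {T T' : Over (Spec (CommRingCat.of R))} (φ : T' ⟶ T) (b : Fam Gf T)
    (B : CommAlgCat.{u} R) (g : SpecO B ⟶ T') : (b.pull φ).val B g = b.val B (g ≫ φ) := rfl

theorem Fam.pull_id {T : Over (Spec (CommRingCat.of R))} (b : Fam Gf T) : b.pull (𝟙 T) = b := by
  apply Fam.ext'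
  intro B g
  rw [Fam.pull_val, Category.comp_id]

theorem Fam.pull_comp {T T' T'' : Over (Spec (CommRingCat.of R))} (φ : T' ⟶ T) (φ' : T'' ⟶ T')
    (b : Fam Gf T) : b.pull (φ' ≫ φ) = (b.pull φ).pull φ' := by
  apply Fam.ext'
  intro B g
  rw [Fam.pull_val, Fam.pull_val, Fam.pull_val, Category.assoc]

/-- families are determined on a covering family of opens -/
theorem Fam.ext_of_cover (hG : IsAffSheaf Gf) {T : Over (Spec (CommRingCat.of R))}
    (𝒲 : Set T.left.Opens) (hcov : ∀ x : T.left, ∃ W ∈ 𝒲, x ∈ W) (b b' : Fam Gf T)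
    (h : ∀ (B : CommAlgCat.{u} R) (g : SpecO B ⟶ T),
      (∃ W ∈ 𝒲, Set.range g.left ⊆ (W : Set T.left)) → b.val B g = b'.val B g) : b = b' := by
  apply Fam.ext'
  intro B g
  apply hG.sep B _ (span_cover T g 𝒲 (fun p => hcov (g.left p)))
  rintro a ⟨W, hW, hr⟩
  rw [← b.nat, ← b'.nat]
  exact h _ _ ⟨W, hW, hr⟩

/-- the families form a small type -/
theorem small_fam (hG : IsAffSheaf Gf) (T : Over (Spec (CommRingCat.of R))) :
    Small.{u} (Fam Gf T) := by
  let 𝒜 := T.left.affineOpenCover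
  let f : Fam Gf T → (∀ i : 𝒜.I₀, Gf.obj (objOf T (𝒜.f i))) :=
    fun b i => b.val _ (ptOf T (𝒜.f i))
  apply small_of_injective (f := f)
  intro b b' hbb
  apply Fam.ext_of_cover hG (Set.range fun i : 𝒜.I₀ => (𝒜.f i).opensRange)
  · intro x
    obtain ⟨i, z, hz⟩ := 𝒜.openCover.exists_eq x
    exact ⟨_, ⟨i, rfl⟩, ⟨z, hz⟩⟩
  · rintro B g ⟨_, ⟨i, rfl⟩, hr⟩
    haveI : IsOpenImmersion (ptOf T (𝒜.f i)).left := by
      show IsOpenImmersion (𝒜.f i)
      infer_instance
    obtain ⟨χ, hχ⟩ := exists_factor T (ptOf T (𝒜.f i)) g (by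
      intro z hz
      exact hr hz)
    rw [← hχ, b.nat, b'.nat]
    have := congrFun hbb i
    show Gf.map χ (f b i) = Gf.map χ (f b' i)
    rw [this]

section Functor
variable (hG : IsAffSheaf Gf)

/-- the (small) type of families -/
def FObj (T : Over (Spec (CommRingCat.of R))) : Type u :=
  @Shrink (Fam Gf T) (small_fam hG T)

/-- the equivalence with families -/
def fEquiv (T : Over (Spec (CommRingCat.of R))) : Fam Gf T ≃ FObj hG T :=
  @equivShrink (Fam Gf T) (small_fam hG T)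

/-- the extension of `Gf` to schemes over `Spec R` -/
def FF : (Over (Spec (CommRingCat.of R)))ᵒᵖ ⥤ Type u where
  obj T := FObj hG T.unop
  map {T T'} φ := TypeCat.ofHom fun x =>
    fEquiv hG T'.unop (((fEquiv hG T.unop).symm x).pull φ.unop)
  map_id T := ConcreteCategory.hom_ext _ _ fun x => by
    show fEquiv hG T.unop (((fEquiv hG T.unop).symm x).pull (𝟙 _)) = x
    rw [Fam.pull_id, Equiv.apply_symm_apply]
  map_comp {T T' T''} φ φ' := ConcreteCategory.hom_ext _ _ fun x => by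
    show fEquiv hG T''.unop (((fEquiv hG T.unop).symm x).pull (φ'.unop ≫ φ.unop)) =
      fEquiv hG T''.unop (((fEquiv hG T'.unop).symm
        (fEquiv hG T'.unop (((fEquiv hG T.unop).symm x).pull φ.unop))).pull φ'.unop)
    rw [Equiv.symm_apply_apply, Fam.pull_comp]

theorem FF_map {T T' : Over (Spec (CommRingCat.of R))} (φ : T' ⟶ T) (x : (FF hG).obj (op T)) :
    (FF hG).map φ.op x = fEquiv hG T' (((fEquiv hG T).symm x).pull φ) := rfl

theorem FF_map_fEquiv {T T' : Over (Spec (CommRingCat.of R))} (φ : T' ⟶ T) (b : Fam Gf T) :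
    (FF hG).map φ.op (fEquiv hG T b) = fEquiv hG T' (b.pull φ) := by
  rw [FF_map, Equiv.symm_apply_apply]

end Functor

end Groth.Agent.Lib.Helper5.Grass.AffRep

end
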