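import Mathlib
import Groth.Agent.Lib.Helper5.Grass.AffRep1

/-!
# The extension of a sheaf on `R`-algebras is a Zariski sheaf (helper5)
-/

set_option autoImplicit false
universe u
open CategoryTheory CategoryTheory.Limits AlgebraicGeometry TopologicalSpace Opposite

noncomputable section

namespace Groth.Agent.Lib.Helper5.Grass.AffRep

open Groth.Agent.Lib.Helper5.Grass.Pts Groth.Agent.Lib.Helper5.Grass.Pts2
  Groth.Agent.Lib.Helper5.Grass.AffYoneda Groth.Agent.Lib.Helper5.Grass.PtsLoc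
  Groth.Agent.Lib.Helper5.LocRepF

variable {R : Type u} [CommRing R] {Gf : CommAlgCat.{u} R ⥤ Type u}

/-- lifting a point through an open immersion -/
theorem exists_lift_open {T₀ : Scheme.{u}} (t : T₀ ⟶ Spec (CommRingCat.of R)) {V : Scheme.{u}}
    (j : V ⟶ T₀) [IsOpenImmersion j] {B : CommAlgCat.{u} R} (g : SpecO B ⟶ Over.mk t)
    (h : Set.range g.left ⊆ Set.range j) :
    ∃ l : SpecO B ⟶ Over.mk (j ≫ t), l ≫ oHom j t = g := by
  let l₀ := IsOpenImmersion.lift j g.left h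
  have hl : l₀ ≫ j = g.left := IsOpenImmersion.lift_fac _ _ _
  have hw : l₀ ≫ (Over.mk (j ≫ t)).hom = (SpecO B).hom := by
    show l₀ ≫ j ≫ t = _
    rw [← Category.assoc, hl]
    exact Over.w g
  refine ⟨Over.homMk l₀ hw, ?_⟩
  apply Over.OverMorphism.ext
  exact hl

/-- functoriality of localisation -/
theorem exists_awayMap'' {B C : Type u} [CommRing B] [CommRing C] [Algebra R B] [Algebra R C]
    (ψ : B →ₐ[R] C) (g : B)
    (Bg : Type u) [CommRing Bg] [Algebra B Bg] [Algebra R Bg] [IsScalarTower R B Bg]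
    [IsLocalization.Away g Bg]
    (Cg : Type u) [CommRing Cg] [Algebra C Cg] [Algebra R Cg] [IsScalarTower R C Cg]
    [IsLocalization.Away (ψ g) Cg] :
    ∃ ψg : Bg →ₐ[R] Cg, ψg.comp (IsScalarTower.toAlgHom R B Bg) =
        (IsScalarTower.toAlgHom R C Cg).comp ψ := by
  have hu : IsUnit (((IsScalarTower.toAlgHom R C Cg).comp ψ) g) := by
    rw [AlgHom.comp_apply]
    exact IsLocalization.Away.algebraMap_isUnit (ψ g)
  refine ⟨IsLocalization.Away.liftAlgHom g hu, ?_⟩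
  apply AlgHom.ext
  intro x
  exact IsLocalization.Away.lift_eq g hu x

theorem exists_awayMap' {B C : Type u} [CommRing B] [CommRing C] [Algebra R B] [Algebra R C]
    (ψ : B →ₐ[R] C) (g : B) :
    ∃ ψg : Localization.Away g →ₐ[R] Localization.Away (ψ g),
      ψg.comp (IsScalarTower.toAlgHom R B (Localization.Away g)) =
        (IsScalarTower.toAlgHom R C (Localization.Away (ψ g))).comp ψ :=
  exists_awayMap'' ψ g (Localization.Away g) (Localization.Away (ψ g))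

theorem exists_awayMap {B C : CommAlgCat.{u} R} (ψ : B ⟶ C) (g : B) :
    ∃ ψg : awayAlg B g ⟶ awayAlg C (ψ.hom g), awayHom B g ≫ ψg = ψ ≫ awayHom C (ψ.hom g) := by
  obtain ⟨ψg, h⟩ := exists_awayMap' ψ.hom g
  refine ⟨CommAlgCat.ofHom ψg, ?_⟩
  apply CommAlgCat.hom_ext
  exact h

section Sheaf
variable (hG : IsAffSheaf Gf)

theorem FF_sep (T₀ : Scheme.{u}) (t : T₀ ⟶ Spec (CommRingCat.of R))
    (𝒱 : Scheme.OpenCover.{u + 1} T₀) (b b' : (FF hG).obj (op (Over.mk t)))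
    (h : ∀ j, (FF hG).map (oHom (𝒱.f j) t).op b = (FF hG).map (oHom (𝒱.f j) t).op b') :
    b = b' := by
  obtain ⟨β, rfl⟩ := (fEquiv hG (Over.mk t)).surjective b
  obtain ⟨β', rfl⟩ := (fEquiv hG (Over.mk t)).surjective b'
  congr 1
  apply Fam.ext_of_cover hG (Set.range fun j : 𝒱.I₀ => (𝒱.f j).opensRange)
  · intro x
    obtain ⟨j, z, hz⟩ := 𝒱.exists_eq x
    exact ⟨_, ⟨j, rfl⟩, ⟨z, hz⟩⟩
  · rintro B g ⟨_, ⟨j, rfl⟩, hr⟩
    obtain ⟨l, hl⟩ := exists_lift_open t (𝒱.f j) g hr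
    have hj := h j
    rw [FF_map_fEquiv, FF_map_fEquiv] at hj
    have hj' := (fEquiv hG _).injective hj
    have := congrArg (fun β => β.val B l) hj'
    simp only [Fam.pull_val] at this
    rw [hl] at this
    exact this

section Glue
variable {T₀ : Scheme.{u}} (t : T₀ ⟶ Spec (CommRingCat.of R)) (𝒱 : Scheme.OpenCover.{u + 1} T₀)
  (βf : ∀ j, Fam Gf (Over.mk (𝒱.f j ≫ t)))
  (hpt : ∀ (i j : 𝒱.I₀) (C : CommAlgCat.{u} R) (l : SpecO C ⟶ Over.mk (𝒱.f i ≫ t))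
    (l' : SpecO C ⟶ Over.mk (𝒱.f j ≫ t)), l ≫ oHom (𝒱.f i) t = l' ≫ oHom (𝒱.f j) t →
    (βf i).val C l = (βf j).val C l')

/-- the defining property of the glued value -/
def IsGlueVal {B : CommAlgCat.{u} R} (pt : SpecO B ⟶ Over.mk t) (N : Gf.obj B) : Prop :=
  ∀ (C : CommAlgCat.{u} R) (ψ : B ⟶ C) (j : 𝒱.I₀) (l : SpecO C ⟶ Over.mk (𝒱.f j ≫ t)),
    l ≫ oHom (𝒱.f j) t = specMap ψ ≫ pt → Gf.map ψ N = (βf j).val C l

theorem cover_ranges (x : T₀) :
    ∃ W ∈ Set.range (fun j : 𝒱.I₀ => (𝒱.f j).opensRange), x ∈ W := by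
  obtain ⟨j, z, hz⟩ := 𝒱.exists_eq x
  exact ⟨_, ⟨j, rfl⟩, ⟨z, hz⟩⟩

include hG in
theorem glueVal_unique {B : CommAlgCat.{u} R} (pt : SpecO B ⟶ Over.mk t) (N N' : Gf.obj B)
    (hN : IsGlueVal t 𝒱 βf pt N) (hN' : IsGlueVal t 𝒱 βf pt N') : N = N' := by
  apply hG.sep B _ (span_cover (Over.mk t) pt _ (fun p => cover_ranges 𝒱 (pt.left p)))
  rintro a ⟨_, ⟨j, rfl⟩, hr⟩
  obtain ⟨l, hl⟩ := exists_lift_open t (𝒱.f j) _ hr
  rw [hN _ (awayHom B a) j l hl, hN' _ (awayHom B a) j l hl]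

include hG hpt in
theorem glueVal_exists {B : CommAlgCat.{u} R} (pt : SpecO B ⟶ Over.mk t) :
    ∃ N : Gf.obj B, IsGlueVal t 𝒱 βf pt N := by
  have hspan := span_cover (Over.mk t) pt _ (fun p => cover_ranges 𝒱 (pt.left p))
  rw [Ideal.span_eq_top_iff_finite] at hspan
  obtain ⟨s', hs's, hs'⟩ := hspan
  have hex : ∀ g : s', ∃ (j : 𝒱.I₀) (l : SpecO (awayAlg B g.1) ⟶ Over.mk (𝒱.f j ≫ t)),
      l ≫ oHom (𝒱.f j) t = specMap (awayHom B g.1) ≫ pt := by
    intro g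
    obtain ⟨_, ⟨j, rfl⟩, hr⟩ := hs's g.2
    obtain ⟨l, hl⟩ := exists_lift_open t (𝒱.f j) _ hr
    exact ⟨j, l, hl⟩
  choose jf lf hlf using hex
  obtain ⟨N, hN⟩ := hG.glue B s' hs' (fun g => (βf (jf g)).val _ (lf g)) (by
    intro g g' C σ σ' hσ
    rw [← (βf (jf g)).nat, ← (βf (jf g')).nat]
    apply hpt
    rw [Category.assoc, Category.assoc, hlf, hlf, ← Category.assoc, ← Category.assoc,
      ← specMap_comp, ← specMap_comp, hσ])
  refine ⟨N, ?_⟩
  intro C ψ j l hl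
  have hsC : Ideal.span ((ψ.hom : ↑B →+* ↑C) '' (s' : Set B)) = ⊤ := by
    rw [← Ideal.map_span, hs', Ideal.map_top]
  apply hG.sep C _ hsC
  rintro _ ⟨g, hg, rfl⟩
  obtain ⟨ψg, hψg⟩ := exists_awayMap ψ g
  have e1 : Gf.map (awayHom C (ψ.hom g)) (Gf.map ψ N) =
      (βf (jf ⟨g, hg⟩)).val _ (specMap ψg ≫ lf ⟨g, hg⟩) := by
    rw [(βf (jf ⟨g, hg⟩)).nat, ← hN ⟨g, hg⟩, ← Functor.map_comp_apply,
      ← Functor.map_comp_apply, hψg]
  have e2 : Gf.map (awayHom C (ψ.hom g)) ((βf j).val C l) =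
      (βf j).val _ (specMap (awayHom C (ψ.hom g)) ≫ l) := ((βf j).nat _ _ _ _).symm
  show Gf.map (awayHom C (ψ.hom g)) (Gf.map ψ N) = Gf.map (awayHom C (ψ.hom g)) ((βf j).val C l)
  rw [e1, e2]
  apply hpt
  rw [Category.assoc, Category.assoc, hlf, hl, ← Category.assoc, ← Category.assoc,
    ← specMap_comp, ← specMap_comp, hψg]

/-- the glued family -/
def glueFam : Fam Gf (Over.mk t) where
  val B pt := (glueVal_exists hG t 𝒱 βf hpt pt).choose
  nat B B' ψ pt := by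
    apply glueVal_unique hG t 𝒱 βf (specMap ψ ≫ pt)
    · exact (glueVal_exists hG t 𝒱 βf hpt (specMap ψ ≫ pt)).choose_spec
    · intro C ψ' j l hl
      rw [← Functor.map_comp_apply]
      apply (glueVal_exists hG t 𝒱 βf hpt pt).choose_spec
      rw [hl, specMap_comp, Category.assoc]

theorem glueFam_pull (j : 𝒱.I₀) :
    (glueFam hG t 𝒱 βf hpt).pull (oHom (𝒱.f j) t) = βf j := by
  apply Fam.ext'
  intro B l
  have h := (glueVal_exists hG t 𝒱 βf hpt (l ≫ oHom (𝒱.f j) t)).choose_spec B (𝟙 B) j l (by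
    rw [specMap_id, Category.id_comp])
  rw [Functor.map_id_apply] at h
  exact h

end Glue

/-- **the extension of a sheaf on `R`-algebras is a Zariski sheaf** -/
theorem isZarSheaf_FF : IsZarSheaf.{u + 1} (FF hG) where
  sep T₀ t 𝒱 b b' h := FF_sep hG T₀ t 𝒱 b b' h
  glue T₀ t 𝒱 b hb := by
    let βf : ∀ j, Fam Gf (Over.mk (𝒱.f j ≫ t)) := fun j => (fEquiv hG _).symm (b j)
    have hβ : ∀ j, b j = fEquiv hG _ (βf j) := fun j => (Equiv.apply_symm_apply _ _).symm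
    have hpt : ∀ (i j : 𝒱.I₀) (C : CommAlgCat.{u} R) (l : SpecO C ⟶ Over.mk (𝒱.f i ≫ t))
        (l' : SpecO C ⟶ Over.mk (𝒱.f j ≫ t)), l ≫ oHom (𝒱.f i) t = l' ≫ oHom (𝒱.f j) t →
        (βf i).val C l = (βf j).val C l' := by
      intro i j C l l' hll
      have h : l.left ≫ 𝒱.f i = l'.left ≫ 𝒱.f j := congrArg (fun m => m.left) hll
      have h1 := hb i j _ l.left l'.left h
      rw [hβ i, hβ j, FF_map_fEquiv, FF_map_fEquiv] at h1
      have h2 := (fEquiv hG _).injective h1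
      have hw : 𝟙 (Spec (CommRingCat.of C)) ≫ (Over.mk (l.left ≫ 𝒱.f i ≫ t)).hom =
          (SpecO C).hom := by
        rw [Category.id_comp]
        exact Over.w l
      let q : SpecO C ⟶ Over.mk (l.left ≫ 𝒱.f i ≫ t) := Over.homMk (𝟙 _) hw
      have h3 := congrArg (fun β => β.val C q) h2
      simp only [Fam.pull_val] at h3
      have e1 : q ≫ oHom l.left (𝒱.f i ≫ t) = l := by
        apply Over.OverMorphism.ext
        show 𝟙 _ ≫ l.left = l.left
        rw [Category.id_comp]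
      have e2 : q ≫ castHom (by rw [← Category.assoc, h, Category.assoc]) ≫
          oHom l'.left (𝒱.f j ≫ t) = l' := by
        apply Over.OverMorphism.ext
        show 𝟙 _ ≫ 𝟙 _ ≫ l'.left = l'.left
        rw [Category.id_comp, Category.id_comp]
      rw [e1, e2] at h3
      exact h3
    refine ⟨fEquiv hG _ (glueFam hG t 𝒱 βf hpt), ?_⟩
    intro j
    rw [FF_map_fEquiv, glueFam_pull, hβ j]

end Sheaf

end Groth.Agent.Lib.Helper5.Grass.AffRep

end
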