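import Mathlib
import Groth.Agent.Lib.Helper5.Grass.AffRep2

/-!
# Representability of a sheaf on `R`-algebras covered by representable open subfunctors (helper5)
-/

set_option autoImplicit false
universe u
open CategoryTheory CategoryTheory.Limits AlgebraicGeometry TopologicalSpace Opposite

noncomputable section

namespace Groth.Agent.Lib.Helper5.Grass.AffRep

open Groth.Agent.Lib.Helper5.Grass.Pts Groth.Agent.Lib.Helper5.Grass.Pts2
  Groth.Agent.Lib.Helper5.Grass.AffYoneda Groth.Agent.Lib.Helper5.Grass.PtsLoc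
  Groth.Agent.Lib.Helper5.LocRepF

variable {R : Type u} [CommRing R] {Gf : CommAlgCat.{u} R ⥤ Type u}

theorem algHomOf_comp {A B C : CommAlgCat.{u} R} (g : SpecO B ⟶ SpecO A) (g' : SpecO C ⟶ SpecO B) :
    algHomOf (g' ≫ g) = algHomOf g ≫ algHomOf g' := by
  apply specMap_injective
  rw [specMap_comp, specMap_algHomOf, specMap_algHomOf, specMap_algHomOf]

theorem algHomOf_id (A : CommAlgCat.{u} R) : algHomOf (𝟙 (SpecO A)) = 𝟙 A := by
  apply specMap_injective
  rw [specMap_algHomOf, specMap_id]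

/-- the family of a value (Yoneda) -/
def famOfPt (A : CommAlgCat.{u} R) (N : Gf.obj A) : Fam Gf (SpecO A) where
  val B g := Gf.map (algHomOf g) N
  nat B B' ψ g := by
    rw [algHomOf_comp, algHomOf_specMap, Functor.map_comp_apply]

theorem famOfPt_val (A : CommAlgCat.{u} R) (N : Gf.obj A) (B : CommAlgCat.{u} R)
    (g : SpecO B ⟶ SpecO A) : (famOfPt A N).val B g = Gf.map (algHomOf g) N := rfl

/-- Yoneda for affine test objects -/
def yonedaFam (A : CommAlgCat.{u} R) : Fam Gf (SpecO A) ≃ Gf.obj A where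
  toFun b := b.val A (𝟙 _)
  invFun N := famOfPt A N
  left_inv b := by
    apply Fam.ext'
    intro B g
    rw [famOfPt_val, ← b.nat, specMap_algHomOf, Category.comp_id]
  right_inv N := by
    show Gf.map (algHomOf (𝟙 (SpecO A))) N = N
    rw [algHomOf_id, Functor.map_id_apply]

section Charts
variable {ι : Type u} (P : ι → CommAlgCat.{u} R) (ν : ∀ i, Gf.obj (P i))

/-- a value lies in the `i`-th chart -/
def InCh (i : ι) (B : CommAlgCat.{u} R) (N : Gf.obj B) : Prop :=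
  ∃ σ : P i ⟶ B, Gf.map σ (ν i) = N

theorem inCh_map (i : ι) {B C : CommAlgCat.{u} R} (ψ : B ⟶ C) (N : Gf.obj B)
    (h : InCh P ν i B N) : InCh P ν i C (Gf.map ψ N) := by
  obtain ⟨σ, rfl⟩ := h
  exact ⟨σ ≫ ψ, Functor.map_comp_apply _ _ _ _⟩

variable (hinjν : ∀ (i : ι) (B : CommAlgCat.{u} R) (σ σ' : P i ⟶ B),
    Gf.map σ (ν i) = Gf.map σ' (ν i) → σ = σ')
  (hloc : ∀ (i : ι) (B : CommAlgCat.{u} R) (N : Gf.obj B) (s : Set B), Ideal.span s = ⊤ →
    (∀ a ∈ s, InCh P ν i (awayAlg B a) (Gf.map (awayHom B a) N)) → InCh P ν i B N)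
  (hopen : ∀ (i : ι) (B : CommAlgCat.{u} R) (N : Gf.obj B) (p : PrimeSpectrum B),
    ∃ a : B, a ∉ p.asIdeal ∧ ∃ d : Localization.Away a, ∀ (C : CommAlgCat.{u} R)
      (ψ : awayAlg B a ⟶ C), InCh P ν i C (Gf.map (awayHom B a ≫ ψ) N) ↔ IsUnit (ψ.hom d))
  (hcov : ∀ (B : CommAlgCat.{u} R) (N : Gf.obj B) (p : PrimeSpectrum B),
    ∃ (i : ι) (C : CommAlgCat.{u} R) (ψ : B ⟶ C), IsOpenImmersion (specMap ψ).left ∧
      p ∈ Set.range (specMap ψ).left ∧ InCh P ν i C (Gf.map ψ N))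

section Locus
variable {T₀ : Scheme.{u}} (t : T₀ ⟶ Spec (CommRingCat.of R)) (b : Fam Gf (Over.mk t))

/-- an open on which all points lie in the chart -/
def Good (i : ι) (V : T₀.Opens) : Prop :=
  ∀ (B : CommAlgCat.{u} R) (g : SpecO B ⟶ Over.mk t), Set.range g.left ⊆ (V : Set T₀) →
    InCh P ν i B (b.val B g)

/-- the locus of the `i`-th chart -/
def Uo (i : ι) : T₀.Opens := sSup {V | Good P ν t b i V}

include hloc in
theorem good_Uo (i : ι) : Good P ν t b i (Uo P ν t b i) := by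
  intro B g hr
  apply hloc i B _ _ (span_cover (Over.mk t) g {V | Good P ν t b i V} (by
    intro p
    have hx : g.left p ∈ Uo P ν t b i := hr ⟨p, rfl⟩
    obtain ⟨V, hV, hxV⟩ := Opens.mem_sSup.1 hx
    exact ⟨V, hV, hxV⟩))
  rintro a ⟨V, hV, hrV⟩
  rw [← b.nat]
  exact hV _ _ hrV

include hopen in
theorem range_subset_Uo_of_inCh (i : ι) (B : CommAlgCat.{u} R) (g : SpecO B ⟶ Over.mk t)
    (h : InCh P ν i B (b.val B g)) : Set.range g.left ⊆ (Uo P ν t b i : Set T₀) := by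
  rintro _ ⟨p, rfl⟩
  obtain ⟨A₀, g₀, hg₀, p₀, hp₀⟩ := exists_affine_nbhd (Over.mk t) (g.left p)
  obtain ⟨a₀, ha₀, d, hd⟩ := hopen i A₀ (b.val A₀ g₀) p₀
  let g₀' : SpecO (awayAlg A₀ a₀) ⟶ Over.mk t := specMap (awayHom A₀ a₀) ≫ g₀
  haveI : IsOpenImmersion g₀'.left := by
    show IsOpenImmersion ((specMap (awayHom A₀ a₀)).left ≫ g₀.left)
    infer_instance
  obtain ⟨p₀', hp₀'⟩ := exists_point_away A₀ a₀ p₀ ha₀
  have hx : g.left p ∈ g₀'.left.opensRange := by
    refine ⟨p₀', ?_⟩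
    show g₀.left ((specMap (awayHom A₀ a₀)).left p₀') = _
    rw [hp₀', hp₀]
  obtain ⟨f, hf, hrf⟩ := exists_away_range_subset (Over.mk t) g p _ hx
  obtain ⟨ψ, hψ⟩ := exists_factor (Over.mk t) g₀' (specMap (awayHom B f) ≫ g) hrf
  have e0 : b.val _ g₀' = Gf.map (awayHom A₀ a₀) (b.val A₀ g₀) := b.nat _ _ _ _
  have hu : IsUnit (ψ.hom d) := by
    rw [← hd]
    have h1 := inCh_map P ν i (awayHom B f) _ h
    rw [← b.nat, ← hψ, b.nat, e0, ← Functor.map_comp_apply] at h1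
    exact h1
  obtain ⟨pf, hpf⟩ := exists_point_away B f p hf
  let g₀'' : SpecO (awayAlg (awayAlg A₀ a₀) d) ⟶ Over.mk t :=
    specMap (awayHom (awayAlg A₀ a₀) d) ≫ g₀'
  haveI hoi := isOpenImmersion_specMap_awayHom (awayAlg A₀ a₀) d
  haveI : IsOpenImmersion g₀''.left := by
    show IsOpenImmersion ((specMap (awayHom (awayAlg A₀ a₀) d)).left ≫ g₀'.left)
    infer_instance
  have hgood : Good P ν t b i g₀''.left.opensRange := by
    intro C g' hr
    obtain ⟨χ, hχ⟩ := exists_factor (Over.mk t) g₀'' g' hr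
    have e1 : b.val _ g₀'' = Gf.map (awayHom (awayAlg A₀ a₀) d) (b.val _ g₀') := b.nat _ _ _ _
    rw [← hχ, b.nat, e1, e0, ← Functor.map_comp_apply, ← Functor.map_comp_apply, hd]
    show IsUnit (χ.hom (algebraMap _ _ d))
    exact (IsLocalization.Away.algebraMap_isUnit d).map χ.hom
  refine Opens.mem_sSup.2 ⟨_, hgood, ?_⟩
  let z := (specMap ψ).left pf
  have hz : d ∉ z.asIdeal := by
    intro hdz
    have h2 : ψ.hom d ∈ pf.asIdeal := hdz
    exact pf.isPrime.ne_top (Ideal.eq_top_of_isUnit_mem _ h2 hu)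
  obtain ⟨z', hz'⟩ := exists_point_away (awayAlg A₀ a₀) d z hz
  refine ⟨z', ?_⟩
  show g₀'.left ((specMap (awayHom (awayAlg A₀ a₀) d)).left z') = g.left p
  rw [hz', ← hpf]
  have h3 := congrArg (fun m => m.left pf) hψ
  exact h3

include hcov in
theorem exists_mem_Uo (x : T₀) : ∃ i, x ∈ Uo P ν t b i := by
  obtain ⟨A₀, g₀, hg₀, p₀, hp₀⟩ := exists_affine_nbhd (Over.mk t) x
  obtain ⟨i, C, ψ, hψ, ⟨z, hz⟩, hin⟩ := hcov A₀ (b.val A₀ g₀) p₀
  refine ⟨i, ?_⟩
  let g₁ : SpecO C ⟶ Over.mk t := specMap ψ ≫ g₀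
  haveI : IsOpenImmersion g₁.left := by
    show IsOpenImmersion ((specMap ψ).left ≫ g₀.left)
    infer_instance
  have hgood : Good P ν t b i g₁.left.opensRange := by
    intro C' g' hr
    obtain ⟨χ, hχ⟩ := exists_factor (Over.mk t) g₁ g' hr
    rw [← hχ, b.nat]
    apply inCh_map
    rw [show b.val _ g₁ = Gf.map ψ (b.val A₀ g₀) from b.nat _ _ _ _]
    exact hin
  refine Opens.mem_sSup.2 ⟨_, hgood, z, ?_⟩
  show g₀.left ((specMap ψ).left z) = x
  rw [hz, hp₀]

end Locus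

section Rep
variable (hG : IsAffSheaf Gf)

/-- the section of the `i`-th chart -/
def xi (i : ι) : (FF hG).obj (op (SpecO (P i))) := fEquiv hG _ (famOfPt (P i) (ν i))

include hinjν in
theorem hinj_xi (i : ι) (T : Over (Spec (CommRingCat.of R))) :
    Function.Injective (fun a : T ⟶ SpecO (P i) => (FF hG).map a.op (xi P ν hG i)) := by
  intro a a' haa
  have h1 : (FF hG).map a.op (xi P ν hG i) = (FF hG).map a'.op (xi P ν hG i) := haa
  unfold xi at h1
  rw [FF_map_fEquiv, FF_map_fEquiv] at h1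
  have h2 := (fEquiv hG _).injective h1
  apply over_hom_ext_of_pts
  intro B g
  have h3 := congrArg (fun β => β.val B g) h2
  simp only [Fam.pull_val, famOfPt_val] at h3
  have h4 := hinjν i B _ _ h3
  rw [← specMap_algHomOf (g ≫ a), h4, specMap_algHomOf]

/-- the locus of the `i`-th chart, for elements of the extended functor -/
def UU (i : ι) (T₀ : Scheme.{u}) (t : T₀ ⟶ Spec (CommRingCat.of R))
    (x : (FF hG).obj (op (Over.mk t))) : T₀.Opens :=
  Uo P ν t ((fEquiv hG _).symm x) i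

include hinjν hloc hopen in
theorem hU_UU (i : ι) (T₀ : Scheme.{u}) (t : T₀ ⟶ Spec (CommRingCat.of R))
    (x : (FF hG).obj (op (Over.mk t))) (T₁ : Scheme.{u}) (φ : T₁ ⟶ T₀) :
    Set.range φ ⊆ (UU P ν hG i T₀ t x : Set T₀) ↔
      ∃ a : Over.mk (φ ≫ t) ⟶ SpecO (P i),
        (FF hG).map a.op (xi P ν hG i) = (FF hG).map (oHom φ t).op x := by
  obtain ⟨b, rfl⟩ := (fEquiv hG (Over.mk t)).surjective x
  unfold UU xi
  rw [Equiv.symm_apply_apply]
  constructor
  · intro hr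
    have hin : ∀ (B : CommAlgCat.{u} R) (g₁ : SpecO B ⟶ Over.mk (φ ≫ t)),
        InCh P ν i B (b.val B (g₁ ≫ oHom φ t)) := by
      intro B g₁
      apply good_Uo P ν hloc t b i
      rintro _ ⟨z, rfl⟩
      exact hr ⟨g₁.left z, rfl⟩
    choose σ hσ using hin
    obtain ⟨a, ha⟩ := exists_over_hom (T := Over.mk (φ ≫ t)) (T' := SpecO (P i))
      (fun B g₁ => specMap (σ B g₁)) (by
        intro B B' ψ g₁
        rw [← specMap_comp]
        congr 1
        apply hinjν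
        rw [hσ, Functor.map_comp_apply, hσ, Category.assoc, b.nat])
    refine ⟨a, ?_⟩
    rw [FF_map_fEquiv, FF_map_fEquiv]
    congr 1
    apply Fam.ext'
    intro B g₁
    rw [Fam.pull_val, Fam.pull_val, famOfPt_val, ha, algHomOf_specMap, hσ]
  · rintro ⟨a, ha⟩
    rw [FF_map_fEquiv, FF_map_fEquiv] at ha
    have h2 := (fEquiv hG _).injective ha
    rintro _ ⟨x₁, rfl⟩
    obtain ⟨A₁, g₁, -, p₁, hp₁⟩ := exists_affine_nbhd (Over.mk (φ ≫ t)) x₁
    have h3 := congrArg (fun β => β.val A₁ g₁) h2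
    simp only [Fam.pull_val, famOfPt_val] at h3
    have hin : InCh P ν i A₁ (b.val A₁ (g₁ ≫ oHom φ t)) := ⟨_, h3⟩
    have h4 := range_subset_Uo_of_inCh P ν hopen t b i A₁ (g₁ ≫ oHom φ t) hin
    have h5 : φ x₁ = (g₁ ≫ oHom φ t).left p₁ := by
      show φ x₁ = φ (g₁.left p₁)
      rw [hp₁]
    rw [h5]
    exact h4 ⟨p₁, rfl⟩

include hinjν hloc hopen hcov in
/-- **representability of the extended functor** -/
theorem isRepresentable_FF : (FF hG).IsRepresentable :=
  isRepresentable_of_openCover (F := FF hG) (ι := ι) (fun i => SpecO (P i)) (xi P ν hG)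
    (hinj_xi P ν hinjν hG) (UU P ν hG) (hU_UU P ν hinjν hloc hopen hG) (isZarSheaf_FF hG)
    (fun T₀ t x y => exists_mem_Uo P ν hcov t _ y)

include hinjν hloc hopen hcov in
/-- **main theorem**: a sheaf on `R`-algebras covered by representable open subfunctors is
representable by a scheme over `Spec R` -/
theorem exists_rep (hG : IsAffSheaf Gf) : ∃ (X : Over (Spec (CommRingCat.of R)))
    (e : ∀ A : CommAlgCat.{u} R, (SpecO A ⟶ X) ≃ Gf.obj A),
    ∀ (A B : CommAlgCat.{u} R) (φ : A ⟶ B) (g : SpecO A ⟶ X) (g' : SpecO B ⟶ X),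
      g'.left = Spec.map (CommRingCat.ofHom φ.hom.toRingHom) ≫ g.left →
        e B g' = Gf.map φ (e A g) := by
  obtain ⟨X, ⟨r⟩⟩ := isRepresentable_FF P ν hinjν hloc hopen hcov hG
  refine ⟨X, fun A => (r.homEquiv (X := SpecO A)).trans
    ((fEquiv hG (SpecO A)).symm.trans (yonedaFam A)), ?_⟩
  intro A B φ g g' hg
  have hg' : g' = specMap φ ≫ g := Over.OverMorphism.ext hg
  show ((fEquiv hG (SpecO B)).symm (r.homEquiv g')).val B (𝟙 _) =
    Gf.map φ (((fEquiv hG (SpecO A)).symm (r.homEquiv g)).val A (𝟙 _))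
  have h1 : r.homEquiv (specMap φ ≫ g) = (FF hG).map (specMap φ).op (r.homEquiv g) :=
    r.homEquiv_comp _ _
  have h2 : (fEquiv hG (SpecO B)).symm ((FF hG).map (specMap φ).op (r.homEquiv g)) =
      ((fEquiv hG (SpecO A)).symm (r.homEquiv g)).pull (specMap φ) := by
    rw [FF_map]
    exact Equiv.symm_apply_apply _ _
  rw [hg', h1, h2, Fam.pull_val, Category.id_comp, ← Fam.nat, Category.comp_id]

end Rep

end Charts

end Groth.Agent.Lib.Helper5.Grass.AffRep

end
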