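import Mathlib
import Groth.Agent.Lib.Helper5.Grass.GrAlg1

/-!
# Grassmannian points and localisation: separation (helper5)
-/

set_option autoImplicit false
universe u
open TensorProduct Module Module.Grassmannian TensorProduct.AlgebraTensorModule

noncomputable section

namespace Groth.Agent.Lib.Helper5.Grass.GrLoc

open Groth.Agent.Lib.Helper5.Grass.GrAlg1

variable {R : Type u} [CommRing R] {M : Type u} [AddCommGroup M] [Module R M] {k : ℕ}
variable {A B : Type u} [CommRing A] [CommRing B] [Algebra R A] [Algebra R B]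

theorem bc_comp {C : Type u} [CommRing C] [Algebra R C] (f : A →ₐ[R] B) (g : B →ₐ[R] C)
    (x : A ⊗[R] M) : bc (g.comp f) x = bc g (bc f x) := by
  induction x using TensorProduct.induction_on with
  | zero => simp
  | tmul a m => simp [bc_tmul]
  | add x y hx hy => rw [map_add, map_add, map_add, hx, hy]

/-- the base change of a submodule of `A ⊗ M` along `f` -/
def subMap (f : A →ₐ[R] B) (N : Submodule A (A ⊗[R] M)) : Submodule B (B ⊗[R] M) :=
  letI : Algebra A B := f.toAlgebra
  letI : IsScalarTower R A B := IsScalarTower.of_algebraMap_eq' <| IsScalarTower.algebraMap_eq R A B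
  LinearMap.ker (baseChangeMkQ B N)

theorem map_toSubmodule' (f : A →ₐ[R] B) (N : G(k, A ⊗[R] M; A)) :
    (Module.Grassmannian.map f N).toSubmodule = subMap f N.toSubmodule := rfl

theorem bc_mem_subMap_iff (f : A →ₐ[R] B) (N : Submodule A (A ⊗[R] M)) (x : A ⊗[R] M) :
    letI : Algebra A B := f.toAlgebra
    bc f x ∈ subMap f N ↔ (1 : B) ⊗ₜ[A] (N.mkQ x) = 0 := by
  letI : Algebra A B := f.toAlgebra
  letI : IsScalarTower R A B := IsScalarTower.of_algebraMap_eq' <| IsScalarTower.algebraMap_eq R A B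
  unfold subMap
  rw [LinearMap.mem_ker]
  show (N.mkQ.baseChange B) ((cancelBaseChange R A B B M).symm (bc f x)) = 0 ↔ _
  rw [cancel_symm_bc, LinearMap.baseChange_tmul]

theorem bc_mem_subMap (f : A →ₐ[R] B) (N : Submodule A (A ⊗[R] M)) (x : A ⊗[R] M)
    (hx : x ∈ N) : bc f x ∈ subMap f N := by
  letI : Algebra A B := f.toAlgebra
  rw [bc_mem_subMap_iff]
  have : N.mkQ x = 0 := (Submodule.Quotient.mk_eq_zero _).2 hx
  rw [this, tmul_zero]

/-- `subMap f N` is the smallest submodule containing the image of `N` -/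
theorem subMap_le_iff (f : A →ₐ[R] B) (N : Submodule A (A ⊗[R] M))
    (L : Submodule B (B ⊗[R] M)) :
    subMap f N ≤ L ↔ ∀ x ∈ N, bc f x ∈ L := by
  constructor
  · intro h x hx
    exact h (bc_mem_subMap f N x hx)
  · intro h
    letI : Algebra A B := f.toAlgebra
    letI : IsScalarTower R A B :=
      IsScalarTower.of_algebraMap_eq' <| IsScalarTower.algebraMap_eq R A B
    intro y hy
    unfold subMap at hy
    rw [LinearMap.mem_ker] at hy
    have hy' : (N.mkQ.baseChange B) ((cancelBaseChange R A B B M).symm y) = 0 := hy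
    have hmem : (cancelBaseChange R A B B M).symm y ∈
        LinearMap.ker (LinearMap.lTensor B N.mkQ) := by
      rw [LinearMap.mem_ker]
      exact hy'
    rw [lTensor_mkQ] at hmem
    obtain ⟨z, hz0⟩ := hmem
    have hz : (N.subtype.baseChange B) z = (cancelBaseChange R A B B M).symm y := hz0
    clear hz0
    have hy2 : y = cancelBaseChange R A B B M (N.subtype.baseChange B z) := by
      rw [hz, LinearEquiv.apply_symm_apply]
    rw [hy2]
    clear hy2 hz hy' hy
    induction z using TensorProduct.induction_on with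
    | zero => simp
    | tmul b n =>
      rw [LinearMap.baseChange_tmul]
      have h2 : (b ⊗ₜ[A] (N.subtype n) : B ⊗[A] (A ⊗[R] M)) =
          b • ((1 : B) ⊗ₜ[A] (n : A ⊗[R] M)) := by
        rw [smul_tmul', smul_eq_mul, mul_one]; rfl
      rw [h2, map_smul, ← cancel_symm_bc, LinearEquiv.apply_symm_apply]
      exact L.smul_mem b (h _ n.2)
    | add z w ihz ihw =>
      rw [map_add, map_add]
      exact L.add_mem ihz ihw

section Away
variable [inst : Algebra A B] (a : A) [IsLocalization.Away a B] (f : A →ₐ[R] B)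
  (hf : ∀ x, f x = algebraMap A B x)

include hf in
/-- membership in the localised submodule -/
theorem bc_mem_subMap_away_iff (N : Submodule A (A ⊗[R] M)) (x : A ⊗[R] M) :
    bc f x ∈ subMap f N ↔ ∃ n : ℕ, a ^ n • x ∈ N := by
  have : inst = f.toAlgebra := Algebra.algebra_ext _ _ (fun a => (hf a).symm)
  subst this
  letI : Algebra A B := f.toAlgebra
  rw [bc_mem_subMap_iff]
  have h1 := IsLocalizedModule.eq_zero_iff (S := Submonoid.powers a)
    (f := TensorProduct.mk A B ((A ⊗[R] M) ⧸ N) 1) (m := N.mkQ x)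
  rw [show (TensorProduct.mk A B ((A ⊗[R] M) ⧸ N) 1) (N.mkQ x) = (1 : B) ⊗ₜ[A] (N.mkQ x) from rfl]
    at h1
  rw [h1]
  constructor
  · rintro ⟨⟨_, n, rfl⟩, hn⟩
    refine ⟨n, ?_⟩
    have : (a ^ n) • N.mkQ x = 0 := hn
    rw [← map_smul] at this
    exact (Submodule.Quotient.mk_eq_zero _).1 this
  · rintro ⟨n, hn⟩
    refine ⟨⟨a ^ n, n, rfl⟩, ?_⟩
    show (a ^ n) • N.mkQ x = 0
    rw [← map_smul]
    exact (Submodule.Quotient.mk_eq_zero _).2 hn

include hf in
/-- every element of `B ⊗ M` is a fraction -/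
theorem exists_pow_smul_eq_bc (y : B ⊗[R] M) :
    ∃ (n : ℕ) (x : A ⊗[R] M), (algebraMap A B a) ^ n • y = bc f x := by
  induction y using TensorProduct.induction_on with
  | zero => exact ⟨0, 0, by simp⟩
  | tmul b m =>
    obtain ⟨n, c, hc⟩ := IsLocalization.Away.surj a b
    refine ⟨n, c ⊗ₜ[R] m, ?_⟩
    rw [bc_tmul, hf, ← hc, smul_tmul', smul_eq_mul, mul_comm]
  | add y y' ih ih' =>
    obtain ⟨n, x, hx⟩ := ih
    obtain ⟨n', x', hx'⟩ := ih'
    refine ⟨n + n', a ^ n' • x + a ^ n • x', ?_⟩
    rw [map_add, bc_smul, bc_smul, ← hx, ← hx', hf, hf, map_pow, map_pow, smul_add, smul_smul,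
      smul_smul, ← pow_add, ← pow_add, add_comm n' n]

end Away

/-- **separation**: Grassmannian points agreeing on a standard open cover are equal -/
theorem sep (s : Set A) (hs : Ideal.span s = ⊤) (N N' : G(k, A ⊗[R] M; A))
    (h : ∀ a ∈ s, Module.Grassmannian.map (IsScalarTower.toAlgHom R A (Localization.Away a)) N =
      Module.Grassmannian.map (IsScalarTower.toAlgHom R A (Localization.Away a)) N') :
    N = N' := by
  apply eq_of_le
  intro x hx
  refine Submodule.mem_of_span_eq_top_of_smul_pow_mem _ s hs x ?_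
  intro a
  have h1 := bc_mem_map (IsScalarTower.toAlgHom R A (Localization.Away a.1)) N x hx
  rw [h a.1 a.2, map_toSubmodule',
    bc_mem_subMap_away_iff a.1 (IsScalarTower.toAlgHom R A (Localization.Away a.1))
      (fun _ => rfl)] at h1
  exact h1

end Groth.Agent.Lib.Helper5.Grass.GrLoc

end
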