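import Mathlib
import Groth.Agent.Lib.Helper5.Grass.GrLoc

/-!
# Gluing Grassmannian points along a standard open cover (helper5)
-/

set_option autoImplicit false
universe u
open TensorProduct Module Module.Grassmannian TensorProduct.AlgebraTensorModule

noncomputable section

namespace Groth.Agent.Lib.Helper5.Grass.GrGlue

open Groth.Agent.Lib.Helper5.Grass.GrAlg1 Groth.Agent.Lib.Helper5.Grass.GrLoc

variable {R : Type u} [CommRing R] {M : Type u} [AddCommGroup M] [Module R M] {k : ℕ}
variable {A : Type u} [CommRing A] [Algebra R A]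

/-- the localisation map as an algebra homomorphism -/
abbrev phi (a : A) : A →ₐ[R] Localization.Away a :=
  IsScalarTower.toAlgHom R A (Localization.Away a)

section EquivQ
variable {B : Type u} [CommRing B] [Algebra R B] [inst : Algebra A B] (f : A →ₐ[R] B)
  (hf : ∀ x, f x = algebraMap A B x)

include hf in
/-- the quotient by the base-changed submodule is the base change of the quotient -/
theorem nonempty_equiv (N : Submodule A (A ⊗[R] M)) :
    Nonempty (((B ⊗[R] M) ⧸ subMap f N) ≃ₗ[B] B ⊗[A] ((A ⊗[R] M) ⧸ N)) := by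
  have : inst = f.toAlgebra := Algebra.algebra_ext _ _ (fun a => (hf a).symm)
  subst this
  letI : Algebra A B := f.toAlgebra
  letI : IsScalarTower R A B := IsScalarTower.of_algebraMap_eq' <| IsScalarTower.algebraMap_eq R A B
  exact ⟨baseChangeMkQEquiv N⟩

end EquivQ

variable (s : Finset A)
  (Ns : ∀ g : s, G(k, Localization.Away g.1 ⊗[R] M; Localization.Away g.1))

/-- the glued submodule -/
def glueSub : Submodule A (A ⊗[R] M) where
  carrier := {x | ∀ g : s, bc (phi (R := R) g.1) x ∈ (Ns g).toSubmodule}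
  add_mem' := by
    intro x y hx hy g
    rw [map_add]
    exact add_mem (hx g) (hy g)
  zero_mem' := by
    intro g
    rw [map_zero]
    exact zero_mem _
  smul_mem' := by
    intro c x hx g
    rw [bc_smul]
    exact Submodule.smul_mem _ _ (hx g)

theorem mem_glueSub (x : A ⊗[R] M) :
    x ∈ glueSub s Ns ↔ ∀ g : s, bc (phi (R := R) g.1) x ∈ (Ns g).toSubmodule := Iff.rfl

variable (H : ∀ (g g' : s) (C : Type u) [CommRing C] [Algebra R C]
    (σ : Localization.Away g.1 →ₐ[R] C) (σ' : Localization.Away g'.1 →ₐ[R] C),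
    σ.comp (phi g.1) = σ'.comp (phi g'.1) →
    Module.Grassmannian.map σ (Ns g) = Module.Grassmannian.map σ' (Ns g'))

omit s in
theorem exists_sigma (a a' : A) (C : Type u) [CommRing C] [Algebra R C]
    [Algebra (Localization.Away a') C] [IsScalarTower R (Localization.Away a') C]
    [IsLocalization.Away (algebraMap A (Localization.Away a') a) C] :
    ∃ σ : Localization.Away a →ₐ[R] C,
      σ.comp (phi (R := R) a) =
        (IsScalarTower.toAlgHom R (Localization.Away a') C).comp (phi (R := R) a') := by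
  have hu : IsUnit (((IsScalarTower.toAlgHom R (Localization.Away a') C).comp
      (phi (R := R) a')) a) := by
    rw [AlgHom.comp_apply]
    exact IsLocalization.Away.algebraMap_isUnit (algebraMap A (Localization.Away a') a)
  refine ⟨IsLocalization.Away.liftAlgHom a hu, ?_⟩
  apply AlgHom.ext
  intro x
  exact IsLocalization.Away.lift_eq a hu x

include H in
theorem exists_pow_smul_mem (g g' : s) (x : A ⊗[R] M)
    (hx : bc (phi (R := R) g.1) x ∈ (Ns g).toSubmodule) :
    ∃ m : ℕ, (algebraMap A (Localization.Away g'.1) g.1) ^ m • bc (phi (R := R) g'.1) x ∈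
      (Ns g').toSubmodule := by
  obtain ⟨σ, hcomp⟩ := exists_sigma (R := R) g.1 g'.1
    (Localization.Away (algebraMap A (Localization.Away g'.1) g.1))
  have h1 := bc_mem_map σ (Ns g) _ hx
  rw [H g g' _ σ _ hcomp, ← bc_comp, hcomp, bc_comp, map_toSubmodule',
    bc_mem_subMap_away_iff (algebraMap A (Localization.Away g'.1) g.1) _ (fun _ => rfl)] at h1
  exact h1

include H in
theorem exists_pow_smul_mem_glueSub (g : s) (x : A ⊗[R] M)
    (hx : bc (phi (R := R) g.1) x ∈ (Ns g).toSubmodule) :
    ∃ m : ℕ, g.1 ^ m • x ∈ glueSub s Ns := by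
  choose mf hmf using fun g' => exists_pow_smul_mem s Ns H g g' x hx
  refine ⟨Finset.univ.sup mf, ?_⟩
  intro g'
  rw [bc_smul]
  have hle : mf g' ≤ Finset.univ.sup mf := Finset.le_sup (Finset.mem_univ g')
  obtain ⟨d, hd⟩ := Nat.exists_eq_add_of_le hle
  have e1 : (phi (R := R) g'.1) (g.1 ^ Finset.univ.sup mf) =
      (algebraMap A (Localization.Away g'.1) g.1) ^ d *
        (algebraMap A (Localization.Away g'.1) g.1) ^ mf g' := by
    rw [hd, map_pow, pow_add, mul_comm]
    rfl
  rw [e1, mul_smul]
  exact Submodule.smul_mem _ _ (hmf g')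

include H in
/-- the glued submodule localises to the given ones -/
theorem subMap_glueSub (g : s) :
    subMap (phi (R := R) g.1) (glueSub s Ns) = (Ns g).toSubmodule := by
  apply le_antisymm
  · rw [subMap_le_iff]
    intro x hx
    exact hx g
  · intro y hy
    obtain ⟨n, x, hx⟩ := exists_pow_smul_eq_bc g.1 (phi (R := R) g.1) (fun _ => rfl) y
    have hx' : bc (phi (R := R) g.1) x ∈ (Ns g).toSubmodule := by
      rw [← hx]
      exact Submodule.smul_mem _ _ hy
    obtain ⟨m, hm⟩ := exists_pow_smul_mem_glueSub s Ns H g x hx'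
    have h1 := bc_mem_subMap (phi (R := R) g.1) _ _ hm
    rw [bc_smul, ← hx, smul_smul] at h1
    have hu : IsUnit ((phi (R := R) g.1) (g.1 ^ m) * algebraMap A (Localization.Away g.1) g.1 ^ n) := by
      apply IsUnit.mul
      · rw [map_pow]
        exact (IsLocalization.Away.algebraMap_isUnit g.1).pow m
      · exact (IsLocalization.Away.algebraMap_isUnit g.1).pow n
    exact (Submodule.smul_mem_iff_of_isUnit _ hu).1 h1

variable (hs : Ideal.span (s : Set A) = ⊤)

include H in
theorem nonempty_equiv_glue (g : s) :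
    Nonempty ((Localization.Away g.1 ⊗[A] ((A ⊗[R] M) ⧸ glueSub s Ns)) ≃ₗ[Localization.Away g.1]
      ((Localization.Away g.1 ⊗[R] M) ⧸ (Ns g).toSubmodule)) := by
  obtain ⟨e⟩ := nonempty_equiv (phi (R := R) g.1) (fun _ => rfl) (glueSub s Ns)
  exact ⟨e.symm.trans (Submodule.quotEquivOfEq _ _ (subMap_glueSub s Ns H g))⟩

include H hs in
theorem finitePresentation_glue :
    Module.FinitePresentation A ((A ⊗[R] M) ⧸ glueSub s Ns) := by
  refine Module.FinitePresentation.of_localizationSpan' (s : Set A) hs
    (Rₚ := fun g => Localization.Away g.1)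
    (Mₚ := fun g => Localization.Away g.1 ⊗[A] ((A ⊗[R] M) ⧸ glueSub s Ns))
    (fun g => TensorProduct.mk A (Localization.Away g.1) ((A ⊗[R] M) ⧸ glueSub s Ns) 1) ?_
  intro g
  obtain ⟨e⟩ := nonempty_equiv_glue s Ns H ⟨g.1, g.2⟩
  haveI : Module.FinitePresentation (Localization.Away g.1)
      ((Localization.Away g.1 ⊗[R] M) ⧸ (Ns ⟨g.1, g.2⟩).toSubmodule) :=
    Module.finitePresentation_of_projective _ _
  exact Module.FinitePresentation.of_equiv e.symm

include H hs in
theorem flat_glue : Module.Flat A ((A ⊗[R] M) ⧸ glueSub s Ns) := by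
  refine Module.flat_of_isLocalized_span A ((A ⊗[R] M) ⧸ glueSub s Ns) (s : Set A) hs
    (fun g => Localization.Away g.1 ⊗[A] ((A ⊗[R] M) ⧸ glueSub s Ns))
    (fun g => TensorProduct.mk A (Localization.Away g.1) ((A ⊗[R] M) ⧸ glueSub s Ns) 1) ?_
  intro g
  obtain ⟨e⟩ := nonempty_equiv_glue s Ns H ⟨g.1, g.2⟩
  haveI : Module.Projective (Localization.Away g.1)
      (Localization.Away g.1 ⊗[A] ((A ⊗[R] M) ⧸ glueSub s Ns)) :=
    Module.Projective.of_equiv e.symm
  exact Module.Flat.trans A (Localization.Away g.1) _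

include H hs in
theorem rank_glue (p : PrimeSpectrum A) :
    Module.rankAtStalk (R := A) ((A ⊗[R] M) ⧸ glueSub s Ns) p = k := by
  haveI := finitePresentation_glue s Ns H hs
  haveI := flat_glue s Ns H hs
  have hex : ∃ g : s, g.1 ∉ p.asIdeal := by
    by_contra hne
    push Not at hne
    have : Ideal.span (s : Set A) ≤ p.asIdeal := Ideal.span_le.2 (fun a ha => hne ⟨a, ha⟩)
    rw [hs] at this
    exact p.isPrime.ne_top (top_le_iff.1 this)
  obtain ⟨g, hg⟩ := hex
  have hp : p ∈ Set.range (PrimeSpectrum.comap (algebraMap A (Localization.Away g.1))) := by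
    rw [PrimeSpectrum.localization_away_comap_range (Localization.Away g.1) g.1]
    exact hg
  obtain ⟨p', rfl⟩ := hp
  obtain ⟨e⟩ := nonempty_equiv_glue s Ns H g
  have h1 := Module.rankAtStalk_baseChange (R := A) (M := (A ⊗[R] M) ⧸ glueSub s Ns)
    (S := Localization.Away g.1) p'
  have h2 := congrFun (Module.rankAtStalk_eq_of_equiv e) p'
  have h3 := (Ns g).rankAtStalk_eq p'
  exact (h1.symm.trans h2).trans h3

/-- the glued Grassmannian point -/
def glueG : G(k, A ⊗[R] M; A) :=
  haveI := finitePresentation_glue s Ns H hs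
  haveI := flat_glue s Ns H hs
  { toSubmodule := glueSub s Ns
    finite_quotient := inferInstance
    projective_quotient := Module.Flat.projective_of_finitePresentation
    rankAtStalk_eq := rank_glue s Ns H hs }

/-- **gluing** -/
theorem map_glueG (g : s) :
    Module.Grassmannian.map (phi (R := R) g.1) (glueG s Ns H hs) = Ns g := by
  apply Module.Grassmannian.ext
  rw [map_toSubmodule']
  exact subMap_glueSub s Ns H g

end Groth.Agent.Lib.Helper5.Grass.GrGlue

end
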