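import Mathlib
import Groth.Agent.Lib.Helper5.Grass.AffRep3
import Groth.Agent.Lib.Helper5.Grass.GrGlue

/-!
# The Grassmannian functor is a sheaf for standard open covers (helper5)
-/

set_option autoImplicit false
universe u
open CategoryTheory CategoryTheory.Limits AlgebraicGeometry TopologicalSpace Opposite
open TensorProduct Module Module.Grassmannian

noncomputable section

namespace Groth.Agent.Lib.Helper5.Grass.GrRep

open Groth.Agent.Lib.Helper5.Grass.AffRep Groth.Agent.Lib.Helper5.Grass.PtsLoc
  Groth.Agent.Lib.Helper5.Grass.GrAlg1 Groth.Agent.Lib.Helper5.Grass.GrLoc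
  Groth.Agent.Lib.Helper5.Grass.GrGlue

variable {R : Type u} [CommRing R] (M : Type u) [AddCommGroup M] [Module R M] (k : ℕ)

theorem isAffSheaf_grass :
    IsAffSheaf (Module.Grassmannian.functor (R := R) (M := M) k) where
  sep B s hs N N' h := GrLoc.sep s hs N N' h
  glue B s hs Ns H := by
    have H' : ∀ (g g' : s) (C : Type u) [CommRing C] [Algebra R C]
        (σ : Localization.Away g.1 →ₐ[R] C) (σ' : Localization.Away g'.1 →ₐ[R] C),
        σ.comp (phi g.1) = σ'.comp (phi g'.1) →
        Module.Grassmannian.map σ (Ns g) = Module.Grassmannian.map σ' (Ns g') := by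
      intro g g' C _ _ σ σ' hσ
      exact H g g' (CommAlgCat.of R C) (CommAlgCat.ofHom σ) (CommAlgCat.ofHom σ') (by
        apply CommAlgCat.hom_ext
        exact hσ)
    exact ⟨glueG s Ns H' hs, fun g => map_glueG s Ns H' hs g⟩

end Groth.Agent.Lib.Helper5.Grass.GrRep

end
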