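import Mathlib
import Groth.Agent.Lib.Helper5.Grass.GrAlg1

/-!
# Grassmannian points of `R^n` given by matrices (helper5)
-/

set_option autoImplicit false
universe u
open TensorProduct Module Module.Grassmannian TensorProduct.AlgebraTensorModule

namespace Groth.Agent.Lib.Helper5.Grass.GrAlg2

open Groth.Agent.Lib.Helper5.Grass.GrAlg1

section Mat
variable {R : Type u} [CommRing R] {n q : ℕ}

/-- the identification `B ⊗ R^n ≃ B^n` -/
noncomputable def E (B : Type u) [CommRing B] [Algebra R B] :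
    B ⊗[R] (Fin n → R) ≃ₗ[B] (Fin n → B) :=
  TensorProduct.piScalarRight R B B (Fin n)

theorem E_tmul {B : Type u} [CommRing B] [Algebra R B] (b : B) (m : Fin n → R) :
    E (R := R) B (b ⊗ₜ[R] m) = fun j => m j • b := by
  simp [E]

theorem E_bc {A B : Type u} [CommRing A] [CommRing B] [Algebra R A] [Algebra R B]
    (f : A →ₐ[R] B) (x : A ⊗[R] (Fin n → R)) :
    E (R := R) B (bc f x) = fun j => f (E (R := R) A x j) := by
  induction x using TensorProduct.induction_on with
  | zero => ext j; simp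
  | tmul a m =>
    rw [bc_tmul, E_tmul, E_tmul]
    ext j
    simp
  | add x y hx hy =>
    rw [map_add, map_add, hx, hy]
    ext j
    simp

variable {B : Type u} [CommRing B] [Algebra R B]

/-- the linear map `B ⊗ R^n → B^q` given by a matrix -/
noncomputable def lin (Mx : Matrix (Fin q) (Fin n) B) :
    B ⊗[R] (Fin n → R) →ₗ[B] (Fin q → B) :=
  Mx.mulVecLin ∘ₗ (E (R := R) B).toLinearMap

theorem lin_apply (Mx : Matrix (Fin q) (Fin n) B) (x : B ⊗[R] (Fin n → R)) :
    lin Mx x = Mx.mulVec (E (R := R) B x) := rfl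

theorem lin_surjective (Mx : Matrix (Fin q) (Fin n) B)
    (h : ∃ S : Matrix (Fin n) (Fin q) B, Mx * S = 1) :
    Function.Surjective (lin (R := R) Mx) := by
  obtain ⟨S, hS⟩ := h
  intro y
  refine ⟨(E (R := R) B).symm (S.mulVec y), ?_⟩
  rw [lin_apply, LinearEquiv.apply_symm_apply, Matrix.mulVec_mulVec, hS, Matrix.one_mulVec]

/-- the Grassmannian point defined by a matrix with a right inverse -/
noncomputable def grOf (Mx : Matrix (Fin q) (Fin n) B)
    (h : ∃ S : Matrix (Fin n) (Fin q) B, Mx * S = 1) :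
    G(q, B ⊗[R] (Fin n → R); B) :=
  haveI equiv := (lin (R := R) Mx).quotKerEquivOfSurjective (lin_surjective Mx h)
  { toSubmodule := LinearMap.ker (lin (R := R) Mx)
    finite_quotient := Module.Finite.equiv equiv.symm
    projective_quotient := Module.Projective.of_equiv equiv.symm
    rankAtStalk_eq := fun p => by
      haveI : Nontrivial B := p.nontrivial
      rw [Module.rankAtStalk_eq_of_equiv equiv, Module.rankAtStalk_eq_finrank_of_free]
      simp }

theorem grOf_toSubmodule (Mx : Matrix (Fin q) (Fin n) B)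
    (h : ∃ S : Matrix (Fin n) (Fin q) B, Mx * S = 1) :
    (grOf (R := R) Mx h).toSubmodule = LinearMap.ker (lin (R := R) Mx) := rfl

theorem map_rinv {A : Type u} [CommRing A] (f : A →+* B) (Mx : Matrix (Fin q) (Fin n) A)
    (h : ∃ S : Matrix (Fin n) (Fin q) A, Mx * S = 1) :
    ∃ S : Matrix (Fin n) (Fin q) B, Mx.map f * S = 1 := by
  obtain ⟨S, hS⟩ := h
  refine ⟨S.map f, ?_⟩
  rw [← Matrix.map_mul, hS, Matrix.map_one _ f.map_zero f.map_one]

/-- base change of a matrix point -/
theorem map_grOf {A : Type u} [CommRing A] [Algebra R A] (f : A →ₐ[R] B)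
    (Mx : Matrix (Fin q) (Fin n) A) (h : ∃ S : Matrix (Fin n) (Fin q) A, Mx * S = 1) :
    Module.Grassmannian.map f (grOf (R := R) Mx h) =
      grOf (R := R) (Mx.map f) (map_rinv (f : A →+* B) Mx h) := by
  apply eq_of_le
  rw [map_le_iff]
  intro x hx
  rw [grOf_toSubmodule, LinearMap.mem_ker, lin_apply] at hx ⊢
  rw [E_bc]
  ext a
  have := RingHom.map_mulVec (f : A →+* B) Mx (E (R := R) A x) a
  rw [hx] at this
  simp only [Pi.zero_apply, map_zero] at this
  exact this.symm

/-- the inclusion matrix of the coordinates `ι` -/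
def incl (B : Type u) [CommRing B] (ι : Fin q → Fin n) : Matrix (Fin n) (Fin q) B :=
  (1 : Matrix (Fin n) (Fin n) B).submatrix id ι

theorem mul_incl (ι : Fin q → Fin n) {m : ℕ} (M : Matrix (Fin m) (Fin n) B) :
    M * incl B ι = M.submatrix id ι := by
  ext a b
  simp [incl, Matrix.mul_apply, Matrix.one_apply]

/-- if `Mx'` is normalised on `ι` and `ker Mx' ≤ ker Mx` then `Mx = Mx_ι * Mx'` -/
theorem eq_mul_of_ker_le (ι : Fin q → Fin n) (Mx Mx' : Matrix (Fin q) (Fin n) B)
    (h1 : Mx'.submatrix id ι = 1)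
    (hk : ∀ v : Fin n → B, Mx'.mulVec v = 0 → Mx.mulVec v = 0) :
    Mx = Mx.submatrix id ι * Mx' := by
  have hP : Mx' * (1 - incl B ι * Mx') = 0 := by
    rw [Matrix.mul_sub, Matrix.mul_one, ← Matrix.mul_assoc, mul_incl, h1, Matrix.one_mul, sub_self]
  set Q : Matrix (Fin n) (Fin n) B := 1 - incl B ι * Mx' with hQ
  have hcol : ∀ j, Mx.mulVec (fun k => Q k j) = 0 := by
    intro j
    apply hk
    ext a
    have := congrFun (congrFun hP a) j
    simpa [Matrix.mul_apply, Matrix.mulVec, dotProduct] using this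
  have hP2 : Mx * Q = 0 := by
    ext a j
    have := congrFun (hcol j) a
    simpa [Matrix.mul_apply, Matrix.mulVec, dotProduct] using this
  rw [hQ, Matrix.mul_sub, Matrix.mul_one, ← Matrix.mul_assoc, mul_incl, sub_eq_zero] at hP2
  exact hP2

theorem rinv_of_normal (ι : Fin q → Fin n) (Mx : Matrix (Fin q) (Fin n) B)
    (h1 : Mx.submatrix id ι = 1) : ∃ S : Matrix (Fin n) (Fin q) B, Mx * S = 1 :=
  ⟨incl B ι, by rw [mul_incl, h1]⟩

/-- a Grassmannian point lies in the chart `ι` -/
def InChart (ι : Fin q → Fin n) (N : G(q, B ⊗[R] (Fin n → R); B)) : Prop :=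
  ∃ Mx : Matrix (Fin q) (Fin n) B, Mx.submatrix id ι = 1 ∧
    N.toSubmodule = LinearMap.ker (lin (R := R) Mx)

theorem ker_lin_le_iff (Mx Mx' : Matrix (Fin q) (Fin n) B) :
    LinearMap.ker (lin (R := R) Mx') ≤ LinearMap.ker (lin (R := R) Mx) ↔
      ∀ v : Fin n → B, Mx'.mulVec v = 0 → Mx.mulVec v = 0 := by
  constructor
  · intro h v hv
    have : (E (R := R) B).symm v ∈ LinearMap.ker (lin (R := R) Mx') := by
      rw [LinearMap.mem_ker, lin_apply, LinearEquiv.apply_symm_apply, hv]
    have := h this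
    rwa [LinearMap.mem_ker, lin_apply, LinearEquiv.apply_symm_apply] at this
  · intro h x hx
    rw [LinearMap.mem_ker, lin_apply] at hx ⊢
    exact h _ hx

/-- uniqueness of the normalised matrix -/
theorem normal_unique (ι : Fin q → Fin n) (Mx Mx' : Matrix (Fin q) (Fin n) B)
    (h1 : Mx.submatrix id ι = 1) (h1' : Mx'.submatrix id ι = 1)
    (hk : LinearMap.ker (lin (R := R) Mx) = LinearMap.ker (lin (R := R) Mx')) : Mx = Mx' := by
  have := eq_mul_of_ker_le ι Mx Mx' h1' ((ker_lin_le_iff Mx Mx').1 hk.ge)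
  rw [h1, Matrix.one_mul] at this
  exact this

/-- the unit criterion for a matrix point to lie in a chart -/
theorem inChart_grOf_iff (ι : Fin q → Fin n) (Mx : Matrix (Fin q) (Fin n) B)
    (h : ∃ S : Matrix (Fin n) (Fin q) B, Mx * S = 1) :
    InChart ι (grOf (R := R) Mx h) ↔ IsUnit (Mx.submatrix id ι).det := by
  constructor
  · rintro ⟨Mx', h1, hk⟩
    rw [grOf_toSubmodule] at hk
    have e1 := eq_mul_of_ker_le ι Mx Mx' h1 ((ker_lin_le_iff Mx Mx').1 hk.ge)
    obtain ⟨S, hS⟩ := h
    have e2 : Mx.submatrix id ι * (Mx' * S) = 1 := by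
      rw [← Matrix.mul_assoc, ← e1, hS]
    exact Matrix.isUnit_det_of_right_inverse e2
  · intro hu
    set g := Mx.submatrix id ι with hg
    refine ⟨g⁻¹ * Mx, ?_, ?_⟩
    · rw [← mul_incl, Matrix.mul_assoc, mul_incl, ← hg, Matrix.nonsing_inv_mul _ hu]
    · rw [grOf_toSubmodule]
      apply le_antisymm
      · rw [ker_lin_le_iff]
        intro v hv
        rw [← Matrix.mulVec_mulVec, hv, Matrix.mulVec_zero]
      · rw [ker_lin_le_iff]
        intro v hv
        have : g.mulVec ((g⁻¹ * Mx).mulVec v) = 0 := by rw [hv, Matrix.mulVec_zero]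
        rwa [Matrix.mulVec_mulVec, ← Matrix.mul_assoc, Matrix.mul_nonsing_inv _ hu,
          Matrix.one_mul] at this

theorem inChart_iff_exists_grOf (ι : Fin q → Fin n) (N : G(q, B ⊗[R] (Fin n → R); B)) :
    InChart ι N ↔ ∃ (Mx : Matrix (Fin q) (Fin n) B) (h1 : Mx.submatrix id ι = 1),
      N = grOf (R := R) Mx (rinv_of_normal ι Mx h1) := by
  constructor
  · rintro ⟨Mx, h1, hk⟩
    exact ⟨Mx, h1, Module.Grassmannian.ext hk⟩
  · rintro ⟨Mx, h1, rfl⟩
    exact ⟨Mx, h1, rfl⟩

/-- charts are stable under base change -/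
theorem inChart_map {A : Type u} [CommRing A] [Algebra R A] (f : A →ₐ[R] B)
    (ι : Fin q → Fin n) (N : G(q, A ⊗[R] (Fin n → R); A)) (hN : InChart ι N) :
    InChart ι (Module.Grassmannian.map f N) := by
  rw [inChart_iff_exists_grOf] at hN
  obtain ⟨Mx, h1, rfl⟩ := hN
  rw [map_grOf]
  refine ⟨Mx.map f, ?_, rfl⟩
  have : (Mx.map f).submatrix id ι = (Mx.submatrix id ι).map f := rfl
  rw [this, h1, Matrix.map_one _ (map_zero f) (map_one f)]

/-- the chart condition after base change of a matrix point -/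
theorem inChart_map_grOf_iff {A : Type u} [CommRing A] [Algebra R A] (f : A →ₐ[R] B)
    (ι : Fin q → Fin n) (Mx : Matrix (Fin q) (Fin n) A)
    (h : ∃ S : Matrix (Fin n) (Fin q) A, Mx * S = 1) :
    InChart ι (Module.Grassmannian.map f (grOf (R := R) Mx h)) ↔
      IsUnit (f (Mx.submatrix id ι).det) := by
  rw [map_grOf, inChart_grOf_iff]
  have : (Mx.map f).submatrix id ι = (Mx.submatrix id ι).map f := rfl
  rw [this]
  have e : ((Mx.submatrix id ι).map f).det = f (Mx.submatrix id ι).det := by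
    have := RingHom.map_det (f : A →+* B) (Mx.submatrix id ι)
    exact this.symm
  rw [e]

end Mat

end Groth.Agent.Lib.Helper5.Grass.GrAlg2
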