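import Mathlib
import Groth.Agent.Lib.Helper5.Grass.GrAlg2

/-!
# Grassmannian points of `R^n`: local freeness and the field case (helper5)
-/

set_option autoImplicit false
universe u
open TensorProduct Module Module.Grassmannian TensorProduct.AlgebraTensorModule

namespace Groth.Agent.Lib.Helper5.Grass.GrAlg3

open Groth.Agent.Lib.Helper5.Grass.GrAlg1 Groth.Agent.Lib.Helper5.Grass.GrAlg2

section Free
variable {R : Type u} [CommRing R] {n q : ℕ}

/-- a point whose quotient is free comes from a matrix -/
theorem exists_grOf_of_free {B : Type u} [CommRing B] [Algebra R B]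
    (N : G(q, B ⊗[R] (Fin n → R); B))
    [Module.Free B ((B ⊗[R] (Fin n → R)) ⧸ N.toSubmodule)] :
    ∃ (Mx : Matrix (Fin q) (Fin n) B) (h : ∃ S : Matrix (Fin n) (Fin q) B, Mx * S = 1),
      N = grOf (R := R) Mx h := by
  rcases subsingleton_or_nontrivial B with hB | hB
  · refine ⟨0, ⟨0, Subsingleton.elim _ _⟩, ?_⟩
    apply Module.Grassmannian.ext
    haveI : Subsingleton (B ⊗[R] (Fin n → R)) := Module.subsingleton B _
    exact Subsingleton.elim _ _
  · have hrk : Module.finrank B ((B ⊗[R] (Fin n → R)) ⧸ N.toSubmodule) = q := by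
      obtain ⟨p⟩ : Nonempty (PrimeSpectrum B) := inferInstance
      have h1 := N.rankAtStalk_eq p
      rw [Module.rankAtStalk_eq_finrank_of_free] at h1
      exact h1
    let bQ : Basis (Fin q) B ((B ⊗[R] (Fin n → R)) ⧸ N.toSubmodule) :=
      Module.finBasisOfFinrankEq B _ hrk
    let L : B ⊗[R] (Fin n → R) →ₗ[B] (Fin q → B) :=
      bQ.equivFun.toLinearMap ∘ₗ N.toSubmodule.mkQ
    have hLs : Function.Surjective L :=
      bQ.equivFun.surjective.comp (Submodule.mkQ_surjective _)
    have hLk : LinearMap.ker L = N.toSubmodule := by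
      rw [LinearMap.ker_comp, LinearEquiv.ker, Submodule.comap_bot, Submodule.ker_mkQ]
    let Mx : Matrix (Fin q) (Fin n) B :=
      LinearMap.toMatrix' (L ∘ₗ (E (R := R) B).symm.toLinearMap)
    have hlin : lin (R := R) Mx = L := by
      apply LinearMap.ext
      intro x
      rw [lin_apply]
      have := LinearMap.toMatrix'_mulVec (L ∘ₗ (E (R := R) B).symm.toLinearMap) (E (R := R) B x)
      rw [this]
      simp
    choose s hs using fun a : Fin q => hLs (Pi.single a 1)
    refine ⟨Mx, ⟨Matrix.of (fun j a => E (R := R) B (s a) j), ?_⟩, ?_⟩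
    · ext a' a
      have h1 : (Mx.mulVec (E (R := R) B (s a))) a' = (Pi.single a (1 : B) : Fin q → B) a' := by
        rw [← lin_apply, hlin, hs]
      rw [Matrix.one_apply]
      have h2 : (Pi.single a (1 : B) : Fin q → B) a' = if a' = a then 1 else 0 := by
        rw [Pi.single_apply]
      rw [← h2, ← h1]
      simp [Matrix.mul_apply, Matrix.mulVec, dotProduct]
    · apply Module.Grassmannian.ext
      rw [grOf_toSubmodule, hlin, hLk]

/-- freeness of the quotient of a base-changed point -/
theorem free_quot_map {A B : Type u} [CommRing A] [CommRing B] [Algebra R A] [Algebra R B]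
    {M : Type u} [AddCommGroup M] [Module R M] {k : ℕ}
    [inst : Algebra A B] (f : A →ₐ[R] B)
    (hf : ∀ a, f a = algebraMap A B a) (N : G(k, A ⊗[R] M; A))
    (hfree : Module.Free B (B ⊗[A] ((A ⊗[R] M) ⧸ N.toSubmodule))) :
    Module.Free B ((B ⊗[R] M) ⧸ (Module.Grassmannian.map f N).toSubmodule) := by
  have : inst = f.toAlgebra := Algebra.algebra_ext _ _ (fun a => (hf a).symm)
  subst this
  letI : Algebra A B := f.toAlgebra
  letI : IsScalarTower R A B := IsScalarTower.of_algebraMap_eq' <| IsScalarTower.algebraMap_eq R A B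
  exact Module.Free.of_equiv (baseChangeMkQEquiv (B := B) N.toSubmodule).symm

/-- **local freeness**: around any prime the quotient becomes free -/
theorem exists_away_free {A : Type u} [CommRing A] {P : Type u} [AddCommGroup P] [Module A P]
    (N : G(q, P; A)) (p : Ideal A) [p.IsPrime] :
    ∃ a ∉ p, Module.Free (Localization.Away a) (Localization.Away a ⊗[A] (P ⧸ N.toSubmodule)) := by
  obtain ⟨a, hap, hfree⟩ := Module.Free.away_of_finite_of_flat_of_rankAtStalk_constant
    (P ⧸ N.toSubmodule) p (by
      intro m _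
      rw [N.rankAtStalk_eq, N.rankAtStalk_eq])
  exact ⟨a, hap, Module.Free.of_equiv (IsLocalizedModule.isBaseChange (Submonoid.powers a)
      (Localization.Away a) (LocalizedModule.mkLinearMap (Submonoid.powers a)
        (P ⧸ N.toSubmodule))).equiv.symm⟩

/-- **local freeness**: around any prime the point comes from a matrix -/
theorem exists_away_grOf {A : Type u} [CommRing A] [Algebra R A]
    (N : G(q, A ⊗[R] (Fin n → R); A)) (p : Ideal A) [p.IsPrime] :
    ∃ a ∉ p, ∃ (Mx : Matrix (Fin q) (Fin n) (Localization.Away a))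
      (h : ∃ S : Matrix (Fin n) (Fin q) (Localization.Away a), Mx * S = 1),
      Module.Grassmannian.map (IsScalarTower.toAlgHom R A (Localization.Away a)) N =
        grOf (R := R) Mx h := by
  obtain ⟨a, hap, hfree⟩ := Module.Free.away_of_finite_of_flat_of_rankAtStalk_constant
    ((A ⊗[R] (Fin n → R)) ⧸ N.toSubmodule) p (by
      intro m _
      rw [N.rankAtStalk_eq, N.rankAtStalk_eq])
  refine ⟨a, hap, ?_⟩
  have hfree' : Module.Free (Localization.Away a)
      (Localization.Away a ⊗[A] ((A ⊗[R] (Fin n → R)) ⧸ N.toSubmodule)) :=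
    Module.Free.of_equiv (IsLocalizedModule.isBaseChange (Submonoid.powers a)
      (Localization.Away a) (LocalizedModule.mkLinearMap (Submonoid.powers a)
        ((A ⊗[R] (Fin n → R)) ⧸ N.toSubmodule))).equiv.symm
  haveI := free_quot_map (IsScalarTower.toAlgHom R A (Localization.Away a))
    (fun _ => rfl) N hfree'
  exact exists_grOf_of_free _

/-- every linear map `B ⊗ R^n → B^q` is given by a matrix -/
theorem exists_lin_eq {B : Type u} [CommRing B] [Algebra R B]
    (L : B ⊗[R] (Fin n → R) →ₗ[B] (Fin q → B)) :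
    ∃ Mx : Matrix (Fin q) (Fin n) B, lin (R := R) Mx = L := by
  refine ⟨LinearMap.toMatrix' (L ∘ₗ (E (R := R) B).symm.toLinearMap), ?_⟩
  apply LinearMap.ext
  intro x
  rw [lin_apply]
  have := LinearMap.toMatrix'_mulVec (L ∘ₗ (E (R := R) B).symm.toLinearMap) (E (R := R) B x)
  rw [this]
  simp

theorem lin_single {B : Type u} [CommRing B] [Algebra R B] (Mx : Matrix (Fin q) (Fin n) B)
    (j : Fin n) (a : Fin q) :
    lin (R := R) Mx ((E (R := R) B).symm (Pi.single j 1)) a = Mx a j := by
  rw [lin_apply, LinearEquiv.apply_symm_apply, Matrix.mulVec_single_one]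
  rfl

/-- **the field case**: every point over a field lies in a standard chart -/
theorem exists_chart_of_field {κ : Type u} [Field κ] [Algebra R κ]
    (N : G(q, κ ⊗[R] (Fin n → R); κ)) :
    ∃ (I : Finset (Fin n)) (hI : I.card = q), InChart (I.orderEmbOfFin hI) N := by
  classical
  set Q := (κ ⊗[R] (Fin n → R)) ⧸ N.toSubmodule with hQ
  let v : Fin n → Q := fun j => N.toSubmodule.mkQ ((E (R := R) κ).symm (Pi.single j 1))
  have hspan : Submodule.span κ (Set.range v) = ⊤ := by
    have h1 : Set.range v = (N.toSubmodule.mkQ ∘ₗ (E (R := R) κ).symm.toLinearMap) ''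
        (Set.range (Pi.basisFun κ (Fin n))) := by
      rw [← Set.range_comp]
      congr 1
      ext j
      simp [v]
    rw [h1, ← Submodule.map_span, (Pi.basisFun κ (Fin n)).span_eq, Submodule.map_top,
      LinearMap.range_eq_top]
    exact (Submodule.mkQ_surjective _).comp (E (R := R) κ).symm.surjective
  obtain ⟨b, -, -, hsub, hli⟩ := exists_linearIndepOn_extension (K := κ) (v := v)
    (linearIndepOn_empty κ v) (Set.empty_subset Set.univ)
  have hli' : LinearIndependent κ (fun x : b => v x) := hli
  have hsp' : ⊤ ≤ Submodule.span κ (Set.range (fun x : b => v x)) := by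
    rw [← hspan, ← Set.image_univ]
    have : Set.range (fun x : b => v x) = v '' b := by
      ext y; simp
    rw [this]
    exact Submodule.span_le.2 hsub
  let bb : Basis b κ Q := Basis.mk hli' hsp'
  have hrk : Module.finrank κ Q = q := by
    obtain ⟨p⟩ : Nonempty (PrimeSpectrum κ) := inferInstance
    have h1 := N.rankAtStalk_eq p
    rw [Module.rankAtStalk_eq_finrank_of_free] at h1
    exact h1
  have hcard : Fintype.card b = q := by
    rw [← Module.finrank_eq_card_basis bb, hrk]
  have hI : b.toFinset.card = q := by rw [Set.toFinset_card, hcard]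
  refine ⟨b.toFinset, hI, ?_⟩
  let e : Fin q ≃ b := (b.toFinset.orderIsoOfFin hI).toEquiv.trans
    (Equiv.subtypeEquivRight (fun x => Set.mem_toFinset))
  have he : ∀ a, ((e a : b) : Fin n) = b.toFinset.orderEmbOfFin hI a := by
    intro a
    rfl
  let bQ : Basis (Fin q) κ Q := bb.reindex e.symm
  have hbQ : ∀ a, bQ a = v (b.toFinset.orderEmbOfFin hI a) := by
    intro a
    simp only [bQ, Basis.reindex_apply, Equiv.symm_symm, bb, Basis.mk_apply, he]
  obtain ⟨Mx, hMx⟩ := exists_lin_eq (R := R) (bQ.equivFun.toLinearMap ∘ₗ N.toSubmodule.mkQ)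
  refine ⟨Mx, ?_, ?_⟩
  · ext a' a
    rw [Matrix.submatrix_apply, id]
    have h2 := lin_single (R := R) Mx (b.toFinset.orderEmbOfFin hI a) a'
    rw [← h2, hMx]
    show bQ.equivFun (v (b.toFinset.orderEmbOfFin hI a)) a' = _
    rw [← hbQ, Basis.equivFun_self, Matrix.one_apply]
    simp [eq_comm]
  · rw [hMx, LinearMap.ker_comp, LinearEquiv.ker, Submodule.comap_bot, Submodule.ker_mkQ]

end Free

end Groth.Agent.Lib.Helper5.Grass.GrAlg3
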