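import Mathlib
import Groth.Agent.Lib.Helper5.Grass.GrAlg3

/-!
# The standard charts of the Grassmannian: the universal matrix (helper5)
-/

set_option autoImplicit false
universe u
open TensorProduct Module Module.Grassmannian TensorProduct.AlgebraTensorModule

namespace Groth.Agent.Lib.Helper5.Grass.GrChartAlg

open Groth.Agent.Lib.Helper5.Grass.GrAlg1 Groth.Agent.Lib.Helper5.Grass.GrAlg2
  Groth.Agent.Lib.Helper5.Grass.GrAlg3

section Chart
variable (R : Type u) [CommRing R] {n q : ℕ} (ι : Fin q → Fin n)

/-- the variables of the chart -/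
abbrev Var : Type := Fin q × {j : Fin n // j ∉ Set.range ι}

/-- the coordinate ring of the chart -/
abbrev PR : Type u := MvPolynomial (Var ι) R

variable {R}

/-- the matrix normalised on `ι` with the given free entries -/
noncomputable def matOf {B : Type u} [CommRing B] (g : Var ι → B) : Matrix (Fin q) (Fin n) B :=
  fun a j => if h : j ∈ Set.range ι then (if ι a = j then 1 else 0) else g (a, ⟨j, h⟩)

theorem matOf_normal (hι : Function.Injective ι) {B : Type u} [CommRing B] (g : Var ι → B) :
    (matOf ι g).submatrix id ι = 1 := by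
  ext a b
  simp only [Matrix.submatrix_apply, id, matOf, Set.mem_range, exists_apply_eq_apply, dite_true,
    Matrix.one_apply]
  by_cases hab : a = b
  · simp [hab]
  · simp [hab, hι.ne hab]

theorem matOf_map {B C : Type u} [CommRing B] [CommRing C] (f : B →+* C) (g : Var ι → B) :
    (matOf ι g).map f = matOf ι (fun v => f (g v)) := by
  ext a j
  simp only [Matrix.map_apply, matOf]
  split_ifs <;> simp

theorem eq_matOf (hι : Function.Injective ι) {B : Type u} [CommRing B]
    (Mx : Matrix (Fin q) (Fin n) B) (h1 : Mx.submatrix id ι = 1) :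
    Mx = matOf ι (fun v => Mx v.1 v.2.1) := by
  ext a j
  simp only [matOf]
  split_ifs with hj hij
  · subst hij
    have := congrFun (congrFun h1 a) a
    simpa using this
  · obtain ⟨b, rfl⟩ := hj
    have := congrFun (congrFun h1 a) b
    have hab : a ≠ b := fun h => hij (by rw [h])
    simpa [Matrix.one_apply, hab] using this
  · rfl

theorem matOf_injective {B : Type u} [CommRing B] (g g' : Var ι → B)
    (h : matOf ι g = matOf ι g') : g = g' := by
  ext ⟨a, j, hj⟩
  have := congrFun (congrFun h a) j
  simpa [matOf, hj] using this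

/-- the universal matrix -/
noncomputable def Mu : Matrix (Fin q) (Fin n) (PR R ι) := matOf ι (fun v => MvPolynomial.X v)

variable (hι : Function.Injective ι)

/-- the universal point of the chart -/
noncomputable def Nuniv : G(q, (PR R ι) ⊗[R] (Fin n → R); PR R ι) :=
  grOf (R := R) (Mu (R := R) ι) (rinv_of_normal ι _ (matOf_normal ι hι _))

variable {B : Type u} [CommRing B] [Algebra R B]

theorem map_Nuniv (σ : PR R ι →ₐ[R] B) :
    Module.Grassmannian.map σ (Nuniv ι hι) =
      grOf (R := R) (matOf ι (fun v => σ (MvPolynomial.X v)))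
        (rinv_of_normal ι _ (matOf_normal ι hι _)) := by
  unfold Nuniv
  rw [map_grOf]
  apply Module.Grassmannian.ext
  rw [grOf_toSubmodule, grOf_toSubmodule]
  have : (Mu (R := R) ι).map σ = matOf ι (fun v => σ (MvPolynomial.X v)) :=
    matOf_map ι (σ : PR R ι →+* B) _
  rw [this]

/-- **universal property of the chart** -/
theorem inChart_iff_exists_map (N : G(q, B ⊗[R] (Fin n → R); B)) :
    InChart ι N ↔ ∃ σ : PR R ι →ₐ[R] B, Module.Grassmannian.map σ (Nuniv ι hι) = N := by
  constructor
  · rintro ⟨Mx, h1, hk⟩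
    refine ⟨MvPolynomial.aeval (fun v : Var ι => Mx v.1 v.2.1), ?_⟩
    rw [map_Nuniv]
    apply Module.Grassmannian.ext
    rw [grOf_toSubmodule, hk]
    congr 2
    rw [eq_matOf ι hι Mx h1]
    congr 1
    ext v
    simp [← eq_matOf ι hι Mx h1]
  · rintro ⟨σ, rfl⟩
    rw [map_Nuniv]
    exact ⟨_, matOf_normal ι hι _, rfl⟩

theorem map_Nuniv_injective (σ σ' : PR R ι →ₐ[R] B)
    (h : Module.Grassmannian.map σ (Nuniv ι hι) = Module.Grassmannian.map σ' (Nuniv ι hι)) :
    σ = σ' := by
  rw [map_Nuniv, map_Nuniv] at h
  have h2 := congrArg Module.Grassmannian.toSubmodule h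
  rw [grOf_toSubmodule, grOf_toSubmodule] at h2
  have h3 := normal_unique ι _ _ (matOf_normal ι hι _) (matOf_normal ι hι _) h2
  have h4 := matOf_injective ι _ _ h3
  apply MvPolynomial.algHom_ext
  intro v
  exact congrFun h4 v

end Chart

end Groth.Agent.Lib.Helper5.Grass.GrChartAlg
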