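import Mathlib
import Groth.Agent.Lib.Helper5.Grass.GrGlue
import Groth.Agent.Lib.Helper5.Grass.GrAlg3
import Groth.Agent.Lib.Helper5.Grass.GrChartAlg

/-!
# Lying in a standard chart of the Grassmannian is a local condition (helper5)
-/

set_option autoImplicit false
universe u
open TensorProduct Module Module.Grassmannian

noncomputable section

namespace Groth.Agent.Lib.Helper5.Grass.GrRep

open Groth.Agent.Lib.Helper5.Grass.GrAlg1 Groth.Agent.Lib.Helper5.Grass.GrAlg2
  Groth.Agent.Lib.Helper5.Grass.GrAlg3 Groth.Agent.Lib.Helper5.Grass.GrLoc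
  Groth.Agent.Lib.Helper5.Grass.GrGlue

variable {R : Type u} [CommRing R] {n q : ℕ} (ι : Fin q → Fin n)
variable {B : Type u} [CommRing B] [Algebra R B]

/-- a point in the chart is the point of its normalised matrix -/
theorem eq_grOf_of_ker (N : G(q, B ⊗[R] (Fin n → R); B)) (Mx : Matrix (Fin q) (Fin n) B)
    (h1 : Mx.submatrix id ι = 1) (hk : N.toSubmodule = LinearMap.ker (lin (R := R) Mx)) :
    N = grOf (R := R) Mx (rinv_of_normal ι Mx h1) :=
  Module.Grassmannian.ext hk

theorem map_normal {C : Type u} [CommRing C] (σ : B →+* C) (Mx : Matrix (Fin q) (Fin n) B)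
    (h1 : Mx.submatrix id ι = 1) : (Mx.map σ).submatrix id ι = 1 := by
  have : (Mx.map σ).submatrix id ι = (Mx.submatrix id ι).map σ := rfl
  rw [this, h1, Matrix.map_one _ σ.map_zero σ.map_one]

/-- two normalised matrices with the same base-changed point agree after base change -/
theorem map_eq_of_map_eq {B' C : Type u} [CommRing B'] [Algebra R B'] [CommRing C] [Algebra R C]
    (N : G(q, B ⊗[R] (Fin n → R); B)) (f : B →ₐ[R] B') (f' : B →ₐ[R] B')
    (Mx Mx' : Matrix (Fin q) (Fin n) B')
    (h1 : Mx.submatrix id ι = 1) (h1' : Mx'.submatrix id ι = 1)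
    (hk : (Module.Grassmannian.map f N).toSubmodule = LinearMap.ker (lin (R := R) Mx))
    (hk' : (Module.Grassmannian.map f' N).toSubmodule = LinearMap.ker (lin (R := R) Mx'))
    (hff : f = f') : Mx = Mx' := by
  subst hff
  exact normal_unique ι Mx Mx' h1 h1' (hk.symm.trans hk')

/-- the comparison maps to the double localisation, as algebra homomorphisms -/
theorem exists_sigma_right' (a b : B) (Ba : Type u) [CommRing Ba] [Algebra B Ba] [Algebra R Ba]
    [IsScalarTower R B Ba] [IsLocalization.Away a Ba]
    (C : Type u) [CommRing C] [Algebra B C] [Algebra R C] [IsScalarTower R B C]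
    [IsLocalization.Away (a * b) C] :
    ∃ σ : Ba →ₐ[R] C,
      σ.comp (IsScalarTower.toAlgHom R B Ba) = IsScalarTower.toAlgHom R B C ∧
      ∀ x, σ x = IsLocalization.Away.awayToAwayRight (S := Ba) (P := C) a b x := by
  have hu : IsUnit ((IsScalarTower.toAlgHom R B C) a) := by
    show IsUnit (algebraMap B C a)
    exact IsLocalization.Away.isUnit_of_dvd (a * b) (dvd_mul_right _ _)
  refine ⟨IsLocalization.Away.liftAlgHom a hu, ?_, fun x => rfl⟩
  apply AlgHom.ext
  intro x
  exact IsLocalization.Away.lift_eq a hu x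

theorem exists_sigma_left' (a b : B) (Bb : Type u) [CommRing Bb] [Algebra B Bb] [Algebra R Bb]
    [IsScalarTower R B Bb] [IsLocalization.Away b Bb]
    (C : Type u) [CommRing C] [Algebra B C] [Algebra R C] [IsScalarTower R B C]
    [IsLocalization.Away (a * b) C] :
    ∃ σ : Bb →ₐ[R] C,
      σ.comp (IsScalarTower.toAlgHom R B Bb) = IsScalarTower.toAlgHom R B C ∧
      ∀ x, σ x = IsLocalization.Away.awayToAwayLeft (S := Bb) (P := C) b a x := by
  have hu : IsUnit ((IsScalarTower.toAlgHom R B C) b) := by
    show IsUnit (algebraMap B C b)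
    exact IsLocalization.Away.isUnit_of_dvd (a * b) (dvd_mul_left _ _)
  refine ⟨IsLocalization.Away.liftAlgHom b hu, ?_, fun x => rfl⟩
  apply AlgHom.ext
  intro x
  exact IsLocalization.Away.lift_eq b hu x

theorem exists_sigma_right (a b : B) :
    ∃ σ : Localization.Away a →ₐ[R] Localization.Away (a * b),
      σ.comp (phi (R := R) a) = phi (R := R) (a * b) ∧
      ∀ x, σ x = IsLocalization.Away.awayToAwayRight (P := Localization.Away (a * b)) a b x :=
  exists_sigma_right' a b (Localization.Away a) (Localization.Away (a * b))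

theorem exists_sigma_left (a b : B) :
    ∃ σ : Localization.Away b →ₐ[R] Localization.Away (a * b),
      σ.comp (phi (R := R) b) = phi (R := R) (a * b) ∧
      ∀ x, σ x = IsLocalization.Away.awayToAwayLeft (P := Localization.Away (a * b)) b a x :=
  exists_sigma_left' a b (Localization.Away b) (Localization.Away (a * b))

/-- **lying in a standard chart is a local condition** -/
theorem inChart_of_local (N : G(q, B ⊗[R] (Fin n → R); B)) (s : Set B) (hs : Ideal.span s = ⊤)
    (h : ∀ a ∈ s, InChart ι (Module.Grassmannian.map (phi (R := R) a) N)) : InChart ι N := by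
  choose Mxf h1f hkf using fun a : s => h a.1 a.2
  have hcompat : ∀ (a b : s) (i : Fin q) (j : Fin n),
      IsLocalization.Away.awayToAwayRight (P := Localization.Away (a.1 * b.1)) a.1 b.1 (Mxf a i j) =
      IsLocalization.Away.awayToAwayLeft (P := Localization.Away (a.1 * b.1)) b.1 a.1
        (Mxf b i j) := by
    intro a b i j
    obtain ⟨σa, hσa, hσa'⟩ := exists_sigma_right (R := R) a.1 b.1
    obtain ⟨σb, hσb, hσb'⟩ := exists_sigma_left (R := R) a.1 b.1
    have ea := eq_grOf_of_ker ι _ (Mxf a) (h1f a) (hkf a)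
    have eb := eq_grOf_of_ker ι _ (Mxf b) (h1f b) (hkf b)
    have e1 := map_grOf (R := R) σa (Mxf a) (rinv_of_normal ι _ (h1f a))
    rw [← ea, ← Module.Grassmannian.map_comp, hσa] at e1
    have e2 := map_grOf (R := R) σb (Mxf b) (rinv_of_normal ι _ (h1f b))
    rw [← eb, ← Module.Grassmannian.map_comp, hσb] at e2
    have e3 := congrArg Module.Grassmannian.toSubmodule (e1.symm.trans e2)
    rw [grOf_toSubmodule, grOf_toSubmodule] at e3
    have hna : ((Mxf a).map σa).submatrix id ι = 1 := by
      have : ((Mxf a).map σa).submatrix id ι = ((Mxf a).submatrix id ι).map σa := rfl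
      rw [this, h1f a, Matrix.map_one _ (map_zero σa) (map_one σa)]
    have hnb : ((Mxf b).map σb).submatrix id ι = 1 := by
      have : ((Mxf b).map σb).submatrix id ι = ((Mxf b).submatrix id ι).map σb := rfl
      rw [this, h1f b, Matrix.map_one _ (map_zero σb) (map_one σb)]
    have e4 := normal_unique ι _ _ hna hnb e3
    have e5 := congrFun (congrFun e4 i) j
    rw [← hσa', ← hσb']
    exact e5
  have hex := fun (i : Fin q) (j : Fin n) =>
    (Localization.existsUnique_algebraMap_eq_of_span_eq_top s hs
      (fun a => Mxf a i j) (fun a b => hcompat a b i j)).exists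
  choose Mx0 hMx using hex
  let Mx : Matrix (Fin q) (Fin n) B := Matrix.of Mx0
  have hmap : ∀ a : s, Mx.map (phi (R := R) a.1) = Mxf a := by
    intro a
    ext i j
    exact hMx i j a
  have hnorm : Mx.submatrix id ι = 1 := by
    ext i i'
    apply Localization.algebraMap_injective_of_span_eq_top s hs
    funext a
    show algebraMap B (Localization.Away a.1) (Mx0 i (ι i')) =
      algebraMap B (Localization.Away a.1) ((1 : Matrix (Fin q) (Fin q) B) i i')
    rw [hMx]
    have := congrFun (congrFun (h1f a) i) i'
    rw [Matrix.submatrix_apply] at this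
    rw [id] at this
    rw [this, Matrix.one_apply, Matrix.one_apply]
    split_ifs <;> simp
  have hN : N = grOf (R := R) Mx (rinv_of_normal ι _ hnorm) := by
    apply GrLoc.sep s hs
    intro a ha
    rw [map_grOf]
    apply Module.Grassmannian.ext
    rw [grOf_toSubmodule, hkf ⟨a, ha⟩]
    congr 2
    exact (hmap ⟨a, ha⟩).symm
  exact ⟨Mx, hnorm, by rw [hN]; rfl⟩

end Groth.Agent.Lib.Helper5.Grass.GrRep

end
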