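import Mathlib
import Groth.Agent.Lib.Helper5.Grass.GrRep1
import Groth.Agent.Lib.Helper5.Grass.GrRep2

/-!
# Representability of the Grassmannian of a free module (helper5)
-/

set_option autoImplicit false
universe u
open CategoryTheory CategoryTheory.Limits AlgebraicGeometry TopologicalSpace Opposite
open TensorProduct Module Module.Grassmannian

noncomputable section

namespace Groth.Agent.Lib.Helper5.Grass.GrRep

open Groth.Agent.Lib.Helper5.Grass.AffRep Groth.Agent.Lib.Helper5.Grass.PtsLoc
  Groth.Agent.Lib.Helper5.Grass.GrAlg1 Groth.Agent.Lib.Helper5.Grass.GrAlg2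
  Groth.Agent.Lib.Helper5.Grass.GrAlg3 Groth.Agent.Lib.Helper5.Grass.GrLoc
  Groth.Agent.Lib.Helper5.Grass.GrGlue Groth.Agent.Lib.Helper5.Grass.GrChartAlg
  Groth.Agent.Lib.Helper5.Grass.Pts

section Alg
variable {R : Type u} [CommRing R] {n q : ℕ}

/-- a matrix with a right inverse has a maximal minor outside any given prime -/
theorem exists_minor_not_mem {A : Type u} [CommRing A] [Algebra R A]
    (Mx : Matrix (Fin q) (Fin n) A) (h : ∃ S : Matrix (Fin n) (Fin q) A, Mx * S = 1)
    (p : Ideal A) [p.IsPrime] :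
    ∃ (I : Finset (Fin n)) (hI : I.card = q),
      (Mx.submatrix id (I.orderEmbOfFin hI)).det ∉ p := by
  let ρ : A →ₐ[R] p.ResidueField := IsScalarTower.toAlgHom R A p.ResidueField
  obtain ⟨I, hI, hin⟩ := exists_chart_of_field (R := R) (κ := p.ResidueField)
    (Module.Grassmannian.map ρ (grOf (R := R) Mx h))
  rw [inChart_map_grOf_iff] at hin
  refine ⟨I, hI, fun hd => ?_⟩
  have h0 : ρ (Mx.submatrix id (I.orderEmbOfFin hI)).det = 0 :=
    Ideal.algebraMap_residueField_eq_zero.2 hd
  rw [h0] at hin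
  exact not_isUnit_zero hin

end Alg

section Charts
variable (R : Type u) [CommRing R] (n q : ℕ)

/-- the index set of the standard charts -/
abbrev Idx : Type u := ULift.{u} {I : Finset (Fin n) // I.card = q}

variable {n q}

/-- the embedding of a chart -/
def emb (i : Idx n q) : Fin q → Fin n := i.down.1.orderEmbOfFin i.down.2

theorem emb_inj (i : Idx n q) : Function.Injective (emb i) :=
  (i.down.1.orderEmbOfFin i.down.2).injective

/-- the coordinate algebra of a chart -/
def Pch (i : Idx n q) : CommAlgCat.{u} R := CommAlgCat.of R (PR R (emb i))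

/-- the universal point of a chart -/
def νch (i : Idx n q) :
    (Module.Grassmannian.functor (R := R) (M := Fin n → R) q).obj (Pch R i) :=
  Nuniv (emb i) (emb_inj i)

variable {R}

theorem inCh_iff (i : Idx n q) (B : CommAlgCat.{u} R)
    (N : (Module.Grassmannian.functor (R := R) (M := Fin n → R) q).obj B) :
    InCh (Pch R) (νch R) i B N ↔ InChart (emb i) N := by
  rw [inChart_iff_exists_map (emb i) (emb_inj i)]
  constructor
  · rintro ⟨σ, h⟩
    exact ⟨σ.hom, h⟩
  · rintro ⟨σ, h⟩
    exact ⟨CommAlgCat.ofHom σ, h⟩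

theorem hinj_ch (i : Idx n q) (B : CommAlgCat.{u} R) (σ σ' : Pch R i ⟶ B)
    (h : (Module.Grassmannian.functor (R := R) (M := Fin n → R) q).map σ (νch R i) =
      (Module.Grassmannian.functor (R := R) (M := Fin n → R) q).map σ' (νch R i)) : σ = σ' := by
  apply CommAlgCat.hom_ext
  exact map_Nuniv_injective (emb i) (emb_inj i) σ.hom σ'.hom h

theorem hloc_ch (i : Idx n q) (B : CommAlgCat.{u} R)
    (N : (Module.Grassmannian.functor (R := R) (M := Fin n → R) q).obj B) (s : Set B)
    (hs : Ideal.span s = ⊤)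
    (h : ∀ a ∈ s, InCh (Pch R) (νch R) i (awayAlg B a)
      ((Module.Grassmannian.functor (R := R) (M := Fin n → R) q).map (awayHom B a) N)) :
    InCh (Pch R) (νch R) i B N := by
  rw [inCh_iff]
  apply inChart_of_local (emb i) N s hs
  intro a ha
  have := h a ha
  rw [inCh_iff] at this
  exact this

theorem hopen_ch (i : Idx n q) (B : CommAlgCat.{u} R)
    (N : (Module.Grassmannian.functor (R := R) (M := Fin n → R) q).obj B)
    (p : PrimeSpectrum B) :
    ∃ a : B, a ∉ p.asIdeal ∧ ∃ d : Localization.Away a, ∀ (C : CommAlgCat.{u} R)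
      (ψ : awayAlg B a ⟶ C), InCh (Pch R) (νch R) i C
        ((Module.Grassmannian.functor (R := R) (M := Fin n → R) q).map (awayHom B a ≫ ψ) N) ↔
          IsUnit (ψ.hom d) := by
  obtain ⟨a, hap, Mx, h, hMx⟩ := exists_away_grOf (R := R) N p.asIdeal
  refine ⟨a, hap, (Mx.submatrix id (emb i)).det, ?_⟩
  intro C ψ
  rw [inCh_iff, Functor.map_comp_apply]
  have e : (Module.Grassmannian.functor (R := R) (M := Fin n → R) q).map (awayHom B a) N =
      grOf (R := R) Mx h := hMx
  rw [e]
  exact inChart_map_grOf_iff (R := R) ψ.hom (emb i) Mx h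

theorem hcov_ch (B : CommAlgCat.{u} R)
    (N : (Module.Grassmannian.functor (R := R) (M := Fin n → R) q).obj B)
    (p : PrimeSpectrum B) :
    ∃ (i : Idx n q) (C : CommAlgCat.{u} R) (ψ : B ⟶ C), IsOpenImmersion (specMap ψ).left ∧
      p ∈ Set.range (specMap ψ).left ∧ InCh (Pch R) (νch R) i C
        ((Module.Grassmannian.functor (R := R) (M := Fin n → R) q).map ψ N) := by
  obtain ⟨a, hap, Mx, h, hMx⟩ := exists_away_grOf (R := R) N p.asIdeal
  obtain ⟨p', hp'⟩ := exists_point_away B a p hap
  haveI := p'.isPrime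
  obtain ⟨I, hI, hd⟩ := exists_minor_not_mem (R := R) Mx h p'.asIdeal
  let i : Idx n q := ⟨⟨I, hI⟩⟩
  refine ⟨i, awayAlg (awayAlg B a) (Mx.submatrix id (emb i)).det,
    awayHom B a ≫ awayHom (awayAlg B a) (Mx.submatrix id (emb i)).det, ?_, ?_, ?_⟩
  · rw [specMap_comp]
    show IsOpenImmersion ((specMap _).left ≫ (specMap _).left)
    haveI := isOpenImmersion_specMap_awayHom (awayAlg B a) (Mx.submatrix id (emb i)).det
    infer_instance
  · obtain ⟨p'', hp''⟩ := exists_point_away (awayAlg B a) (Mx.submatrix id (emb i)).det p' hd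
    refine ⟨p'', ?_⟩
    rw [specMap_comp]
    show (specMap (awayHom B a)).left
      ((specMap (awayHom (awayAlg B a) (Mx.submatrix id (emb i)).det)).left p'') = p
    rw [hp'', hp']
  · rw [inCh_iff, Functor.map_comp_apply]
    have e : (Module.Grassmannian.functor (R := R) (M := Fin n → R) q).map (awayHom B a) N =
        grOf (R := R) Mx h := hMx
    rw [e]
    refine (inChart_map_grOf_iff (R := R) _ (emb i) Mx h).2 ?_
    exact IsLocalization.Away.algebraMap_isUnit (Mx.submatrix id (emb i)).det

/-- **the Grassmannian of a free module of finite rank is representable** -/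
theorem exists_rep_free : ∃ (X : Over (Spec (CommRingCat.of R)))
    (e : ∀ A : CommAlgCat.{u} R, (SpecO A ⟶ X) ≃
      (Module.Grassmannian.functor (R := R) (M := Fin n → R) q).obj A),
    ∀ (A B : CommAlgCat.{u} R) (φ : A ⟶ B) (g : SpecO A ⟶ X) (g' : SpecO B ⟶ X),
      g'.left = Spec.map (CommRingCat.ofHom φ.hom.toRingHom) ≫ g.left →
        e B g' = (Module.Grassmannian.functor (R := R) (M := Fin n → R) q).map φ (e A g) :=
  exists_rep (Pch R) (νch R) hinj_ch hloc_ch hopen_ch hcov_ch (isAffSheaf_grass (Fin n → R) q)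

end Charts

end Groth.Agent.Lib.Helper5.Grass.GrRep

end
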