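import Mathlib
import Groth.Agent.Lib.Helper5.Grass.GrRep3
import Groth.Agent.Lib.Helper5.Grass.GrObs

/-!
# Representability of the Grassmannian of a finitely generated module (helper5)
-/

set_option autoImplicit false
universe u
open CategoryTheory CategoryTheory.Limits AlgebraicGeometry TopologicalSpace Opposite
open TensorProduct Module Module.Grassmannian

noncomputable section

namespace Groth.Agent.Lib.Helper5.Grass.GrRep

open Groth.Agent.Lib.Helper5.Grass.AffRep Groth.Agent.Lib.Helper5.Grass.PtsLoc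
  Groth.Agent.Lib.Helper5.Grass.GrAlg1 Groth.Agent.Lib.Helper5.Grass.GrAlg2
  Groth.Agent.Lib.Helper5.Grass.GrAlg3 Groth.Agent.Lib.Helper5.Grass.GrLoc
  Groth.Agent.Lib.Helper5.Grass.GrGlue Groth.Agent.Lib.Helper5.Grass.GrChartAlg
  Groth.Agent.Lib.Helper5.Grass.Pts Groth.Agent.Lib.Helper5.Grass.GrComap
  Groth.Agent.Lib.Helper5.Grass.GrObs

variable {R : Type u} [CommRing R] {n k : ℕ} {M : Type u} [AddCommGroup M] [Module R M]
  (v : (Fin n → R) →ₗ[R] M) (hv : Function.Surjective v)

/-- the ideal of the closed chart -/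
def Jch (i : Idx n k) : Ideal (PR R (emb i)) :=
  obsK (LinearMap.ker v : Set (Fin n → R)) (Nuniv (R := R) (emb i) (emb_inj i)).toSubmodule

/-- the coordinate algebra of the closed chart -/
abbrev Qch (i : Idx n k) : Type u := PR R (emb i) ⧸ Jch v i

/-- the quotient map -/
abbrev πch (i : Idx n k) : PR R (emb i) →ₐ[R] Qch v i := Ideal.Quotient.mkₐ R (Jch v i)

/-- the restriction of the universal point -/
def N₁ch (i : Idx n k) : G(k, Qch v i ⊗[R] (Fin n → R); Qch v i) :=
  Module.Grassmannian.map (πch v i) (Nuniv (R := R) (emb i) (emb_inj i))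

include hv in
theorem ker_le_N₁ch (i : Idx n k) :
    LinearMap.ker (v.baseChange (Qch v i)) ≤ (N₁ch v i).toSubmodule := by
  rw [ker_baseChange_le_iff v hv]
  unfold N₁ch
  refine (obsK_le_ker_iff (LinearMap.ker v : Set (Fin n → R)) (πch v i) _).1 ?_
  intro x hx
  rw [RingHom.mem_ker]
  exact Ideal.Quotient.eq_zero_iff_mem.2 hx

/-- the universal point of the closed chart -/
def νM (i : Idx n k) : G(k, Qch v i ⊗[R] M; Qch v i) :=
  pushG v hv (Qch v i) (N₁ch v i) (ker_le_N₁ch v hv i)

theorem comapG_νM (i : Idx n k) : comapG v hv (Qch v i) (νM v hv i) = N₁ch v i :=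
  comapG_pushG v hv (Qch v i) (N₁ch v i) (ker_le_N₁ch v hv i)

/-- the coordinate algebras of the closed charts -/
abbrev PM (i : Idx n k) : CommAlgCat.{u} R := CommAlgCat.of R (Qch v i)

/-- the universal points, as values of the functor -/
abbrev νMf (i : Idx n k) : (Module.Grassmannian.functor (R := R) (M := M) k).obj (PM v i) :=
  νM v hv i

/-- the chart condition for `M` is the chart condition for the preimage -/
theorem inCh_M_iff (i : Idx n k) (B : CommAlgCat.{u} R)
    (N : (Module.Grassmannian.functor (R := R) (M := M) k).obj B) :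
    InCh (PM v) (νMf v hv) i B N ↔ InChart (emb i) (comapG v hv B N) := by
  constructor
  · rintro ⟨σ, rfl⟩
    rw [inChart_iff_exists_map (emb i) (emb_inj i)]
    refine ⟨σ.hom.comp (πch v i), ?_⟩
    have h1 : comapG v hv B ((Module.Grassmannian.functor (R := R) (M := M) k).map σ
        (νMf v hv i)) = Module.Grassmannian.map σ.hom (comapG v hv _ (νM v hv i)) :=
      (map_comapG v hv σ.hom (νM v hv i)).symm
    rw [h1, comapG_νM, Module.Grassmannian.map_comp]
    rfl
  · intro h
    rw [inChart_iff_exists_map (emb i) (emb_inj i)] at h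
    obtain ⟨σ₀, hσ₀⟩ := h
    have hker := ker_le_comapG v hv B N
    rw [← hσ₀, ker_baseChange_le_iff v hv] at hker
    have hJ : Jch v i ≤ RingHom.ker (σ₀ : PR R (emb i) →+* B) :=
      (obsK_le_ker_iff (LinearMap.ker v : Set (Fin n → R)) σ₀ _).2 hker
    let σ : Qch v i →ₐ[R] B := Ideal.Quotient.liftₐ (Jch v i) σ₀ (fun a ha => hJ ha)
    have hσ : σ.comp (πch v i) = σ₀ := by
      apply AlgHom.ext
      intro a
      rfl
    refine ⟨CommAlgCat.ofHom σ, ?_⟩
    apply comapG_injective v hv B
    have h1 : comapG v hv B ((Module.Grassmannian.functor (R := R) (M := M) k).map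
        (CommAlgCat.ofHom σ) (νMf v hv i)) =
        Module.Grassmannian.map σ (comapG v hv _ (νM v hv i)) :=
      (map_comapG v hv σ (νM v hv i)).symm
    rw [h1, comapG_νM]
    unfold N₁ch
    rw [← Module.Grassmannian.map_comp, hσ, hσ₀]

theorem comapG_map (B C : CommAlgCat.{u} R) (ψ : B ⟶ C)
    (N : (Module.Grassmannian.functor (R := R) (M := M) k).obj B) :
    comapG v hv C ((Module.Grassmannian.functor (R := R) (M := M) k).map ψ N) =
      (Module.Grassmannian.functor (R := R) (M := Fin n → R) k).map ψ (comapG v hv B N) :=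
  (map_comapG v hv ψ.hom N).symm

theorem hinj_M (i : Idx n k) (B : CommAlgCat.{u} R) (σ σ' : PM v i ⟶ B)
    (h : (Module.Grassmannian.functor (R := R) (M := M) k).map σ (νMf v hv i) =
      (Module.Grassmannian.functor (R := R) (M := M) k).map σ' (νMf v hv i)) : σ = σ' := by
  have h1 := congrArg (comapG v hv B) h
  rw [comapG_map, comapG_map] at h1
  have h2 : comapG v hv (PM v i) (νMf v hv i) = N₁ch v i := comapG_νM v hv i
  rw [h2] at h1
  have h3 : Module.Grassmannian.map (σ.hom.comp (πch v i))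
      (Nuniv (R := R) (emb i) (emb_inj i)) =
      Module.Grassmannian.map (σ'.hom.comp (πch v i)) (Nuniv (R := R) (emb i) (emb_inj i)) := by
    rw [Module.Grassmannian.map_comp, Module.Grassmannian.map_comp]
    exact h1
  have h4 := map_Nuniv_injective (emb i) (emb_inj i) _ _ h3
  apply CommAlgCat.hom_ext
  apply AlgHom.ext
  intro x
  obtain ⟨y, rfl⟩ := Ideal.Quotient.mk_surjective x
  exact congrArg (fun f => f y) h4

theorem hloc_M (i : Idx n k) (B : CommAlgCat.{u} R)
    (N : (Module.Grassmannian.functor (R := R) (M := M) k).obj B) (s : Set B)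
    (hs : Ideal.span s = ⊤)
    (h : ∀ a ∈ s, InCh (PM v) (νMf v hv) i (awayAlg B a)
      ((Module.Grassmannian.functor (R := R) (M := M) k).map (awayHom B a) N)) :
    InCh (PM v) (νMf v hv) i B N := by
  rw [inCh_M_iff]
  apply inChart_of_local (emb i) _ s hs
  intro a ha
  have := h a ha
  rw [inCh_M_iff, comapG_map] at this
  exact this

theorem hopen_M (i : Idx n k) (B : CommAlgCat.{u} R)
    (N : (Module.Grassmannian.functor (R := R) (M := M) k).obj B) (p : PrimeSpectrum B) :
    ∃ a : B, a ∉ p.asIdeal ∧ ∃ d : Localization.Away a, ∀ (C : CommAlgCat.{u} R)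
      (ψ : awayAlg B a ⟶ C), InCh (PM v) (νMf v hv) i C
        ((Module.Grassmannian.functor (R := R) (M := M) k).map (awayHom B a ≫ ψ) N) ↔
          IsUnit (ψ.hom d) := by
  obtain ⟨a, ha, d, hd⟩ := hopen_ch i B (comapG v hv B N) p
  refine ⟨a, ha, d, ?_⟩
  intro C ψ
  rw [inCh_M_iff, comapG_map, ← inCh_iff]
  exact hd C ψ

theorem hcov_M (B : CommAlgCat.{u} R)
    (N : (Module.Grassmannian.functor (R := R) (M := M) k).obj B) (p : PrimeSpectrum B) :
    ∃ (i : Idx n k) (C : CommAlgCat.{u} R) (ψ : B ⟶ C), IsOpenImmersion (specMap ψ).left ∧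
      p ∈ Set.range (specMap ψ).left ∧ InCh (PM v) (νMf v hv) i C
        ((Module.Grassmannian.functor (R := R) (M := M) k).map ψ N) := by
  obtain ⟨i, C, ψ, h1, h2, h3⟩ := hcov_ch B (comapG v hv B N) p
  refine ⟨i, C, ψ, h1, h2, ?_⟩
  rw [inCh_M_iff, comapG_map, ← inCh_iff]
  exact h3

include hv in
/-- **the Grassmannian of a quotient of a free module of finite rank is representable** -/
theorem exists_rep_quot : ∃ (X : Over (Spec (CommRingCat.of R)))
    (e : ∀ A : CommAlgCat.{u} R, (SpecO A ⟶ X) ≃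
      (Module.Grassmannian.functor (R := R) (M := M) k).obj A),
    ∀ (A B : CommAlgCat.{u} R) (φ : A ⟶ B) (g : SpecO A ⟶ X) (g' : SpecO B ⟶ X),
      g'.left = Spec.map (CommRingCat.ofHom φ.hom.toRingHom) ≫ g.left →
        e B g' = (Module.Grassmannian.functor (R := R) (M := M) k).map φ (e A g) :=
  exists_rep (PM v) (νMf v hv) (hinj_M v hv) (hloc_M v hv) (hopen_M v hv) (hcov_M v hv)
    (isAffSheaf_grass M k)

end Groth.Agent.Lib.Helper5.Grass.GrRep

end
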