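import Mathlib
import Groth.Agent.Lib.Helper5.Grass.PtsLoc
import Groth.Agent.Lib.Helper4.GrassClosed1

/-!
# Closed subfunctors of representable functors on `R`-algebras (helper5)

The geometric part follows helper4's `GrassClosed1` (stability loci), for an arbitrary closed
condition on the values of an arbitrary functor.
-/

set_option autoImplicit false
universe u
open CategoryTheory CategoryTheory.Limits AlgebraicGeometry TopologicalSpace Opposite

noncomputable section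

namespace Groth.Agent.Lib.Helper5.Grass.ClosedSub

open Groth.Agent.Lib.Helper5.Grass.Pts Groth.Agent.Lib.Helper5.Grass.Pts2
  Groth.Agent.Lib.Helper5.Grass.AffYoneda Groth.Agent.Lib.Helper5.Grass.PtsLoc

variable {R : Type u} [CommRing R] {Gf : CommAlgCat.{u} R ⥤ Type u}
  (𝒞 : ∀ B : CommAlgCat.{u} R, Gf.obj B → Prop)
  (hcl : ∀ (B : CommAlgCat.{u} R) (N : Gf.obj B), ∃ J : Ideal B,
    ∀ (C : CommAlgCat.{u} R) (ψ : B ⟶ C),
      𝒞 C (Gf.map ψ N) ↔ J ≤ RingHom.ker (ψ.hom : ↑B →+* ↑C))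

/-- the ideal of the closed condition -/
def Jof (B : CommAlgCat.{u} R) (N : Gf.obj B) : Ideal B := (hcl B N).choose

theorem Jof_spec (B : CommAlgCat.{u} R) (N : Gf.obj B) (C : CommAlgCat.{u} R) (ψ : B ⟶ C) :
    𝒞 C (Gf.map ψ N) ↔ Jof 𝒞 hcl B N ≤ RingHom.ker (ψ.hom : ↑B →+* ↑C) :=
  (hcl B N).choose_spec C ψ

theorem C_iff_bot (B : CommAlgCat.{u} R) (N : Gf.obj B) : 𝒞 B N ↔ Jof 𝒞 hcl B N = ⊥ := by
  have h := Jof_spec 𝒞 hcl B N B (𝟙 B)
  rw [Functor.map_id_apply] at h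
  rw [h, ← le_bot_iff]
  have : RingHom.ker ((𝟙 B : B ⟶ B).hom : ↑B →+* ↑B) = ⊥ := by
    ext x; simp [RingHom.mem_ker]
  rw [this]

theorem Jof_map (B C : CommAlgCat.{u} R) (ψ : B ⟶ C) (N : Gf.obj B) :
    Jof 𝒞 hcl C (Gf.map ψ N) = (Jof 𝒞 hcl B N).map (ψ.hom : ↑B →+* ↑C) := by
  apply Groth.Agent.Lib.Helper4.ContentRep1.ideal_eq_of_forall_hom
  intro E χ
  letI : Algebra R E := (χ.comp (algebraMap R C)).toAlgebra
  let χ' : (C : Type u) →ₐ[R] (E : Type u) := ⟨χ, fun r => rfl⟩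
  let χc : C ⟶ CommAlgCat.of R E := CommAlgCat.ofHom χ'
  have h1 := Jof_spec 𝒞 hcl C (Gf.map ψ N) _ χc
  have h2 := Jof_spec 𝒞 hcl B N _ (ψ ≫ χc)
  rw [Functor.map_comp_apply] at h2
  have e1 : ((χc.hom : ↑C →+* E)) = χ := rfl
  rw [e1] at h1
  rw [← h1, h2, Ideal.map_le_iff_le_comap, RingHom.comap_ker]
  rfl

section Geo
variable (X : Over (Spec (CommRingCat.of R)))
  (eX : ∀ B : CommAlgCat.{u} R, (SpecO B ⟶ X) ≃ Gf.obj B)
  (heX : ∀ (B C : CommAlgCat.{u} R) (φ' : B ⟶ C) (g : SpecO B ⟶ X) (g' : SpecO C ⟶ X),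
      g'.left = Spec.map (CommRingCat.ofHom φ'.hom.toRingHom) ≫ g.left →
        eX C g' = Gf.map φ' (eX B g))

include heX in
theorem transfer_C (B : CommAlgCat.{u} R) (g : SpecO B ⟶ X) {E : CommRingCat.{u}}
    (y : Spec E ⟶ X.left) (ξ : CommRingCat.of B ⟶ E) (h : y = Spec.map ξ ≫ g.left) :
    𝒞 (objOf X y) (valOf X eX y) ↔ Jof 𝒞 hcl B (eX B g) ≤ RingHom.ker ξ.hom := by
  obtain ⟨ξ', h1, h2⟩ := transfer X eX heX B g y ξ h
  rw [h2, Jof_spec 𝒞 hcl, h1]
  exact Iff.rfl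

/-- the ideal of an affine point -/
def Jy {E : CommRingCat.{u}} (y : Spec E ⟶ X.left) : Ideal (objOf X y) :=
  Jof 𝒞 hcl (objOf X y) (valOf X eX y)

include heX in
set_option backward.isDefEq.respectTransparency false in
theorem transfer_J (B : CommAlgCat.{u} R) (g : SpecO B ⟶ X) {E : CommRingCat.{u}}
    (y : Spec E ⟶ X.left) (ξ : CommRingCat.of B ⟶ E) (h : y = Spec.map ξ ≫ g.left) :
    Jy 𝒞 hcl X eX y = (Jof 𝒞 hcl B (eX B g)).map ξ.hom := by
  obtain ⟨ξ', h1, h2⟩ := transfer X eX heX B g y ξ h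
  unfold Jy
  rw [h2, Jof_map, h1]

/-- the ideal attached to an affine open -/
def JU (U : X.left.affineOpens) : Ideal Γ(X.left, U.1) :=
  Jy 𝒞 hcl X eX U.2.fromSpec

/-- the ideal sheaf of the closed locus -/
def Jsh : X.left.IdealSheafData where
  ideal U := JU 𝒞 hcl X eX U
  map_ideal_basicOpen U f := by
    have h1 := transfer_J 𝒞 hcl X eX heX (objOf X U.2.fromSpec) (ptOf X U.2.fromSpec)
      (X.left.affineBasicOpen f).2.fromSpec
      (X.left.presheaf.map (homOfLE (X.left.basicOpen_le f)).op)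
      (U.2.map_fromSpec (X.left.affineBasicOpen f).2 (homOfLE (X.left.basicOpen_le f)).op).symm
    exact h1.symm

include heX in
theorem key_c {E : CommRingCat.{u}} (y : Spec E ⟶ X.left) (c : E) (U : X.left.affineOpens)
    (hc : Set.range (Spec.map (CommRingCat.ofHom (algebraMap E (Localization.Away c))) ≫ y) ⊆
      (U.1 : Set X.left)) :
    ∃ χ : Γ(X.left, U.1) ⟶ CommRingCat.of (Localization.Away c),
      Spec.map χ ≫ U.2.fromSpec =
        Spec.map (CommRingCat.ofHom (algebraMap E (Localization.Away c))) ≫ y ∧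
      (Jy 𝒞 hcl X eX y ≤ RingHom.ker (algebraMap E (Localization.Away c)) ↔
        JU 𝒞 hcl X eX U ≤ RingHom.ker χ.hom) := by
  obtain ⟨yc, hyc⟩ : ∃ yc, yc =
    Spec.map (CommRingCat.ofHom (algebraMap E (Localization.Away c))) ≫ y := ⟨_, rfl⟩
  rw [← hyc] at hc ⊢
  have hr : Set.range yc ⊆ Set.range U.2.fromSpec := by rw [U.2.range_fromSpec]; exact hc
  let l := IsOpenImmersion.lift U.2.fromSpec yc hr
  have hl : l ≫ U.2.fromSpec = yc := IsOpenImmersion.lift_fac _ _ _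
  let χ := Spec.preimage l
  have hχ : Spec.map χ ≫ U.2.fromSpec = yc := by rw [Spec.map_preimage]; exact hl
  refine ⟨χ, hχ, ?_⟩
  have s1 := transfer_C 𝒞 hcl X eX heX (objOf X y) (ptOf X y) yc
    (CommRingCat.ofHom (algebraMap E (Localization.Away c))) hyc
  have s2 := transfer_C 𝒞 hcl X eX heX (objOf X U.2.fromSpec) (ptOf X U.2.fromSpec) yc χ
    hχ.symm
  exact s1.symm.trans s2

include heX in
theorem main' {E : CommRingCat.{u}} (y : Spec E ⟶ X.left) :
    (∃ h : Spec E ⟶ (Jsh 𝒞 hcl X eX heX).subscheme,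
      h ≫ (Jsh 𝒞 hcl X eX heX).subschemeι = y) ↔ 𝒞 (objOf X y) (valOf X eX y) := by
  rw [C_iff_bot 𝒞 hcl]
  have hS := Groth.Agent.Lib.Helper4.GrassClosed1.span_S X y
  constructor
  · rintro ⟨h, hh⟩
    rw [eq_bot_iff]
    intro e he
    refine Groth.Agent.Lib.Helper4.GrassClosed1.eq_zero_of_span_away _ hS e ?_
    rintro c ⟨U, hU⟩
    obtain ⟨χ, hχ, hiff⟩ := key_c 𝒞 hcl X eX heX y c U hU
    have h1 : JU 𝒞 hcl X eX U ≤ RingHom.ker χ.hom :=
      Groth.Agent.Lib.Helper4.GrassClosed1.le_of_factor (Jsh 𝒞 hcl X eX heX) U χ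
        (Spec.map (CommRingCat.ofHom (algebraMap E (Localization.Away c))) ≫ h)
        (by rw [Category.assoc, hh, hχ])
    exact hiff.2 h1 he
  · intro hbot
    have hS' : Ideal.span (Set.range (fun c : {c : E | ∃ U : X.left.affineOpens,
      Set.range (Spec.map (CommRingCat.ofHom (algebraMap E (Localization.Away c))) ≫ y) ⊆
        (U.1 : Set X.left)} => (c : E))) = ⊤ := by
      rw [Subtype.range_coe]; exact hS
    apply Groth.Agent.Lib.Helper4.GrassClosed1.local_lift (Jsh 𝒞 hcl X eX heX).subschemeι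
      (Scheme.affineOpenCoverOfSpanRangeEqTop _ hS').openCover y
    rintro ⟨c, U, hU⟩
    obtain ⟨χ, hχ, hiff⟩ := key_c 𝒞 hcl X eX heX y c U hU
    have h1 : JU 𝒞 hcl X eX U ≤ RingHom.ker χ.hom := hiff.1 (by
      show Jof 𝒞 hcl (objOf X y) (valOf X eX y) ≤ _
      rw [hbot]; exact bot_le)
    obtain ⟨l, hl⟩ := Groth.Agent.Lib.Helper4.GrassClosed1.factor_of_le
      (Jsh 𝒞 hcl X eX heX) U χ h1
    exact ⟨l, hl.trans hχ⟩

include hcl heX in
/-- **the closed subscheme of a closed condition** -/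
theorem exists_closed : ∃ (Z : Scheme.{u}) (ι : Z ⟶ X.left), IsClosedImmersion ι ∧
    ∀ (B : CommAlgCat.{u} R) (g : SpecO B ⟶ X),
      (∃ h : (SpecO B).left ⟶ Z, h ≫ ι = g.left) ↔ 𝒞 B (eX B g) := by
  refine ⟨_, (Jsh 𝒞 hcl X eX heX).subschemeι, inferInstance, fun B g => ?_⟩
  have h1 := main' 𝒞 hcl X eX heX (E := CommRingCat.of B) g.left
  refine h1.trans ?_
  have s1 := transfer_C 𝒞 hcl X eX heX B g (E := CommRingCat.of B) g.left (𝟙 _)
    (by rw [Spec.map_id, Category.id_comp])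
  refine s1.trans ?_
  rw [C_iff_bot 𝒞 hcl, ← le_bot_iff]
  have : RingHom.ker (CommRingCat.Hom.hom (𝟙 (CommRingCat.of ↑B))) = ⊥ := by
    ext x; simp [RingHom.mem_ker]
  rw [this]

end Geo

end Groth.Agent.Lib.Helper5.Grass.ClosedSub

end
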