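import Mathlib
import Groth.Agent.Lib.Helper5.Grass.AffYoneda
import Groth.Agent.Lib.Helper5.Grass.Pts
import Groth.Agent.Lib.Helper5.Grass.GrChartAlg

/-!
# The standard charts of a scheme representing the Grassmannian functor of `R^n` (helper5)
-/

set_option autoImplicit false
universe u
open CategoryTheory CategoryTheory.Limits AlgebraicGeometry TopologicalSpace Opposite
open TensorProduct Module Module.Grassmannian

noncomputable section

namespace Groth.Agent.Lib.Helper5.Grass.GrChart

open Groth.Agent.Lib.Helper5.Grass.GrAlg1 Groth.Agent.Lib.Helper5.Grass.GrAlg2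
  Groth.Agent.Lib.Helper5.Grass.GrAlg3 Groth.Agent.Lib.Helper5.Grass.GrChartAlg
  Groth.Agent.Lib.Helper5.Grass.Pts Groth.Agent.Lib.Helper5.Grass.AffYoneda

variable {R : Type u} [CommRing R] {n q : ℕ} (X : Over (Spec (CommRingCat.of R)))
variable (eX : ∀ B : CommAlgCat.{u} R, (SpecO B ⟶ X) ≃
    (Module.Grassmannian.functor (R := R) (M := Fin n → R) q).obj B)
  (heX : ∀ (B C : CommAlgCat.{u} R) (φ' : B ⟶ C) (g : SpecO B ⟶ X) (g' : SpecO C ⟶ X),
      g'.left = Spec.map (CommRingCat.ofHom φ'.hom.toRingHom) ≫ g.left →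
        eX C g' = (Module.Grassmannian.functor (R := R) (M := Fin n → R) q).map φ' (eX B g))
variable (ι : Fin q → Fin n) (hι : Function.Injective ι)

/-- the chart morphism -/
def jI : SpecO (CommAlgCat.of R (PR R ι)) ⟶ X :=
  (eX (CommAlgCat.of R (PR R ι))).symm (Nuniv ι hι)

theorem eX_jI : eX (CommAlgCat.of R (PR R ι)) (jI X eX ι hι) = Nuniv ι hι :=
  Equiv.apply_symm_apply _ _

include heX in
/-- an affine point lifts to the chart iff its value lies in the chart -/
theorem lift_iff {E : CommRingCat.{u}} (y : Spec E ⟶ X.left) :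
    (∃ s : Spec E ⟶ Spec (CommRingCat.of (PR R ι)), s ≫ (jI X eX ι hι).left = y) ↔
      InChart ι (valOf X eX y) := by
  constructor
  · rintro ⟨s, hs⟩
    obtain ⟨ξ', -, hv⟩ := transfer X eX heX (CommAlgCat.of R (PR R ι)) (jI X eX ι hι) y
      (Spec.preimage s) (by rw [Spec.map_preimage, hs])
    rw [eX_jI] at hv
    exact (inChart_iff_exists_map ι hι _).2 ⟨ξ'.hom, hv.symm⟩
  · intro h
    obtain ⟨σ, hσ⟩ := (inChart_iff_exists_map ι hι _).1 h
    refine ⟨Spec.map (CommRingCat.ofHom σ.toRingHom), ?_⟩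
    letI : Algebra R E := algOf X y
    let σ' : CommAlgCat.of R (PR R ι) ⟶ objOf X y :=
      CommAlgCat.ofHom (R := R) (X := PR R ι) (Y := E) σ
    have := eq_of_valOf X eX heX y (CommAlgCat.of R (PR R ι)) (jI X eX ι hι)
      σ' (by rw [eX_jI]; exact hσ.symm)
    exact this.symm

include heX in
/-- the chart morphism is injective on affine points -/
theorem jI_inj (E : CommRingCat.{u}) (a b : Spec E ⟶ Spec (CommRingCat.of (PR R ι)))
    (hab : a ≫ (jI X eX ι hι).left = b ≫ (jI X eX ι hι).left) : a = b := by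
  obtain ⟨ξa, hξa, hva⟩ := transfer X eX heX (CommAlgCat.of R (PR R ι)) (jI X eX ι hι)
    (a ≫ (jI X eX ι hι).left) (Spec.preimage a) (by rw [Spec.map_preimage])
  obtain ⟨ξb, hξb, hvb⟩ := transfer X eX heX (CommAlgCat.of R (PR R ι)) (jI X eX ι hι)
    (a ≫ (jI X eX ι hι).left) (Spec.preimage b) (by rw [Spec.map_preimage, hab])
  rw [eX_jI] at hva hvb
  have h1 : ξa.hom = ξb.hom := map_Nuniv_injective ι hι _ _ (hva.symm.trans hvb)
  have h2 : (Spec.preimage a).hom = (Spec.preimage b).hom := by
    rw [← hξa, ← hξb, h1]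
  have h3 : Spec.preimage a = Spec.preimage b := CommRingCat.hom_ext h2
  have := congrArg Spec.map h3
  rwa [Spec.map_preimage, Spec.map_preimage] at this

include heX in
set_option backward.isDefEq.respectTransparency false in
/-- locally on `X` the universal point comes from a matrix -/
theorem exists_matrix_chart (x : X.left) :
    ∃ (B : CommRingCat.{u}) (t : Spec B ⟶ X.left), IsOpenImmersion t ∧ x ∈ Set.range t ∧
      ∃ (Mx : Matrix (Fin q) (Fin n) ↑(objOf X t))
        (h : ∃ S : Matrix (Fin n) (Fin q) ↑(objOf X t), Mx * S = 1),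
        valOf X eX t = grOf (R := R) Mx h := by
  obtain ⟨i, p', hp'⟩ := X.left.affineOpenCover.openCover.exists_eq x
  set A : CommRingCat.{u} := X.left.affineOpenCover.X i with hA
  set y₀ : Spec A ⟶ X.left := X.left.affineOpenCover.f i with hy₀
  obtain ⟨a, hap, hfree⟩ := @exists_away_free q ↑(objOf X y₀) _ _ _ _ (valOf X eX y₀)
    p'.asIdeal p'.isPrime
  let loc : A ⟶ CommRingCat.of (Localization.Away a) :=
    CommRingCat.ofHom (algebraMap ↑(objOf X y₀) (Localization.Away a))
  haveI : IsOpenImmersion (Spec.map loc) :=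
    IsOpenImmersion.of_isLocalization (R := ↑(objOf X y₀)) (S := Localization.Away a) a
  refine ⟨CommRingCat.of (Localization.Away a), Spec.map loc ≫ y₀, inferInstance, ?_, ?_⟩
  · have h1 : p' ∈ Set.range (PrimeSpectrum.comap
        (algebraMap ↑(objOf X y₀) (Localization.Away a))) := by
      rw [PrimeSpectrum.localization_away_comap_range (Localization.Away a) a]
      exact hap
    obtain ⟨p'', hp''⟩ := h1
    refine ⟨p'', ?_⟩
    rw [Scheme.Hom.comp_apply]
    have : (Spec.map loc) p'' = p' := hp''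
    rw [this]
    exact hp'
  · obtain ⟨ξ', hξ', hv⟩ := transfer' X eX heX y₀ loc
    haveI := @free_quot_map R _ ↑(objOf X y₀) ↑(objOf X (Spec.map loc ≫ y₀)) _ _ _ _
      (Fin n → R) _ _ q (inferInstanceAs (Algebra ↑(objOf X y₀) (Localization.Away a))) ξ'.hom
      (fun a' => congrArg (fun m : ↑(objOf X y₀) →+* ↑(objOf X (Spec.map loc ≫ y₀)) => m a') hξ')
      (valOf X eX y₀) hfree
    obtain ⟨Mx, h, hMx⟩ := exists_grOf_of_free (R := R)
      (Module.Grassmannian.map ξ'.hom (valOf X eX y₀))
    exact ⟨Mx, h, hv.trans hMx⟩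

include heX in
/-- **the chart morphism is an open immersion** -/
theorem isOpenImmersion_jI : IsOpenImmersion (jI X eX ι hι).left := by
  apply isOpenImmersion_of_charts _ (jI_inj X eX heX ι hι)
  intro x
  obtain ⟨B, t, ht, hx, Mx, h, hMx⟩ := exists_matrix_chart X eX heX x
  refine ⟨B, t, ht, hx, (Mx.submatrix id ι).det, ?_⟩
  intro E σ
  rw [lift_iff X eX heX ι hι]
  obtain ⟨ξ', hξ', hv⟩ := transfer' X eX heX t σ
  rw [hv, hMx]
  have := inChart_map_grOf_iff (R := R) ξ'.hom ι Mx h
  rw [show (Module.Grassmannian.functor (R := R) (M := Fin n → R) q).map ξ' (grOf (R := R) Mx h) =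
    Module.Grassmannian.map ξ'.hom (grOf (R := R) Mx h) from rfl, this]
  have e : ξ'.hom (Mx.submatrix id ι).det = σ.hom (Mx.submatrix id ι).det := by
    have := congrArg (fun m : ↑(objOf X t) →+* ↑(objOf X (Spec.map σ ≫ t)) =>
      m (Mx.submatrix id ι).det) hξ'
    exact this
  rw [e]
  exact Iff.rfl

include heX in
/-- **the standard charts cover** -/
theorem exists_mem_range_jI (x : X.left) :
    ∃ (I : Finset (Fin n)) (hI : I.card = q),
      x ∈ Set.range (jI X eX (I.orderEmbOfFin hI) (I.orderEmbOfFin hI).injective).left := by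
  set y := X.left.fromSpecResidueField x with hy
  letI : Field ↑(objOf X y) := inferInstanceAs (Field (X.left.residueField x))
  obtain ⟨I, hI, hin⟩ := exists_chart_of_field (R := R) (κ := ↑(objOf X y)) (valOf X eX y)
  refine ⟨I, hI, ?_⟩
  obtain ⟨s, hs⟩ := (lift_iff X eX heX (I.orderEmbOfFin hI) (I.orderEmbOfFin hI).injective y).2 hin
  obtain ⟨pt⟩ : Nonempty (Spec (X.left.residueField x)) := inferInstance
  refine ⟨s pt, ?_⟩
  rw [← Scheme.Hom.comp_apply, hs, hy]
  exact Scheme.fromSpecResidueField_apply x pt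

end Groth.Agent.Lib.Helper5.Grass.GrChart

end
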