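import Mathlib
import Groth.Agent.Lib.Helper5.Grass.GrObs
import Groth.Agent.Lib.Helper5.Grass.Pts2
import Groth.Agent.Lib.Helper5.Grass.AffYoneda

/-!
# The closed immersion of Grassmannians induced by a surjection of modules (helper5)
-/

set_option autoImplicit false
universe u
open CategoryTheory CategoryTheory.Limits AlgebraicGeometry TopologicalSpace Opposite
open TensorProduct Module Module.Grassmannian

noncomputable section

namespace Groth.Agent.Lib.Helper5.Grass.GrClosed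

open Groth.Agent.Lib.Helper5.Grass.GrAlg1 Groth.Agent.Lib.Helper5.Grass.GrComap
  Groth.Agent.Lib.Helper5.Grass.GrObs Groth.Agent.Lib.Helper5.Grass.Pts
  Groth.Agent.Lib.Helper5.Grass.Pts2 Groth.Agent.Lib.Helper5.Grass.AffYoneda

variable {R : Type u} [CommRing R] {M₁ M₂ : Type u} [AddCommGroup M₁] [Module R M₁]
  [AddCommGroup M₂] [Module R M₂] (v : M₁ →ₗ[R] M₂) (hv : Function.Surjective v) (k : ℕ)
  (X₁ X₂ : Over (Spec (CommRingCat.of R)))
  (e₁ : ∀ A : CommAlgCat.{u} R,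
      (SpecO A ⟶ X₁) ≃ (Module.Grassmannian.functor (R := R) (M := M₁) k).obj A)
  (he₁ : ∀ (A B : CommAlgCat.{u} R) (φ : A ⟶ B) (g : SpecO A ⟶ X₁) (g' : SpecO B ⟶ X₁),
      g'.left = Spec.map (CommRingCat.ofHom φ.hom.toRingHom) ≫ g.left →
        e₁ B g' = (Module.Grassmannian.functor (R := R) (M := M₁) k).map φ (e₁ A g))
  (e₂ : ∀ A : CommAlgCat.{u} R,
      (SpecO A ⟶ X₂) ≃ (Module.Grassmannian.functor (R := R) (M := M₂) k).obj A)
  (he₂ : ∀ (A B : CommAlgCat.{u} R) (φ : A ⟶ B) (g : SpecO A ⟶ X₂) (g' : SpecO B ⟶ X₂),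
      g'.left = Spec.map (CommRingCat.ofHom φ.hom.toRingHom) ≫ g.left →
        e₂ B g' = (Module.Grassmannian.functor (R := R) (M := M₂) k).map φ (e₂ A g))

/-- the preimage as a map of functor values -/
def cmp (A : CommAlgCat.{u} R)
    (N : (Module.Grassmannian.functor (R := R) (M := M₂) k).obj A) :
    (Module.Grassmannian.functor (R := R) (M := M₁) k).obj A :=
  comapG v hv A N

theorem cmp_map (A B : CommAlgCat.{u} R) (φ : A ⟶ B)
    (N : (Module.Grassmannian.functor (R := R) (M := M₂) k).obj A) :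
    cmp v hv k B ((Module.Grassmannian.functor (R := R) (M := M₂) k).map φ N) =
      (Module.Grassmannian.functor (R := R) (M := M₁) k).map φ (cmp v hv k A N) :=
  (map_comapG v hv φ.hom N).symm

/-- the map on affine points -/
def tau (E : CommRingCat.{u}) (y : Spec E ⟶ X₂.left) : Spec E ⟶ X₁.left :=
  (ptOfVal X₁ e₁ (objOf X₂ y) (cmp v hv k (objOf X₂ y) (valOf X₂ e₂ y))).left

include he₁ he₂ in
theorem tau_natural (E E' : CommRingCat.{u}) (φ : E ⟶ E') (y : Spec E ⟶ X₂.left) :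
    tau v hv k X₁ X₂ e₁ e₂ E' (Spec.map φ ≫ y) = Spec.map φ ≫ tau v hv k X₁ X₂ e₁ e₂ E y := by
  obtain ⟨ξ', hξ', hval⟩ := transfer' X₂ e₂ he₂ y φ
  unfold tau
  rw [hval, cmp_map, ptOfVal_map X₁ e₁ he₁ _ _ ξ']
  congr 2
  apply CommRingCat.hom_ext
  exact hξ'

include hv he₁ he₂ in
/-- existence of the morphism inducing the preimage map -/
theorem exists_c : ∃ c : X₂ ⟶ X₁, ∀ (A : CommAlgCat.{u} R) (g : SpecO A ⟶ X₂),
    (e₁ A (g ≫ c)).toSubmodule = (e₂ A g).toSubmodule.comap (v.baseChange A) := by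
  obtain ⟨c₀, hc₀⟩ := exists_hom_of_natural (tau v hv k X₁ X₂ e₁ e₂)
    (tau_natural v hv k X₁ X₂ e₁ he₁ e₂ he₂)
  have hw : c₀ ≫ X₁.hom = X₂.hom := by
    apply hom_ext_of_affine
    intro B t
    have h1 : tau v hv k X₁ X₂ e₁ e₂ B t ≫ X₁.hom = (SpecO (objOf X₂ t)).hom :=
      Over.w (ptOfVal X₁ e₁ (objOf X₂ t) (cmp v hv k (objOf X₂ t) (valOf X₂ e₂ t)))
    have h2 : (SpecO (objOf X₂ t)).hom = t ≫ X₂.hom := map_rho X₂ t
    rw [← Category.assoc, ← hc₀, h1, h2]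
  refine ⟨Over.homMk c₀ hw, ?_⟩
  intro A g
  obtain ⟨ξ, ζ, hξ, hζ, h1, h2⟩ := exists_comparison X₂ e₂ he₂ A g
  have hleft : (g ≫ Over.homMk c₀ hw).left =
      Spec.map (CommRingCat.ofHom ζ.hom.toRingHom) ≫
        (ptOfVal X₁ e₁ (objOf X₂ g.left)
          (cmp v hv k (objOf X₂ g.left) (valOf X₂ e₂ g.left))).left := by
    have hid : (CommRingCat.ofHom ζ.hom.toRingHom :
        CommRingCat.of ↑(objOf X₂ g.left) ⟶ CommRingCat.of ↑A) = 𝟙 _ := by
      apply CommRingCat.hom_ext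
      exact hζ
    erw [hid, Spec.map_id, Category.id_comp]
    show g.left ≫ c₀ = _
    rw [← hc₀]
    rfl
  have h3 := he₁ (objOf X₂ g.left) A ζ _ (g ≫ Over.homMk c₀ hw) hleft
  rw [eX_ptOfVal, ← cmp_map, ← h2] at h3
  rw [h3]
  exact comapG_toSubmodule v hv A (e₂ A g)

include hv in
/-- any morphism inducing the preimage map is injective on affine points -/
theorem c_inj (c : X₂ ⟶ X₁) (hc : ∀ (A : CommAlgCat.{u} R) (g : SpecO A ⟶ X₂),
    (e₁ A (g ≫ c)).toSubmodule = (e₂ A g).toSubmodule.comap (v.baseChange A))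
    (B : CommRingCat.{u}) (a b : Spec B ⟶ X₂.left) (hab : a ≫ c.left = b ≫ c.left) : a = b := by
  have hb : b ≫ X₂.hom = Spec.map (CommRingCat.ofHom (algebraMap R (objOf X₂ a))) := by
    have h1 : b ≫ X₂.hom = a ≫ X₂.hom := by
      rw [← Over.w c, ← Category.assoc, ← hab, Category.assoc]
    rw [h1, ← map_rho]
    rfl
  let gb : SpecO (objOf X₂ a) ⟶ X₂ := ofLeft X₂ (objOf X₂ a) b hb
  have h2 : ptOf X₂ a ≫ c = gb ≫ c := hom_ext_left X₁ _ _ hab
  have h3 := hc (objOf X₂ a) (ptOf X₂ a)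
  have h4 := hc (objOf X₂ a) gb
  rw [h2, h4] at h3
  have h5 := Submodule.comap_injective_of_surjective
    (LinearMap.baseChange_surjective (objOf X₂ a) hv) h3
  have h6 : e₂ (objOf X₂ a) gb = e₂ (objOf X₂ a) (ptOf X₂ a) := Module.Grassmannian.ext h5
  have h7 := (e₂ (objOf X₂ a)).injective h6
  exact (congrArg (fun m => m.left) h7).symm

include hv in
/-- liftability of an affine point of `X₁` is the condition of containing the kernel -/
theorem lift_iff_ker_le (c : X₂ ⟶ X₁) (hc : ∀ (A : CommAlgCat.{u} R) (g : SpecO A ⟶ X₂),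
    (e₁ A (g ≫ c)).toSubmodule = (e₂ A g).toSubmodule.comap (v.baseChange A))
    (E : CommRingCat.{u}) (y : Spec E ⟶ X₁.left) :
    (∃ s : Spec E ⟶ X₂.left, s ≫ c.left = y) ↔
      LinearMap.ker (v.baseChange (objOf X₁ y)) ≤ (valOf X₁ e₁ y).toSubmodule := by
  constructor
  · rintro ⟨s, hs⟩
    have hs' : s ≫ X₂.hom = Spec.map (CommRingCat.ofHom (algebraMap R (objOf X₁ y))) := by
      rw [← Over.w c, ← Category.assoc, hs, ← map_rho]
      rfl
    let gs : SpecO (objOf X₁ y) ⟶ X₂ := ofLeft X₂ (objOf X₁ y) s hs'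
    have h2 : gs ≫ c = ptOf X₁ y := hom_ext_left X₁ _ _ hs
    have h3 := hc (objOf X₁ y) gs
    rw [h2] at h3
    show _ ≤ (e₁ (objOf X₁ y) (ptOf X₁ y)).toSubmodule
    rw [h3]
    intro x hx
    rw [Submodule.mem_comap, LinearMap.mem_ker.1 hx]
    exact zero_mem _
  · intro hN
    let N₂ : (Module.Grassmannian.functor (R := R) (M := M₂) k).obj (objOf X₁ y) :=
      pushG v hv (objOf X₁ y) (valOf X₁ e₁ y) hN
    let gs : SpecO (objOf X₁ y) ⟶ X₂ := ptOfVal X₂ e₂ (objOf X₁ y) N₂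
    refine ⟨gs.left, ?_⟩
    have h3 := hc (objOf X₁ y) gs
    rw [eX_ptOfVal] at h3
    have h4 : e₁ (objOf X₁ y) (gs ≫ c) = e₁ (objOf X₁ y) (ptOf X₁ y) := by
      apply Module.Grassmannian.ext
      rw [h3]
      have := congrArg Module.Grassmannian.toSubmodule
        (comapG_pushG v hv (objOf X₁ y) (valOf X₁ e₁ y) hN)
      rw [comapG_toSubmodule] at this
      exact this
    have h5 := (e₁ (objOf X₁ y)).injective h4
    exact congrArg (fun m => m.left) h5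

include hv he₁ in
/-- **any morphism inducing the preimage map is a closed immersion** -/
theorem isClosedImmersion_c (c : X₂ ⟶ X₁) (hc : ∀ (A : CommAlgCat.{u} R) (g : SpecO A ⟶ X₂),
    (e₁ A (g ≫ c)).toSubmodule = (e₂ A g).toSubmodule.comap (v.baseChange A)) :
    IsClosedImmersion c.left := by
  apply isClosedImmersion_of_charts c.left (c_inj v hv k X₁ X₂ e₁ e₂ c hc)
  intro x
  let 𝒜 := X₁.left.affineOpenCover
  obtain ⟨i, z, hz⟩ := 𝒜.openCover.exists_eq x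
  refine ⟨𝒜.X i, 𝒜.f i, inferInstance, ⟨z, hz⟩, ?_⟩
  let t : Spec (𝒜.X i) ⟶ X₁.left := 𝒜.f i
  let J : Ideal ↑(objOf X₁ t) :=
    obsK (LinearMap.ker v : Set M₁) (valOf X₁ e₁ t).toSubmodule
  refine ⟨J, ?_⟩
  intro E σ
  obtain ⟨ξ', hξ', hval⟩ := transfer' X₁ e₁ he₁ t σ
  rw [lift_iff_ker_le v hv k X₁ X₂ e₁ e₂ c hc E (Spec.map σ ≫ t)]
  rw [ker_baseChange_le_iff v hv, hval]
  have hker : RingHom.ker σ.hom =
      RingHom.ker (ξ'.hom : ↑(objOf X₁ t) →+* ↑(objOf X₁ (Spec.map σ ≫ t))) := by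
    rw [hξ']
    rfl
  rw [hker]
  exact (obsK_le_ker_iff (LinearMap.ker v : Set M₁) ξ'.hom (valOf X₁ e₁ t)).symm

end Groth.Agent.Lib.Helper5.Grass.GrClosed

end
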