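import Mathlib
import Groth.Agent.Lib.Helper5.Grass.GrObs
import Groth.Agent.Lib.Helper5.Grass.GrLoc

/-!
# The closed condition "a linear map carries one Grassmannian point into another" (helper5)
-/

set_option autoImplicit false
universe u
open TensorProduct Module Module.Grassmannian TensorProduct.AlgebraTensorModule

noncomputable section

namespace Groth.Agent.Lib.Helper5.Grass.GrObs

open Groth.Agent.Lib.Helper5.Grass.GrAlg1 Groth.Agent.Lib.Helper5.Grass.GrComap
  Groth.Agent.Lib.Helper5.Grass.GrLoc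

variable {R : Type u} [CommRing R] {M M' : Type u} [AddCommGroup M] [Module R M]
  [AddCommGroup M'] [Module R M'] {k k' : ℕ}

/-- membership of a base-changed element in a base-changed point -/
theorem bc_mem_map_iff {C D : Type u} [CommRing C] [CommRing D] [Algebra R C] [Algebra R D]
    (f : C →ₐ[R] D) (N : G(k, C ⊗[R] M; C)) (y : C ⊗[R] M) :
    bc f y ∈ (Module.Grassmannian.map f N).toSubmodule ↔
      ∀ l : ((C ⊗[R] M) ⧸ N.toSubmodule) →ₗ[C] C, f (l (N.toSubmodule.mkQ y)) = 0 := by
  letI : Algebra C D := f.toAlgebra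
  rw [map_toSubmodule', bc_mem_subMap_iff, one_tmul_eq_zero_iff]
  rfl

/-- the obstruction ideal for `φ` to carry `N` into `N'` -/
def obsX {C : Type u} [CommRing C] [Algebra R C] (φ : M →ₗ[R] M')
    (N : Submodule C (C ⊗[R] M)) (N' : Submodule C (C ⊗[R] M')) : Ideal C :=
  Ideal.span {c | ∃ x ∈ N, ∃ l : ((C ⊗[R] M') ⧸ N') →ₗ[C] C,
    c = l (N'.mkQ (φ.baseChange C x))}

theorem obsX_le_ker_iff {C D : Type u} [CommRing C] [CommRing D] [Algebra R C] [Algebra R D]
    (f : C →ₐ[R] D) (φ : M →ₗ[R] M') (N : G(k, C ⊗[R] M; C)) (N' : G(k', C ⊗[R] M'; C)) :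
    obsX φ N.toSubmodule N'.toSubmodule ≤ RingHom.ker (f : C →+* D) ↔
      Submodule.map (φ.baseChange D) (Module.Grassmannian.map f N).toSubmodule ≤
        (Module.Grassmannian.map f N').toSubmodule := by
  rw [Submodule.map_le_iff_le_comap, map_le_iff]
  constructor
  · intro h x hx
    rw [Submodule.mem_comap, baseChange_bc, bc_mem_map_iff]
    intro l
    exact h (Ideal.subset_span ⟨x, hx, l, rfl⟩)
  · intro h
    refine Ideal.span_le.2 ?_
    rintro c ⟨x, hx, l, rfl⟩
    have := h x hx
    rw [Submodule.mem_comap, baseChange_bc, bc_mem_map_iff] at this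
    exact this l

end Groth.Agent.Lib.Helper5.Grass.GrObs

end
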