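import Mathlib
import Groth.Agent.Lib.Helper5.Grass.GrChart
import Groth.Agent.Lib.Helper5.Grass.PolySmooth

/-!
# A scheme representing the Grassmannian functor of `R^n` is smooth, covered by affine spaces
(helper5)
-/

set_option autoImplicit false
universe u
open CategoryTheory CategoryTheory.Limits AlgebraicGeometry TopologicalSpace Opposite
open TensorProduct Module Module.Grassmannian

noncomputable section

namespace Groth.Agent.Lib.Helper5.Grass.GrSmooth

open Groth.Agent.Lib.Helper5.Grass.GrAlg1 Groth.Agent.Lib.Helper5.Grass.GrAlg2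
  Groth.Agent.Lib.Helper5.Grass.GrAlg3 Groth.Agent.Lib.Helper5.Grass.GrChartAlg
  Groth.Agent.Lib.Helper5.Grass.Pts Groth.Agent.Lib.Helper5.Grass.AffYoneda
  Groth.Agent.Lib.Helper5.Grass.GrChart Groth.Agent.Lib.Helper5.Grass.PolySmooth

variable {R : Type u} [CommRing R] {n q : ℕ} (X : Over (Spec (CommRingCat.of R)))
variable (eX : ∀ B : CommAlgCat.{u} R, (SpecO B ⟶ X) ≃
    (Module.Grassmannian.functor (R := R) (M := Fin n → R) q).obj B)
  (heX : ∀ (B C : CommAlgCat.{u} R) (φ' : B ⟶ C) (g : SpecO B ⟶ X) (g' : SpecO C ⟶ X),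
      g'.left = Spec.map (CommRingCat.ofHom φ'.hom.toRingHom) ≫ g.left →
        eX C g' = (Module.Grassmannian.functor (R := R) (M := Fin n → R) q).map φ' (eX B g))

/-- the index type of the standard charts -/
abbrev Sub (n q : ℕ) : Type := {I : Finset (Fin n) // I.card = q}

/-- the increasing enumeration of a `q`-subset -/
def emb (I : Sub n q) : Fin q → Fin n := I.1.orderEmbOfFin I.2

theorem emb_injective (I : Sub n q) : Function.Injective (emb I) :=
  (I.1.orderEmbOfFin I.2).injective

theorem card_var (ι : Fin q → Fin n) (hι : Function.Injective ι) :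
    Nat.card (Var ι) = q * (n - q) := by
  classical
  rw [Nat.card_eq_fintype_card, Fintype.card_prod, Fintype.card_fin]
  congr 1
  have h1 : Fintype.card {j : Fin n // j ∉ Set.range ι} =
      Fintype.card (Fin n) - Fintype.card {j : Fin n // j ∈ Set.range ι} :=
    Fintype.card_subtype_compl _
  rw [h1, Fintype.card_fin]
  congr 1
  have h2 : Fintype.card (Set.range ι) = Fintype.card (Fin q) :=
    Set.card_range_of_injective hι
  rw [Fintype.card_fin] at h2
  convert h2

/-- the chart as a morphism of schemes -/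
def jS (I : Sub n q) : Spec (CommRingCat.of (PR R (emb I))) ⟶ X.left :=
  (jI X eX (emb I) (emb_injective I)).left

theorem jS_hom (I : Sub n q) :
    jS X eX I ≫ X.hom = Spec.map (CommRingCat.ofHom (algebraMap R (PR R (emb I)))) :=
  Over.w (jI X eX (emb I) (emb_injective I))

include heX in
theorem isOpenImmersion_jS (I : Sub n q) : IsOpenImmersion (jS X eX I) :=
  isOpenImmersion_jI X eX heX (emb I) (emb_injective I)

include heX in
theorem exists_mem_range_jS (x : X.left) : ∃ I : Sub n q, x ∈ Set.range (jS X eX I) := by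
  obtain ⟨I, hI, hx⟩ := exists_mem_range_jI X eX heX x
  exact ⟨⟨I, hI⟩, hx⟩

include heX in
/-- smoothness of relative dimension `q (n - q)` -/
theorem smooth : SmoothOfRelativeDimension (q * (n - q)) X.hom := by
  haveI := isOpenImmersion_jS X eX heX
  let 𝒰 : X.left.OpenCover := Scheme.Cover.mkOfCovers (Sub n q)
    (fun I => Spec (CommRingCat.of (PR R (emb I)))) (jS X eX)
    (fun x => by
      obtain ⟨I, y, hy⟩ := exists_mem_range_jS X eX heX x
      exact ⟨I, y, hy⟩) (fun I => isOpenImmersion_jS X eX heX I)
  apply IsZariskiLocalAtSource.of_openCover (P := @SmoothOfRelativeDimension (q * (n - q))) 𝒰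
  intro I
  show SmoothOfRelativeDimension (q * (n - q)) (jS X eX I ≫ X.hom)
  rw [jS_hom, HasRingHomProperty.Spec_iff (P := @SmoothOfRelativeDimension (q * (n - q)))]
  apply RingHom.locally_of RingHom.isStandardSmoothOfRelativeDimension_respectsIso
  show (algebraMap R (PR R (emb I))).IsStandardSmoothOfRelativeDimension (q * (n - q))
  rw [RingHom.isStandardSmoothOfRelativeDimension_algebraMap, ← card_var (emb I) (emb_injective I)]
  exact isStandardSmoothOfRelativeDimension_mvPolynomial R (Var (emb I))

/-- the chart rings are polynomial rings in `q (n - q)` variables -/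
def renameE (I : Sub n q) :
    PR R (emb I) ≃ₐ[R] MvPolynomial (ULift.{u} (Fin (q * (n - q)))) R :=
  MvPolynomial.renameEquiv R
    ((Finite.equivFinOfCardEq (card_var (emb I) (emb_injective I))).trans Equiv.ulift.symm)

include heX in
/-- each chart is an affine space over `Spec R` -/
theorem chart_iso (I : Sub n q) :
    haveI := isOpenImmersion_jS X eX heX I
    Nonempty (Over.mk ((jS X eX I).opensRange.ι ≫ X.hom) ≅
      Over.mk (𝔸(ULift.{u} (Fin (q * (n - q))); Spec (CommRingCat.of R)) ↘
        Spec (CommRingCat.of R))) := by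
  haveI := isOpenImmersion_jS X eX heX I
  let e1 : ((jS X eX I).opensRange : Scheme.{u}) ≅ Spec (CommRingCat.of (PR R (emb I))) :=
    (jS X eX I).isoOpensRange.symm
  let e2 : Spec (CommRingCat.of (PR R (emb I))) ≅
      Spec (CommRingCat.of (MvPolynomial (ULift.{u} (Fin (q * (n - q)))) R)) :=
    Scheme.Spec.mapIso ((renameE I).symm.toRingEquiv.toCommRingCatIso).op
  let e3 := (AffineSpace.SpecIso (ULift.{u} (Fin (q * (n - q)))) (CommRingCat.of R)).symm
  refine ⟨Over.isoMk (e1 ≪≫ e2 ≪≫ e3) ?_⟩
  simp only [Iso.trans_hom, Over.mk_hom, Category.assoc, Iso.symm_hom, e1, e2, e3]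
  rw [AffineSpace.SpecIso_inv_over]
  have h2 : (Scheme.Spec.mapIso ((renameE (R := R) I).symm.toRingEquiv.toCommRingCatIso).op).hom ≫
      Spec.map (CommRingCat.ofHom (MvPolynomial.C : R →+* MvPolynomial _ R)) =
      Spec.map (CommRingCat.ofHom (algebraMap R (PR R (emb I)))) := by
    show Spec.map _ ≫ Spec.map _ = _
    rw [← Spec.map_comp]
    congr 1
    apply CommRingCat.hom_ext
    apply RingHom.ext
    intro r
    show (renameE (R := R) I).symm (MvPolynomial.C r) = _
    exact (renameE (R := R) I).symm.commutes r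
  rw [h2, ← jS_hom X eX I, ← Category.assoc, Scheme.Hom.isoOpensRange_inv_comp]

end Groth.Agent.Lib.Helper5.Grass.GrSmooth

end
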