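import Mathlib
import Groth.Prelude.Def_CohB1
import Groth.Agent.Lib.Helper1.GP1

/-!
# Affine points of projective space given by homogeneous coordinates (helper5)

Built on helper1's `GP1.awayLift`.
-/

set_option autoImplicit false
universe u
open CategoryTheory CategoryTheory.Limits AlgebraicGeometry TopologicalSpace Opposite
open HomogeneousLocalization

noncomputable section

namespace Groth.Agent.Lib.Helper5.Grass.ProjPt

open Groth.Agent.Helper1.GP1

variable (R : Type u) [CommRing R] (m : ℕ)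

/-- the grading of the polynomial ring -/
abbrev 𝒮 : ℕ → Submodule R (MvPolynomial (Fin (m + 1)) R) := CohB1.polyGrading m R

theorem X_mem (i : Fin (m + 1)) :
    (MvPolynomial.X i : MvPolynomial (Fin (m + 1)) R) ∈ 𝒮 R m 1 :=
  MvPolynomial.isHomogeneous_X R i

variable {R m}
variable {B : Type u} [CommRing B]

/-- the affine point of projective space with homogeneous coordinates `F (X i)`, using the chart
where the `i`-th coordinate is invertible -/
def ptP (F : MvPolynomial (Fin (m + 1)) R →+* B) (i : Fin (m + 1))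
    (hi : IsUnit (F (MvPolynomial.X i))) :
    Spec (CommRingCat.of B) ⟶ Proj (𝒮 R m) :=
  Spec.map (CommRingCat.ofHom (awayLift (𝒮 R m) F (MvPolynomial.X i) hi)) ≫
    Proj.awayι (𝒮 R m) (MvPolynomial.X i) (X_mem R m i) one_pos

/-- the point does not depend on the chart -/
theorem ptP_indep (F : MvPolynomial (Fin (m + 1)) R →+* B) (i j : Fin (m + 1))
    (hi : IsUnit (F (MvPolynomial.X i))) (hj : IsUnit (F (MvPolynomial.X j))) :
    ptP F i hi = ptP F j hj := by
  have key : ∀ (i j : Fin (m + 1)) (hi : IsUnit (F (MvPolynomial.X i)))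
      (hj : IsUnit (F (MvPolynomial.X j)))
      (hx : IsUnit (F (MvPolynomial.X i * MvPolynomial.X j))),
      ptP F i hi = Spec.map (CommRingCat.ofHom (awayLift (𝒮 R m) F
        (MvPolynomial.X i * MvPolynomial.X j) hx)) ≫
        Proj.awayι (𝒮 R m) (MvPolynomial.X i * MvPolynomial.X j)
          (SetLike.mul_mem_graded (X_mem R m i) (X_mem R m j)) (by norm_num) := by
    intro i j hi hj hx
    unfold ptP
    rw [← awayLift_comp_awayMap (𝒮 R m) F (X_mem R m i) (X_mem R m j) rfl hi hx,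
      CommRingCat.ofHom_comp, Spec.map_comp, Category.assoc,
      Proj.SpecMap_awayMap_awayι (𝒮 R m) (X_mem R m i) one_pos (X_mem R m j) rfl]
  have hx : IsUnit (F (MvPolynomial.X i * MvPolynomial.X j)) := by
    rw [map_mul]; exact hi.mul hj
  have hx' : IsUnit (F (MvPolynomial.X j * MvPolynomial.X i)) := by
    rw [map_mul]; exact hj.mul hi
  rw [key i j hi hj hx, key j i hj hi hx']
  have hcomm : (MvPolynomial.X j * MvPolynomial.X i : MvPolynomial (Fin (m + 1)) R) =
      MvPolynomial.X i * MvPolynomial.X j := mul_comm _ _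
  have gen : ∀ (x y : MvPolynomial (Fin (m + 1)) R) (hxy : x = y) (h1 : IsUnit (F x))
      (h2 : IsUnit (F y)) (d1 : x ∈ 𝒮 R m 2) (d2 : y ∈ 𝒮 R m 2),
      Spec.map (CommRingCat.ofHom (awayLift (𝒮 R m) F x h1)) ≫
        Proj.awayι (𝒮 R m) x d1 (by norm_num) =
      Spec.map (CommRingCat.ofHom (awayLift (𝒮 R m) F y h2)) ≫
        Proj.awayι (𝒮 R m) y d2 (by norm_num) := by
    intro x y hxy h1 h2 d1 d2
    subst hxy
    rfl
  exact gen _ _ hcomm.symm _ _ _ _

/-- invariance under rescaling the homogeneous coordinates by a unit -/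
theorem ptP_twist (F F' : MvPolynomial (Fin (m + 1)) R →+* B) (u : Bˣ)
    (h : ∀ (k : ℕ) (s : MvPolynomial (Fin (m + 1)) R), s ∈ 𝒮 R m k → F' s = (u : B) ^ k * F s)
    (i : Fin (m + 1)) (hi : IsUnit (F (MvPolynomial.X i)))
    (hi' : IsUnit (F' (MvPolynomial.X i))) :
    ptP F' i hi' = ptP F i hi := by
  unfold ptP
  rw [awayLift_eq_of_twist (𝒮 R m) F F' u h (X_mem R m i) hi hi']

/-- functoriality in the ring -/
theorem ptP_comp {B' : Type u} [CommRing B'] (ρ : B →+* B')
    (F : MvPolynomial (Fin (m + 1)) R →+* B) (i : Fin (m + 1))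
    (hi : IsUnit (F (MvPolynomial.X i))) (hi' : IsUnit ((ρ.comp F) (MvPolynomial.X i))) :
    Spec.map (CommRingCat.ofHom ρ) ≫ ptP F i hi = ptP (ρ.comp F) i hi' := by
  unfold ptP
  rw [← comp_awayLift (𝒮 R m) ρ F (X_mem R m i) hi hi', CommRingCat.ofHom_comp, Spec.map_comp,
    Category.assoc]

/-- the structure morphism of the point -/
theorem ptP_toSpec (F : MvPolynomial (Fin (m + 1)) R →+* B) (i : Fin (m + 1))
    (hi : IsUnit (F (MvPolynomial.X i))) :
    ptP F i hi ≫ CohB1.ProjSpace.toSpec m R =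
      Spec.map (CommRingCat.ofHom (F.comp MvPolynomial.C)) := by
  show (Spec.map (CommRingCat.ofHom (awayLift (𝒮 R m) F (MvPolynomial.X i) hi)) ≫
    Proj.awayι (𝒮 R m) (MvPolynomial.X i) (X_mem R m i) one_pos) ≫
    (Proj.toSpecZero (𝒮 R m) ≫
      Spec.map (CommRingCat.ofHom (algebraMap R (𝒮 R m 0)))) = _
  rw [Category.assoc, Proj.awayι_toSpecZero_assoc, ← Spec.map_comp, ← Spec.map_comp]
  congr 1
  apply CommRingCat.hom_ext
  apply RingHom.ext
  intro r
  show awayLift (𝒮 R m) F (MvPolynomial.X i) hi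
    (fromZeroRingHom (𝒮 R m) _ (algebraMap R (𝒮 R m 0) r)) = F (MvPolynomial.C r)
  rw [awayLift_fromZero]
  rfl

/-- when the point lies in another standard open -/
theorem ptP_mem_basicOpen_iff (F : MvPolynomial (Fin (m + 1)) R →+* B) (i j : Fin (m + 1))
    (hi : IsUnit (F (MvPolynomial.X i))) (z : Spec (CommRingCat.of B)) :
    ptP F i hi z ∈ Proj.basicOpen (𝒮 R m) (MvPolynomial.X j) ↔
      F (MvPolynomial.X j) ∉ z.asIdeal := by
  unfold ptP
  rw [Scheme.Hom.comp_apply]
  have h1 := Proj.awayι_preimage_basicOpen (𝒮 R m) (X_mem R m i) one_pos (X_mem R m j) one_pos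
  have h2 : ∀ w : Spec (CommRingCat.of (Away (𝒮 R m) (MvPolynomial.X i))),
      Proj.awayι (𝒮 R m) (MvPolynomial.X i) (X_mem R m i) one_pos w ∈
        Proj.basicOpen (𝒮 R m) (MvPolynomial.X j) ↔
      w ∈ PrimeSpectrum.basicOpen (Away.isLocalizationElem (X_mem R m i) (X_mem R m j)) := by
    intro w
    rw [← h1]
    rfl
  rw [h2]
  show awayLift (𝒮 R m) F (MvPolynomial.X i) hi
    (Away.isLocalizationElem (X_mem R m i) (X_mem R m j)) ∉ z.asIdeal ↔ _
  unfold Away.isLocalizationElem
  rw [awayLift_mk, pow_one, pow_one]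
  constructor
  · intro h hmem
    exact h (Ideal.mul_mem_right _ _ hmem)
  · intro h hmem
    apply h
    have h3 : F (MvPolynomial.X j) = F (MvPolynomial.X j) * ((hi.unit⁻¹ : Bˣ) : B) *
        F (MvPolynomial.X i) := by
      have : ((hi.unit⁻¹ : Bˣ) : B) * F (MvPolynomial.X i) = 1 := by
        have h5 : ((hi.unit⁻¹ : Bˣ) : B) * (hi.unit : B) = 1 := hi.unit.inv_mul
        rwa [IsUnit.unit_spec] at h5
      rw [mul_assoc, this, mul_one]
    rw [h3]
    exact Ideal.mul_mem_right _ _ hmem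

end Groth.Agent.Lib.Helper5.Grass.ProjPt

end
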