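import Mathlib
import Groth.Prelude.Def_CohB1
import Groth.Agent.Lib.Helper1.GP3
import Groth.Agent.Lib.Helper5.Grass.GrSmooth
import Groth.Agent.Lib.Helper5.Grass.ProjPt

/-!
# Plücker coordinates: algebra (helper5)
-/

set_option autoImplicit false
universe u
open HomogeneousLocalization

noncomputable section

namespace Groth.Agent.Lib.Helper5.Grass.PluAlg

open Groth.Agent.Lib.Helper5.Grass.GrAlg2 Groth.Agent.Lib.Helper5.Grass.GrChartAlg
  Groth.Agent.Lib.Helper5.Grass.GrSmooth Groth.Agent.Lib.Helper5.Grass.ProjPt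
  Groth.Agent.Helper1.GP1 Groth.Agent.Helper1.GP3

variable {R : Type u} [CommRing R] {n q : ℕ}

/-- the dimension of the Plücker space -/
abbrev pdim (n q : ℕ) : ℕ := n.choose q - 1

theorem card_sub (hq : q ≤ n) : Fintype.card (Sub n q) = pdim n q + 1 := by
  rw [Fintype.card_finset_len, Fintype.card_fin]
  have := Nat.choose_pos hq
  unfold pdim
  omega

/-- the indexing of the Plücker coordinates -/
def idx (hq : q ≤ n) : Sub n q ≃ Fin (pdim n q + 1) := Fintype.equivFinOfCardEq (card_sub hq)

section Minor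
variable {B : Type u} [CommRing B]

/-- the maximal minors -/
def minor (Mx : Matrix (Fin q) (Fin n) B) (I : Sub n q) : B := (Mx.submatrix id (emb I)).det

theorem minor_mul (g : Matrix (Fin q) (Fin q) B) (Mx : Matrix (Fin q) (Fin n) B) (I : Sub n q) :
    minor (g * Mx) I = g.det * minor Mx I := by
  unfold minor
  have : (g * Mx).submatrix id (emb I) = g * Mx.submatrix id (emb I) := by
    ext a b
    simp [Matrix.mul_apply]
  rw [this, Matrix.det_mul]

theorem minor_map {B' : Type u} [CommRing B'] (ρ : B →+* B') (Mx : Matrix (Fin q) (Fin n) B)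
    (I : Sub n q) : minor (Mx.map ρ) I = ρ (minor Mx I) := by
  unfold minor
  have : (Mx.map ρ).submatrix id (emb I) = (Mx.submatrix id (emb I)).map ρ := rfl
  rw [this]
  exact (RingHom.map_det ρ _).symm

theorem minor_self (Mx : Matrix (Fin q) (Fin n) B) (I : Sub n q)
    (h1 : Mx.submatrix id (emb I) = 1) : minor Mx I = 1 := by
  unfold minor
  rw [h1, Matrix.det_one]

end Minor

section Fpl
variable {B : Type u} [CommRing B] [Algebra R B] (hq : q ≤ n)

/-- the ring map from the homogeneous coordinate ring given by the Plücker coordinates -/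
def Fpl (Mx : Matrix (Fin q) (Fin n) B) : MvPolynomial (Fin (pdim n q + 1)) R →+* B :=
  (MvPolynomial.aeval (fun i => minor Mx ((idx hq).symm i)) :
    MvPolynomial (Fin (pdim n q + 1)) R →ₐ[R] B).toRingHom

theorem Fpl_X (Mx : Matrix (Fin q) (Fin n) B) (i : Fin (pdim n q + 1)) :
    Fpl (R := R) hq Mx (MvPolynomial.X i) = minor Mx ((idx hq).symm i) := by
  simp [Fpl]

theorem Fpl_X_idx (Mx : Matrix (Fin q) (Fin n) B) (I : Sub n q) :
    Fpl (R := R) hq Mx (MvPolynomial.X (idx hq I)) = minor Mx I := by
  rw [Fpl_X, Equiv.symm_apply_apply]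

theorem Fpl_C (Mx : Matrix (Fin q) (Fin n) B) (r : R) :
    Fpl (R := R) hq Mx (MvPolynomial.C r) = algebraMap R B r := by
  simp [Fpl]

theorem Fpl_mul (g : Matrix (Fin q) (Fin q) B) (Mx : Matrix (Fin q) (Fin n) B) :
    Fpl (R := R) hq (g * Mx) = twistHom (𝒮 R (pdim n q)) (Fpl (R := R) hq Mx) g.det := by
  apply MvPolynomial.ringHom_ext
  · intro r
    rw [Fpl_C, twistHom_of_mem (𝒮 R (pdim n q)) _ _ (MvPolynomial.isHomogeneous_C _ r),
      pow_zero, one_mul, Fpl_C]
  · intro i
    rw [Fpl_X, twistHom_of_mem (𝒮 R (pdim n q)) _ _ (X_mem R (pdim n q) i), pow_one, Fpl_X,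
      minor_mul]

theorem Fpl_map {B' : Type u} [CommRing B'] [Algebra R B'] (ρ : B →ₐ[R] B')
    (Mx : Matrix (Fin q) (Fin n) B) :
    Fpl (R := R) hq (Mx.map ρ) = (ρ : B →+* B').comp (Fpl (R := R) hq Mx) := by
  apply MvPolynomial.ringHom_ext
  · intro r
    rw [Fpl_C, RingHom.comp_apply, Fpl_C]
    exact (ρ.commutes r).symm
  · intro i
    rw [Fpl_X, RingHom.comp_apply, Fpl_X]
    exact minor_map (ρ : B →+* B') Mx _

end Fpl

section Surj
variable (hq : q ≤ n) (I : Sub n q)

theorem update_injective (a : Fin q) (j : Fin n) (hj : j ∉ Set.range (emb I)) :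
    Function.Injective (Function.update (emb I) a j) := by
  intro b b' h
  by_cases hb : b = a
  · by_cases hb' : b' = a
    · rw [hb, hb']
    · exfalso
      rw [hb, Function.update_self, Function.update_of_ne hb'] at h
      exact hj ⟨b', h.symm⟩
  · by_cases hb' : b' = a
    · exfalso
      rw [hb', Function.update_self, Function.update_of_ne hb] at h
      exact hj ⟨b, h⟩
    · rw [Function.update_of_ne hb, Function.update_of_ne hb'] at h
      exact emb_injective I h

/-- each variable of the chart is, up to sign, a maximal minor of the universal matrix -/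
theorem exists_minor_eq (v : Var (emb I)) :
    ∃ (K : Sub n q) (ε : ℤˣ),
      (MvPolynomial.X v : PR R (emb I)) = ((ε : ℤ) : PR R (emb I)) * minor (Mu (R := R) (emb I)) K := by
  classical
  obtain ⟨a, j, hj⟩ := v
  set g := Function.update (emb I) a j with hg
  have hginj : Function.Injective g := update_injective I a j hj
  let Kf : Finset (Fin n) := Finset.univ.map ⟨g, hginj⟩
  have hK : Kf.card = q := by
    rw [Finset.card_map, Finset.card_univ, Fintype.card_fin]
  let K : Sub n q := ⟨Kf, hK⟩
  have hmem : ∀ b : Fin q, ∃ b' : Fin q, g b' = emb K b := by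
    intro b
    have h1 : emb K b ∈ Kf := Finset.orderEmbOfFin_mem Kf hK b
    rw [Finset.mem_map] at h1
    obtain ⟨b', -, hb'⟩ := h1
    exact ⟨b', hb'⟩
  choose π hπ using hmem
  have hπinj : Function.Injective π := by
    intro b b' h
    apply emb_injective K
    rw [← hπ, ← hπ, h]
  let πe : Equiv.Perm (Fin q) := Equiv.ofBijective π (Finite.injective_iff_bijective.1 hπinj)
  refine ⟨K, Equiv.Perm.sign πe, ?_⟩
  have h1 : (Mu (R := R) (emb I)).submatrix id (emb K) =
      ((Mu (R := R) (emb I)).submatrix id g).submatrix id πe := by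
    apply Matrix.ext
    intro a' b
    simp only [Matrix.submatrix_apply, id]
    rw [← hπ b]
    rfl
  have h2 : (Mu (R := R) (emb I)).submatrix id g =
      (1 : Matrix (Fin q) (Fin q) (PR R (emb I))).updateCol a
        (fun a' => Mu (R := R) (emb I) a' j) := by
    apply Matrix.ext
    intro a' b
    rw [Matrix.updateCol_apply, Matrix.submatrix_apply, id]
    by_cases hb : b = a
    · rw [if_pos hb, hb, hg, Function.update_self]
    · rw [if_neg hb, hg, Function.update_of_ne hb]
      have := congrFun (congrFun (matOf_normal (emb I) (emb_injective I)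
        (fun v => (MvPolynomial.X v : PR R (emb I)))) a') b
      exact this
  have h3 : ((1 : Matrix (Fin q) (Fin q) (PR R (emb I))).updateCol a
      (fun a' => Mu (R := R) (emb I) a' j)).det = MvPolynomial.X (a, ⟨j, hj⟩) := by
    rw [← Matrix.cramer_apply, Matrix.cramer_one]
    simp [Mu, matOf, hj]
  unfold minor
  rw [h1, Matrix.det_permute', h2, h3, ← mul_assoc]
  have h4 : (((Equiv.Perm.sign πe : ℤˣ) : ℤ) : PR R (emb I)) *
      (((Equiv.Perm.sign πe : ℤˣ) : ℤ) : PR R (emb I)) = 1 := by
    rw [← Int.cast_mul, ← Units.val_mul, Int.units_mul_self]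
    simp
  rw [h4, one_mul]

theorem Mu_normal : (Mu (R := R) (emb I)).submatrix id (emb I) = 1 :=
  matOf_normal (emb I) (emb_injective I) _

theorem Fpl_Mu_idx : Fpl (R := R) hq (Mu (R := R) (emb I)) (MvPolynomial.X (idx hq I)) = 1 := by
  rw [Fpl_X_idx, minor_self _ _ (Mu_normal I)]

/-- the Plücker coordinate map of the chart -/
def phiI : Away (𝒮 R (pdim n q)) (MvPolynomial.X (idx hq I)) →+* PR R (emb I) :=
  awayLift (𝒮 R (pdim n q)) (Fpl (R := R) hq (Mu (R := R) (emb I))) (MvPolynomial.X (idx hq I))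
    (by
      rw [Fpl_Mu_idx]
      exact isUnit_one)

theorem phiI_surjective : Function.Surjective (phiI (R := R) hq I) := by
  have hone : Fpl (R := R) hq (Mu (R := R) (emb I)) (MvPolynomial.X (idx hq I)) = 1 :=
    Fpl_Mu_idx hq I
  have hu : IsUnit (Fpl (R := R) hq (Mu (R := R) (emb I)) (MvPolynomial.X (idx hq I))) := by
    rw [hone]; exact isUnit_one
  have hinv : ((hu.unit⁻¹ : (PR R (emb I))ˣ) : PR R (emb I)) = 1 := by
    have h5 : ((hu.unit⁻¹ : (PR R (emb I))ˣ) : PR R (emb I)) * (hu.unit : PR R (emb I)) = 1 :=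
      hu.unit.inv_mul
    have h6 : (hu.unit : PR R (emb I)) = 1 := (IsUnit.unit_spec hu).trans hone
    rw [h6, mul_one] at h5
    exact h5
  have hrange : ∀ p : PR R (emb I), p ∈ (phiI (R := R) hq I).range := by
    intro p
    induction p using MvPolynomial.induction_on with
    | C r =>
      refine ⟨fromZeroRingHom (𝒮 R (pdim n q)) _
        ⟨MvPolynomial.C r, MvPolynomial.isHomogeneous_C _ r⟩, ?_⟩
      unfold phiI
      rw [awayLift_fromZero]
      exact Fpl_C hq _ r
    | add p p' hp hp' => exact add_mem hp hp'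
    | mul_X p v hp =>
      apply mul_mem hp
      obtain ⟨K, ε, hK⟩ := exists_minor_eq (R := R) I v
      rw [hK]
      apply mul_mem
      · exact intCast_mem _ _
      · refine ⟨Away.mk (𝒮 R (pdim n q)) (X_mem R (pdim n q) (idx hq I)) 1
          (MvPolynomial.X (idx hq K)) (by simpa using X_mem R (pdim n q) (idx hq K)), ?_⟩
        unfold phiI
        rw [awayLift_mk, Fpl_X_idx, hinv, one_pow, mul_one]
  intro p
  exact hrange p

end Surj

end Groth.Agent.Lib.Helper5.Grass.PluAlg

end
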