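import Mathlib
import Groth.Agent.Lib.Helper5.Grass.PluAlg

/-!
# The Plücker morphism of a scheme representing the Grassmannian functor (helper5)
-/

set_option autoImplicit false
universe u
open CategoryTheory CategoryTheory.Limits AlgebraicGeometry TopologicalSpace Opposite
open TensorProduct Module Module.Grassmannian HomogeneousLocalization

noncomputable section

namespace Groth.Agent.Lib.Helper5.Grass.Plucker1

open Groth.Agent.Lib.Helper5.Grass.GrAlg1 Groth.Agent.Lib.Helper5.Grass.GrAlg2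
  Groth.Agent.Lib.Helper5.Grass.GrAlg3 Groth.Agent.Lib.Helper5.Grass.GrChartAlg
  Groth.Agent.Lib.Helper5.Grass.Pts Groth.Agent.Lib.Helper5.Grass.AffYoneda
  Groth.Agent.Lib.Helper5.Grass.GrChart Groth.Agent.Lib.Helper5.Grass.GrSmooth
  Groth.Agent.Lib.Helper5.Grass.ProjPt Groth.Agent.Lib.Helper5.Grass.PluAlg
  Groth.Agent.Helper1.GP1 Groth.Agent.Helper1.GP3

variable {R : Type u} [CommRing R] {n q : ℕ} (hq : q ≤ n)

section Alg
variable {B : Type u} [CommRing B] [Algebra R B]

theorem isUnit_Fpl_idx (Mx : Matrix (Fin q) (Fin n) B) (I : Sub n q)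
    (h1 : Mx.submatrix id (emb I) = 1) :
    IsUnit (Fpl (R := R) hq Mx (MvPolynomial.X (idx hq I))) := by
  rw [Fpl_X_idx, minor_self _ _ h1]
  exact isUnit_one

/-- two normalised matrices with the same kernel give the same point of projective space -/
theorem ptP_Fpl_eq (I J : Sub n q) (MxI MxJ : Matrix (Fin q) (Fin n) B)
    (hI : MxI.submatrix id (emb I) = 1) (hJ : MxJ.submatrix id (emb J) = 1)
    (hk : LinearMap.ker (lin (R := R) MxI) = LinearMap.ker (lin (R := R) MxJ)) :
    ptP (Fpl (R := R) hq MxI) (idx hq I) (isUnit_Fpl_idx hq MxI I hI) =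
      ptP (Fpl (R := R) hq MxJ) (idx hq J) (isUnit_Fpl_idx hq MxJ J hJ) := by
  have e1 := eq_mul_of_ker_le (emb J) MxI MxJ hJ ((ker_lin_le_iff (R := R) MxI MxJ).1 hk.ge)
  set g := MxI.submatrix id (emb J) with hg
  have hdet : g.det * minor MxJ I = 1 := by
    rw [← minor_mul, ← e1, minor_self _ _ hI]
  have hu : IsUnit g.det := IsUnit.of_mul_eq_one _ hdet
  have hu' : IsUnit (minor MxJ I) := IsUnit.of_mul_eq_one_right _ hdet
  have hFJI : IsUnit (Fpl (R := R) hq MxJ (MvPolynomial.X (idx hq I))) := by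
    rw [Fpl_X_idx]; exact hu'
  have htw : ∀ (k : ℕ) (s : MvPolynomial (Fin (pdim n q + 1)) R), s ∈ 𝒮 R (pdim n q) k →
      Fpl (R := R) hq MxI s = ((hu.unit : Bˣ) : B) ^ k * Fpl (R := R) hq MxJ s := by
    intro k s hs
    rw [e1, Fpl_mul, twistHom_of_mem _ _ _ hs, IsUnit.unit_spec]
  rw [ptP_twist (Fpl (R := R) hq MxJ) (Fpl (R := R) hq MxI) hu.unit htw (idx hq I) hFJI
    (isUnit_Fpl_idx hq MxI I hI)]
  exact ptP_indep _ _ _ _ _

theorem ptP_congr {m : ℕ} (F F' : MvPolynomial (Fin (m + 1)) R →+* B) (h : F = F')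
    (i : Fin (m + 1)) (hi : IsUnit (F (MvPolynomial.X i))) (hi' : IsUnit (F' (MvPolynomial.X i))) :
    ptP F i hi = ptP F' i hi' := by
  subst h
  rfl

end Alg

section Geo
variable (X : Over (Spec (CommRingCat.of R)))
variable (eX : ∀ B : CommAlgCat.{u} R, (SpecO B ⟶ X) ≃
    (Module.Grassmannian.functor (R := R) (M := Fin n → R) q).obj B)
  (heX : ∀ (B C : CommAlgCat.{u} R) (φ' : B ⟶ C) (g : SpecO B ⟶ X) (g' : SpecO C ⟶ X),
      g'.left = Spec.map (CommRingCat.ofHom φ'.hom.toRingHom) ≫ g.left →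
        eX C g' = (Module.Grassmannian.functor (R := R) (M := Fin n → R) q).map φ' (eX B g))

/-- the Plücker morphism on a chart -/
def cI (I : Sub n q) : Spec (CommRingCat.of (PR R (emb I))) ⟶ Proj (𝒮 R (pdim n q)) :=
  ptP (Fpl (R := R) hq (Mu (R := R) (emb I))) (idx hq I) (isUnit_Fpl_idx hq _ I (Mu_normal I))

theorem cI_eq (I : Sub n q) : cI (R := R) hq I =
    Spec.map (CommRingCat.ofHom (phiI (R := R) hq I)) ≫
      Proj.awayι (𝒮 R (pdim n q)) (MvPolynomial.X (idx hq I)) (X_mem R (pdim n q) (idx hq I))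
        one_pos := rfl

theorem map_normal {B : Type u} [CommRing B] [Algebra R B] (I : Sub n q)
    (ρ : PR R (emb I) →ₐ[R] B) : ((Mu (R := R) (emb I)).map ρ).submatrix id (emb I) = 1 := by
  have : ((Mu (R := R) (emb I)).map ρ).submatrix id (emb I) =
      ((Mu (R := R) (emb I)).submatrix id (emb I)).map ρ := rfl
  rw [this, Mu_normal, Matrix.map_one _ (map_zero ρ) (map_one ρ)]

/-- composition of a point of the chart with the Plücker morphism -/
theorem SpecMap_cI {B : Type u} [CommRing B] [Algebra R B] (I : Sub n q)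
    (ρ : PR R (emb I) →ₐ[R] B) :
    Spec.map (CommRingCat.ofHom (ρ : PR R (emb I) →+* B)) ≫ cI (R := R) hq I =
      ptP (Fpl (R := R) hq ((Mu (R := R) (emb I)).map ρ)) (idx hq I)
        (isUnit_Fpl_idx hq _ I (map_normal I ρ)) := by
  unfold cI
  have hi' : IsUnit (((ρ : PR R (emb I) →+* B).comp (Fpl (R := R) hq (Mu (R := R) (emb I))))
      (MvPolynomial.X (idx hq I))) := by
    rw [← Fpl_map]
    exact isUnit_Fpl_idx hq _ I (map_normal I ρ)
  rw [ptP_comp _ _ _ _ hi']
  exact ptP_congr _ _ (Fpl_map hq ρ _).symm _ _ _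

theorem map_Nuniv_toSubmodule {B : Type u} [CommRing B] [Algebra R B] (I : Sub n q)
    (ρ : PR R (emb I) →ₐ[R] B) :
    (Module.Grassmannian.map ρ (Nuniv (R := R) (emb I) (emb_injective I))).toSubmodule =
      LinearMap.ker (lin (R := R) ((Mu (R := R) (emb I)).map ρ)) := by
  unfold Nuniv
  rw [map_grOf, grOf_toSubmodule]

include heX in
/-- compatibility of the chart-wise Plücker morphisms -/
theorem cI_compat (I J : Sub n q) (E : CommRingCat.{u})
    (a : Spec E ⟶ Spec (CommRingCat.of (PR R (emb I))))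
    (b : Spec E ⟶ Spec (CommRingCat.of (PR R (emb J))))
    (h : a ≫ jS X eX I = b ≫ jS X eX J) :
    a ≫ cI (R := R) hq I = b ≫ cI (R := R) hq J := by
  set y := a ≫ jS X eX I with hy
  obtain ⟨ξa, hξa, hva⟩ := transfer X eX heX (CommAlgCat.of R (PR R (emb I)))
    (jI X eX (emb I) (emb_injective I)) y (Spec.preimage a) (by rw [Spec.map_preimage]; rfl)
  obtain ⟨ξb, hξb, hvb⟩ := transfer X eX heX (CommAlgCat.of R (PR R (emb J)))
    (jI X eX (emb J) (emb_injective J)) y (Spec.preimage b) (by rw [Spec.map_preimage]; exact h)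
  rw [eX_jI] at hva hvb
  have e1 : a = Spec.map (CommRingCat.ofHom (ξa.hom : PR R (emb I) →+* ↑(objOf X y))) := by
    rw [← Spec.map_preimage a]
    congr 1
    exact CommRingCat.hom_ext hξa.symm
  have e2 : b = Spec.map (CommRingCat.ofHom (ξb.hom : PR R (emb J) →+* ↑(objOf X y))) := by
    rw [← Spec.map_preimage b]
    congr 1
    exact CommRingCat.hom_ext hξb.symm
  rw [e1, e2]
  have k1 := SpecMap_cI (R := R) hq I ξa.hom
  have k2 := SpecMap_cI (R := R) hq J ξb.hom
  refine k1.trans (Eq.trans ?_ k2.symm)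
  apply ptP_Fpl_eq hq I J _ _ (map_normal I ξa.hom) (map_normal J ξb.hom)
  rw [← map_Nuniv_toSubmodule, ← map_Nuniv_toSubmodule]
  exact congrArg Module.Grassmannian.toSubmodule (hva.symm.trans hvb)

end Geo

end Groth.Agent.Lib.Helper5.Grass.Plucker1

end
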