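import Mathlib
import Groth.Agent.Lib.Helper5.Grass.Plucker1
import Groth.Agent.Lib.Helper1.ProjSpaceLib

/-!
# The Plücker morphism is a closed immersion (helper5)
-/

set_option autoImplicit false
universe u
open CategoryTheory CategoryTheory.Limits AlgebraicGeometry TopologicalSpace Opposite
open TensorProduct Module Module.Grassmannian HomogeneousLocalization

noncomputable section

namespace Groth.Agent.Lib.Helper5.Grass.Plucker2

open Groth.Agent.Lib.Helper5.Grass.GrAlg1 Groth.Agent.Lib.Helper5.Grass.GrAlg2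
  Groth.Agent.Lib.Helper5.Grass.GrAlg3 Groth.Agent.Lib.Helper5.Grass.GrChartAlg
  Groth.Agent.Lib.Helper5.Grass.Pts Groth.Agent.Lib.Helper5.Grass.AffYoneda
  Groth.Agent.Lib.Helper5.Grass.GrChart Groth.Agent.Lib.Helper5.Grass.GrSmooth
  Groth.Agent.Lib.Helper5.Grass.ProjPt Groth.Agent.Lib.Helper5.Grass.PluAlg
  Groth.Agent.Lib.Helper5.Grass.Plucker1
  Groth.Agent.Helper1.GP1 Groth.Agent.Helper1.GP3

variable {R : Type u} [CommRing R] {n q : ℕ} (hq : q ≤ n)
variable (X : Over (Spec (CommRingCat.of R)))
variable (eX : ∀ B : CommAlgCat.{u} R, (SpecO B ⟶ X) ≃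
    (Module.Grassmannian.functor (R := R) (M := Fin n → R) q).obj B)
  (heX : ∀ (B C : CommAlgCat.{u} R) (φ' : B ⟶ C) (g : SpecO B ⟶ X) (g' : SpecO C ⟶ X),
      g'.left = Spec.map (CommRingCat.ofHom φ'.hom.toRingHom) ≫ g.left →
        eX C g' = (Module.Grassmannian.functor (R := R) (M := Fin n → R) q).map φ' (eX B g))

include heX in
theorem covers (x : X.left) : ∃ (I : Sub n q) (y : Spec (CommRingCat.of (PR R (emb I)))),
    jS X eX I y = x := by
  obtain ⟨I, y, hy⟩ := exists_mem_range_jS X eX heX x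
  exact ⟨I, y, hy⟩

/-- the open cover of `X` by the standard charts -/
def chartCover : X.left.OpenCover :=
  Scheme.Cover.mkOfCovers (Sub n q) (fun I => Spec (CommRingCat.of (PR R (emb I)))) (jS X eX)
    (covers X eX heX) (fun I => isOpenImmersion_jS X eX heX I)

/-- **the Plücker morphism** -/
def plu : X.left ⟶ Proj (𝒮 R (pdim n q)) :=
  (chartCover X eX heX).glueMorphisms (fun I => cI (R := R) hq I) (by
    intro I J
    apply hom_ext_of_affine
    intro E t
    rw [← Category.assoc, ← Category.assoc]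
    apply cI_compat hq X eX heX I J E
    have hc : pullback.fst ((chartCover X eX heX).f I) ((chartCover X eX heX).f J) ≫ jS X eX I =
        pullback.snd ((chartCover X eX heX).f I) ((chartCover X eX heX).f J) ≫ jS X eX J :=
      pullback.condition
    calc (t ≫ pullback.fst ((chartCover X eX heX).f I) ((chartCover X eX heX).f J)) ≫ jS X eX I
        = t ≫ pullback.fst ((chartCover X eX heX).f I) ((chartCover X eX heX).f J) ≫ jS X eX I :=
          Category.assoc _ _ _
      _ = t ≫ pullback.snd ((chartCover X eX heX).f I) ((chartCover X eX heX).f J) ≫ jS X eX J := by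
          rw [hc]
      _ = _ := (Category.assoc _ _ _).symm)

theorem jS_plu (I : Sub n q) : jS X eX I ≫ plu hq X eX heX = cI (R := R) hq I :=
  (chartCover X eX heX).ι_glueMorphisms _ _ I

/-- the Plücker morphism is a morphism over `Spec R` -/
theorem plu_toSpec : plu hq X eX heX ≫ CohB1.ProjSpace.toSpec (pdim n q) R = X.hom := by
  apply (chartCover X eX heX).hom_ext
  intro I
  show jS X eX I ≫ plu hq X eX heX ≫ _ = jS X eX I ≫ X.hom
  rw [← Category.assoc, jS_plu, jS_hom]
  unfold cI
  rw [ptP_toSpec]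
  congr 2
  apply RingHom.ext
  intro r
  exact Fpl_C hq _ r

theorem cI_mem_basicOpen_iff (I J : Sub n q) (z : Spec (CommRingCat.of (PR R (emb J)))) :
    cI (R := R) hq J z ∈ Proj.basicOpen (𝒮 R (pdim n q)) (MvPolynomial.X (idx hq I)) ↔
      minor (Mu (R := R) (emb J)) I ∉ z.asIdeal := by
  unfold cI
  rw [ptP_mem_basicOpen_iff, Fpl_X_idx]

include heX in
/-- the part of a chart `J` where the `I`-th minor is invertible lies in the chart `I` -/
theorem jS_mem_range (I J : Sub n q) (z : Spec (CommRingCat.of (PR R (emb J))))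
    (hz : minor (Mu (R := R) (emb J)) I ∉ z.asIdeal) :
    jS X eX J z ∈ Set.range (jS X eX I) := by
  set d := minor (Mu (R := R) (emb J)) I with hd
  let w : Spec (CommRingCat.of (Localization.Away d)) ⟶ Spec (CommRingCat.of (PR R (emb J))) :=
    Spec.map (CommRingCat.ofHom (algebraMap (PR R (emb J)) (Localization.Away d)))
  have h1 : z ∈ Set.range (PrimeSpectrum.comap (algebraMap (PR R (emb J)) (Localization.Away d))) := by
    rw [PrimeSpectrum.localization_away_comap_range (Localization.Away d) d]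
    exact hz
  obtain ⟨z', hz'⟩ := h1
  have hz'' : w z' = z := hz'
  set y := w ≫ jS X eX J with hy
  obtain ⟨ξ', hξ', hv⟩ := transfer X eX heX (CommAlgCat.of R (PR R (emb J)))
    (jI X eX (emb J) (emb_injective J)) y
    (CommRingCat.ofHom (algebraMap (PR R (emb J)) (Localization.Away d))) rfl
  rw [eX_jI] at hv
  have hin : InChart (emb I) (valOf X eX y) := by
    rw [hv]
    unfold Nuniv
    have := inChart_map_grOf_iff (R := R) ξ'.hom (emb I) (Mu (R := R) (emb J))
      (rinv_of_normal (emb J) _ (matOf_normal (emb J) (emb_injective J) _))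
    refine this.2 ?_
    have e : ξ'.hom ((Mu (R := R) (emb J)).submatrix id (emb I)).det =
        (algebraMap (PR R (emb J)) (Localization.Away d) : PR R (emb J) →+* Localization.Away d)
          d := by
      have := congrArg (fun m : PR R (emb J) →+* ↑(objOf X y) =>
        m ((Mu (R := R) (emb J)).submatrix id (emb I)).det) hξ'
      exact this
    have hu : IsUnit ((algebraMap (PR R (emb J)) (Localization.Away d) :
        PR R (emb J) →+* Localization.Away d) d) := IsLocalization.Away.algebraMap_isUnit d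
    rw [← e] at hu
    exact hu
  obtain ⟨s, hs⟩ := (lift_iff X eX heX (emb I) (emb_injective I) y).2 hin
  refine ⟨s z', ?_⟩
  have h2 : jS X eX I (s z') = y z' := by
    rw [← Scheme.Hom.comp_apply]
    exact congrArg (fun f : Spec (CommRingCat.of (Localization.Away d)) ⟶ X.left => f z') hs
  rw [h2, hy, Scheme.Hom.comp_apply, hz'']

include heX in
/-- the preimage of a standard open of projective space is the corresponding chart -/
theorem plu_preimage (I : Sub n q) :
    haveI := isOpenImmersion_jS X eX heX I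
    plu hq X eX heX ⁻¹ᵁ Proj.basicOpen (𝒮 R (pdim n q)) (MvPolynomial.X (idx hq I)) =
      (jS X eX I).opensRange := by
  haveI := isOpenImmersion_jS X eX heX I
  apply le_antisymm
  · intro x hx
    obtain ⟨J, z, rfl⟩ := covers X eX heX x
    have h1 : plu hq X eX heX (jS X eX J z) = cI (R := R) hq J z := by
      rw [← Scheme.Hom.comp_apply, jS_plu]
    have h2 : cI (R := R) hq J z ∈
        Proj.basicOpen (𝒮 R (pdim n q)) (MvPolynomial.X (idx hq I)) := by
      rw [← h1]; exact hx
    rw [cI_mem_basicOpen_iff] at h2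
    exact jS_mem_range X eX heX I J z h2
  · rintro _ ⟨z, rfl⟩
    show plu hq X eX heX (jS X eX I z) ∈
      Proj.basicOpen (𝒮 R (pdim n q)) (MvPolynomial.X (idx hq I))
    have h1 : plu hq X eX heX (jS X eX I z) = cI (R := R) hq I z := by
      rw [← Scheme.Hom.comp_apply, jS_plu]
    rw [h1, cI_mem_basicOpen_iff, minor_self _ _ (Mu_normal I)]
    exact z.isPrime.one_notMem

theorem iSup_basicOpen :
    ⨆ I : Sub n q, Proj.basicOpen (𝒮 R (pdim n q)) (MvPolynomial.X (idx hq I)) = ⊤ := by
  apply Proj.iSup_basicOpen_eq_top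
  refine (Groth.Agent.Helper1.ProjSpaceLib.irrelevant_le (pdim n q) R).trans ?_
  apply Ideal.span_mono
  rintro _ ⟨i, rfl⟩
  exact ⟨(idx hq).symm i, by simp only [Equiv.apply_symm_apply]⟩

include heX in
/-- **the Plücker morphism is a closed immersion** -/
theorem isClosedImmersion_plu : IsClosedImmersion (plu hq X eX heX) := by
  rw [IsZariskiLocalAtTarget.iff_of_iSup_eq_top (P := @IsClosedImmersion) _ (iSup_basicOpen hq)]
  intro I
  haveI := isOpenImmersion_jS X eX heX I
  set V := Proj.basicOpen (𝒮 R (pdim n q)) (MvPolynomial.X (idx hq I)) with hV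
  have hW : plu hq X eX heX ⁻¹ᵁ V = (jS X eX I).opensRange := plu_preimage hq X eX heX I
  let eW : Spec (CommRingCat.of (PR R (emb I))) ≅ ((plu hq X eX heX ⁻¹ᵁ V : X.left.Opens) : Scheme) :=
    IsOpenImmersion.isoOfRangeEq (jS X eX I) (plu hq X eX heX ⁻¹ᵁ V).ι (by
      rw [Scheme.Opens.range_ι, hW]; rfl)
  have heW : eW.hom ≫ (plu hq X eX heX ⁻¹ᵁ V).ι = jS X eX I :=
    IsOpenImmersion.isoOfRangeEq_hom_fac _ _ _
  let eV : Spec (CommRingCat.of (Away (𝒮 R (pdim n q)) (MvPolynomial.X (idx hq I)))) ≅
      (V : Scheme) :=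
    (Proj.basicOpenIsoSpec (𝒮 R (pdim n q)) (MvPolynomial.X (idx hq I))
      (X_mem R (pdim n q) (idx hq I)) one_pos).symm
  have heV : eV.hom ≫ V.ι = Proj.awayι (𝒮 R (pdim n q)) (MvPolynomial.X (idx hq I))
      (X_mem R (pdim n q) (idx hq I)) one_pos :=
    Proj.basicOpenIsoSpec_inv_ι _ _ _ _
  have key : eW.hom ≫ (plu hq X eX heX ∣_ V) =
      Spec.map (CommRingCat.ofHom (phiI (R := R) hq I)) ≫ eV.hom := by
    rw [← cancel_mono V.ι, Category.assoc, morphismRestrict_ι, ← Category.assoc, heW, jS_plu,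
      cI_eq, Category.assoc, heV]
  have hfin : plu hq X eX heX ∣_ V =
      eW.inv ≫ Spec.map (CommRingCat.ofHom (phiI (R := R) hq I)) ≫ eV.hom := by
    rw [← key, Iso.inv_hom_id_assoc]
  rw [hfin]
  haveI : IsClosedImmersion (Spec.map (CommRingCat.ofHom (phiI (R := R) hq I))) :=
    IsClosedImmersion.spec_of_surjective _ (phiI_surjective hq I)
  infer_instance

end Groth.Agent.Lib.Helper5.Grass.Plucker2

end
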