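import Mathlib
import Groth.Agent.Lib.Helper5.Grass.Plucker2
import Groth.Agent.Lib.Helper3.ProjCovOver

/-!
# The Plücker closed immersion into projective space over `Spec R` (helper5)
-/

set_option autoImplicit false
universe u
open CategoryTheory CategoryTheory.Limits AlgebraicGeometry TopologicalSpace Opposite
open TensorProduct Module Module.Grassmannian

noncomputable section

namespace Groth.Agent.Lib.Helper5.Grass.Plucker3

open Groth.Agent.Lib.Helper5.Grass.Pts Groth.Agent.Lib.Helper5.Grass.PluAlg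
  Groth.Agent.Lib.Helper5.Grass.Plucker2 Groth.Agent.Lib.Helper5.Grass.ProjPt

variable {R : Type u} [CommRing R] {n q : ℕ} (hq : q ≤ n)
variable (X : Over (Spec (CommRingCat.of R)))
variable (eX : ∀ B : CommAlgCat.{u} R, (SpecO B ⟶ X) ≃
    (Module.Grassmannian.functor (R := R) (M := Fin n → R) q).obj B)
  (heX : ∀ (B C : CommAlgCat.{u} R) (φ' : B ⟶ C) (g : SpecO B ⟶ X) (g' : SpecO C ⟶ X),
      g'.left = Spec.map (CommRingCat.ofHom φ'.hom.toRingHom) ≫ g.left →
        eX C g' = (Module.Grassmannian.functor (R := R) (M := Fin n → R) q).map φ' (eX B g))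

include heX hq in
/-- **the Plücker closed immersion** -/
theorem exists_plucker :
    ∃ c : X.left ⟶ CohB1.ProjSpaceOver (n.choose q - 1) (Spec (CommRingCat.of R)),
      IsClosedImmersion c ∧
        c ≫ CohB1.ProjSpaceOver.toBase (n.choose q - 1) (Spec (CommRingCat.of R)) = X.hom := by
  let θ := Groth.Agent.Helper3.ProjCovOver.thetaIso (n.choose q - 1) R
  have hθ : θ.hom ≫ CohB1.ProjSpaceOver.toBase (n.choose q - 1) (Spec (CommRingCat.of R)) =
      CohB1.ProjSpace.toSpec (n.choose q - 1) R :=
    IsPullback.isoPullback_hom_snd _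
  let c₀ : X.left ⟶ CohB1.ProjSpace (n.choose q - 1) R := plu hq X eX heX
  haveI : IsClosedImmersion c₀ := isClosedImmersion_plu hq X eX heX
  refine ⟨c₀ ≫ θ.hom, inferInstance, ?_⟩
  rw [Category.assoc, hθ]
  exact plu_toSpec hq X eX heX

end Groth.Agent.Lib.Helper5.Grass.Plucker3

end
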