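import Mathlib
import Groth.Agent.Lib.Helper5.Grass.ClosedSub

/-!
# Powers and closed subfunctors of representable functors on `R`-algebras (helper5)
-/

set_option autoImplicit false
universe u
open CategoryTheory CategoryTheory.Limits AlgebraicGeometry TopologicalSpace Opposite

noncomputable section

namespace Groth.Agent.Lib.Helper5.Grass.RepTools

open Groth.Agent.Lib.Helper5.Grass.Pts Groth.Agent.Lib.Helper5.Grass.Pts2
  Groth.Agent.Lib.Helper5.Grass.AffYoneda Groth.Agent.Lib.Helper5.Grass.PtsLoc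
  Groth.Agent.Lib.Helper5.Grass.ClosedSub

variable {R : Type u} [CommRing R] (Gf : CommAlgCat.{u} R ⥤ Type u)

/-- the `m`-th power of a functor -/
def powF (m : ℕ) : CommAlgCat.{u} R ⥤ Type u where
  obj A := Fin m → Gf.obj A
  map {A B} φ := TypeCat.ofHom fun V i => Gf.map φ (V i)
  map_id A := ConcreteCategory.hom_ext _ _ fun V => by
    funext i
    show Gf.map (𝟙 A) (V i) = V i
    rw [Functor.map_id_apply]
  map_comp {A B C} φ ψ := ConcreteCategory.hom_ext _ _ fun V => by
    funext i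
    show Gf.map (φ ≫ ψ) (V i) = Gf.map ψ (Gf.map φ (V i))
    rw [Functor.map_comp_apply]

theorem powF_map_apply (m : ℕ) {A B : CommAlgCat.{u} R} (φ : A ⟶ B) (V : Fin m → Gf.obj A)
    (i : Fin m) : (powF Gf m).map φ V i = Gf.map φ (V i) := rfl

variable {Gf}

section Closed
variable (X : Over (Spec (CommRingCat.of R)))
  (eX : ∀ B : CommAlgCat.{u} R, (SpecO B ⟶ X) ≃ Gf.obj B)
  (heX : ∀ (B C : CommAlgCat.{u} R) (φ' : B ⟶ C) (g : SpecO B ⟶ X) (g' : SpecO C ⟶ X),
      g'.left = Spec.map (CommRingCat.ofHom φ'.hom.toRingHom) ≫ g.left →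
        eX C g' = Gf.map φ' (eX B g))
  (𝒞 : ∀ B : CommAlgCat.{u} R, Gf.obj B → Prop)
  (hcl : ∀ (B : CommAlgCat.{u} R) (N : Gf.obj B), ∃ J : Ideal B,
    ∀ (C : CommAlgCat.{u} R) (ψ : B ⟶ C),
      𝒞 C (Gf.map ψ N) ↔ J ≤ RingHom.ker (ψ.hom : ↑B →+* ↑C))

include heX hcl in
/-- **a closed subfunctor of a representable functor is representable by a closed subscheme** -/
theorem exists_rep_closed : ∃ (Z : Over (Spec (CommRingCat.of R))) (c : Z ⟶ X)
    (eZ : ∀ B : CommAlgCat.{u} R, (SpecO B ⟶ Z) ≃ {N : Gf.obj B // 𝒞 B N}),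
    IsClosedImmersion c.left ∧ ∀ (B : CommAlgCat.{u} R) (h : SpecO B ⟶ Z),
      (eZ B h).1 = eX B (h ≫ c) := by
  obtain ⟨Z₀, ι, hι, hlift⟩ := exists_closed 𝒞 hcl X eX heX
  let Z : Over (Spec (CommRingCat.of R)) := Over.mk (ι ≫ X.hom)
  let c : Z ⟶ X := Over.homMk ι rfl
  have hmem : ∀ (B : CommAlgCat.{u} R) (h : SpecO B ⟶ Z), 𝒞 B (eX B (h ≫ c)) :=
    fun B h => (hlift B (h ≫ c)).1 ⟨h.left, rfl⟩
  have hex : ∀ (B : CommAlgCat.{u} R) (N : {N : Gf.obj B // 𝒞 B N}),
      ∃ h : SpecO B ⟶ Z, h ≫ c = (eX B).symm N.1 := by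
    intro B N
    obtain ⟨h₀, hh₀⟩ := (hlift B ((eX B).symm N.1)).2 (by
      rw [Equiv.apply_symm_apply]; exact N.2)
    have hw : h₀ ≫ Z.hom = (SpecO B).hom := by
      show h₀ ≫ ι ≫ X.hom = _
      rw [← Category.assoc, hh₀]
      exact Over.w _
    refine ⟨Over.homMk h₀ hw, ?_⟩
    apply Over.OverMorphism.ext
    exact hh₀
  haveI : Mono ι := inferInstance
  have hmono : ∀ (B : CommAlgCat.{u} R) (h h' : SpecO B ⟶ Z), h ≫ c = h' ≫ c → h = h' := by
    intro B h h' hh
    apply Over.OverMorphism.ext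
    have := congrArg (fun m => m.left) hh
    exact (cancel_mono ι).1 this
  refine ⟨Z, c, fun B =>
    { toFun := fun h => ⟨eX B (h ≫ c), hmem B h⟩
      invFun := fun N => (hex B N).choose
      left_inv := fun h => by
        apply hmono
        rw [(hex B ⟨eX B (h ≫ c), hmem B h⟩).choose_spec, Equiv.symm_apply_apply]
      right_inv := fun N => by
        apply Subtype.ext
        show eX B ((hex B N).choose ≫ c) = N.1
        rw [(hex B N).choose_spec, Equiv.apply_symm_apply] }, hι, fun B h => rfl⟩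

end Closed

section Pow

/-- morphisms into a binary product -/
def prodEquiv {C : Type*} [Category C] [HasBinaryProducts C] (T Y X : C) :
    (T ⟶ Y ⨯ X) ≃ (T ⟶ Y) × (T ⟶ X) where
  toFun h := (h ≫ prod.fst, h ≫ prod.snd)
  invFun p := prod.lift p.1 p.2
  left_inv h := by
    apply Limits.prod.hom_ext
    · exact Limits.prod.lift_fst _ _
    · exact Limits.prod.lift_snd _ _
  right_inv p := by
    apply Prod.ext
    · exact Limits.prod.lift_fst _ _
    · exact Limits.prod.lift_snd _ _

theorem prodEquiv_apply {C : Type*} [Category C] [HasBinaryProducts C] (T Y X : C)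
    (h : T ⟶ Y ⨯ X) : prodEquiv T Y X h = (h ≫ prod.fst, h ≫ prod.snd) := rfl

/-- adding a first component to a tuple -/
def consE (α : Type u) (m : ℕ) : (Fin m → α) × α ≃ (Fin (m + 1) → α) where
  toFun p := Fin.cons (α := fun _ => α) p.2 p.1
  invFun V := (Fin.tail V, V 0)
  left_inv p := by
    apply Prod.ext
    · show Fin.tail (Fin.cons (α := fun _ => α) p.2 p.1) = p.1
      exact Fin.tail_cons _ _
    · show Fin.cons (α := fun _ => α) p.2 p.1 0 = p.2
      exact Fin.cons_zero _ _
  right_inv V := by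
    show Fin.cons (α := fun _ => α) (V 0) (Fin.tail V) = V
    exact Fin.cons_self_tail V

theorem consE_zero (α : Type u) (m : ℕ) (p : (Fin m → α) × α) : consE α m p 0 = p.2 := by
  show Fin.cons (α := fun _ => α) p.2 p.1 0 = p.2
  exact Fin.cons_zero _ _

theorem consE_succ (α : Type u) (m : ℕ) (p : (Fin m → α) × α) (j : Fin m) :
    consE α m p j.succ = p.1 j := by
  show Fin.cons (α := fun _ => α) p.2 p.1 j.succ = p.1 j
  exact Fin.cons_succ _ _ _

variable (X : Over (Spec (CommRingCat.of R)))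
  (eX : ∀ B : CommAlgCat.{u} R, (SpecO B ⟶ X) ≃ Gf.obj B)
  (heX : ∀ (B C : CommAlgCat.{u} R) (φ' : B ⟶ C) (g : SpecO B ⟶ X) (g' : SpecO C ⟶ X),
      g'.left = Spec.map (CommRingCat.ofHom φ'.hom.toRingHom) ≫ g.left →
        eX C g' = Gf.map φ' (eX B g))

include heX in
/-- **powers of a representable functor are representable (and proper if the functor is)** -/
theorem exists_rep_pow (m : ℕ) : ∃ (Y : Over (Spec (CommRingCat.of R)))
    (ε : ∀ A : CommAlgCat.{u} R, (SpecO A ⟶ Y) ≃ (powF Gf m).obj A),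
    (∀ (A B : CommAlgCat.{u} R) (φ : A ⟶ B) (g : SpecO A ⟶ Y) (g' : SpecO B ⟶ Y),
      g'.left = Spec.map (CommRingCat.ofHom φ.hom.toRingHom) ≫ g.left →
        ε B g' = (powF Gf m).map φ (ε A g)) ∧ (IsProper X.hom → IsProper Y.hom) := by
  induction m with
  | zero =>
    refine ⟨Over.mk (𝟙 _), fun A =>
      { toFun := fun _ i => i.elim0
        invFun := fun _ => Over.homMk (SpecO A).hom (by simp)
        left_inv := fun h => by
          apply Over.OverMorphism.ext
          have := Over.w h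
          simpa using this.symm
        right_inv := fun V => by funext i; exact i.elim0 }, ?_, ?_⟩
    · intro A B φ g g' _
      funext i
      exact i.elim0
    · intro _
      show IsProper (𝟙 _)
      infer_instance
  | succ m ih =>
    obtain ⟨Y, ε, hε, hp⟩ := ih
    refine ⟨Y ⨯ X, fun A => (prodEquiv (SpecO A) Y X).trans
      (((ε A).prodCongr (eX A)).trans (consE (Gf.obj A) m)), ?_, ?_⟩
    · intro A B φ g g' hg
      funext i
      refine Fin.cases ?_ (fun j => ?_) i
      · rw [powF_map_apply]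
        simp only [Equiv.trans_apply, prodEquiv_apply, Equiv.prodCongr_apply, Prod.map_apply]
        apply heX
        show g'.left ≫ (prod.snd : Y ⨯ X ⟶ X).left = _ ≫ g.left ≫ (prod.snd : Y ⨯ X ⟶ X).left
        rw [hg, Category.assoc]
      · rw [powF_map_apply]
        simp only [Equiv.trans_apply, prodEquiv_apply, Equiv.prodCongr_apply, Prod.map_apply]
        have := hε A B φ (g ≫ prod.fst) (g' ≫ prod.fst) (by
          show g'.left ≫ (prod.fst : Y ⨯ X ⟶ Y).left =
            _ ≫ g.left ≫ (prod.fst : Y ⨯ X ⟶ Y).left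
          rw [hg, Category.assoc])
        rw [this]
        rfl
    · intro hX
      haveI := hp hX
      have h1 : (Y ⨯ X).hom = (prod.fst : Y ⨯ X ⟶ Y).left ≫ Y.hom := (Over.w _).symm
      have h2 : (prod.fst : Y ⨯ X ⟶ Y).left =
          (Over.prodLeftIsoPullback Y X).hom ≫ pullback.fst Y.hom X.hom :=
        (Over.prodLeftIsoPullback_hom_fst Y X).symm
      rw [h1, h2]
      haveI : IsProper (pullback.fst Y.hom X.hom) :=
        MorphismProperty.pullback_fst (P := @IsProper) _ _ hX
      infer_instance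

end Pow

end Groth.Agent.Lib.Helper5.Grass.RepTools

end
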