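import Mathlib
import Groth.Prelude.Def_W4c1limliniiiiLG
import Groth.Agent.Lib.Helper5.Grass.RepTools
import Groth.Agent.Lib.Helper5.Grass.GrObs2
import Groth.Agent.Lib.Helper5.Grass.GrRep3
import Groth.Agent.Lib.Helper5.Grass.Plucker3
import Groth.Agent.Lib.Helper1.HProj2

/-!
# The linked Grassmannian is representable and proper (helper5)
-/

set_option autoImplicit false
universe u
open CategoryTheory CategoryTheory.Limits AlgebraicGeometry TopologicalSpace Opposite
open TensorProduct Module Module.Grassmannian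

noncomputable section

namespace Groth.Agent.Lib.Helper5.Grass.LinkedGr

open Groth.Agent.Lib.Helper5.Grass.Pts Groth.Agent.Lib.Helper5.Grass.PtsLoc
  Groth.Agent.Lib.Helper5.Grass.RepTools Groth.Agent.Lib.Helper5.Grass.GrObs
  Groth.Agent.Lib.Helper5.Grass.GrRep

variable (R : Type u) [CommRing R] (d r n : ℕ)
  (f g : Fin n → ((Fin d → R) →ₗ[R] (Fin d → R)))

/-- the Grassmannian functor of rank-`(d - r)` quotients of `R^d` -/
abbrev G0 : CommAlgCat.{u} R ⥤ Type u :=
  Module.Grassmannian.functor (R := R) (M := Fin d → R) (d - r)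

/-- the linkage condition -/
def LGC (A : CommAlgCat.{u} R) (V : (powF (G0 R d r) (n + 1)).obj A) : Prop :=
  V ∈ W4c1limliniiii.LGPoints R d r n f g A

/-- the ideal of the linkage condition -/
def JLG (A : CommAlgCat.{u} R) (V : (powF (G0 R d r) (n + 1)).obj A) : Ideal A :=
  ⨆ i : Fin n, obsX (f i) (V i.castSucc).toSubmodule (V i.succ).toSubmodule ⊔
    obsX (g i) (V i.succ).toSubmodule (V i.castSucc).toSubmodule

theorem LGC_closed (A : CommAlgCat.{u} R) (V : (powF (G0 R d r) (n + 1)).obj A) :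
    ∃ J : Ideal A, ∀ (C : CommAlgCat.{u} R) (ψ : A ⟶ C),
      LGC R d r n f g C ((powF (G0 R d r) (n + 1)).map ψ V) ↔
        J ≤ RingHom.ker (ψ.hom : ↑A →+* ↑C) := by
  refine ⟨JLG R d r n f g A V, ?_⟩
  intro C ψ
  unfold JLG
  rw [iSup_le_iff]
  refine forall_congr' fun i => ?_
  rw [sup_le_iff, obsX_le_ker_iff, obsX_le_ker_iff]
  exact Iff.rfl

/-- the Grassmannian of a free module is proper -/
theorem isProper_of_rep (X : Over (Spec (CommRingCat.of R)))
    (eX : ∀ B : CommAlgCat.{u} R, (SpecO B ⟶ X) ≃ (G0 R d r).obj B)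
    (heX : ∀ (B C : CommAlgCat.{u} R) (φ' : B ⟶ C) (g : SpecO B ⟶ X) (g' : SpecO C ⟶ X),
      g'.left = Spec.map (CommRingCat.ofHom φ'.hom.toRingHom) ≫ g.left →
        eX C g' = (G0 R d r).map φ' (eX B g)) : IsProper X.hom := by
  obtain ⟨c, hc, hcX⟩ := Groth.Agent.Lib.Helper5.Grass.Plucker3.exists_plucker
    (Nat.sub_le d r) X eX heX
  rw [← hcX]
  haveI := Groth.Agent.Helper1.HProj.isProper_toBase (d.choose (d - r) - 1)
    (Spec (CommRingCat.of R))
  infer_instance

/-- **the linked Grassmannian is representable by a proper scheme** -/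
theorem exists_rep_LG : ∃ (X : Over (Spec (CommRingCat.of R)))
    (e : ∀ A : CommAlgCat.{u} R, (SpecO A ⟶ X) ≃ W4c1limliniiii.LGPoints R d r n f g A),
    (∀ (A B : CommAlgCat.{u} R) (φ : A ⟶ B) (x : SpecO A ⟶ X) (x' : SpecO B ⟶ X),
      x'.left = Spec.map (CommRingCat.ofHom φ.hom.toRingHom) ≫ x.left →
        ∀ i, (e B x').1 i = Module.Grassmannian.map φ.hom ((e A x).1 i)) ∧
      IsProper X.hom := by
  obtain ⟨X₁, e₁, he₁⟩ := exists_rep_free (R := R) (n := d) (q := d - r)
  have hp₁ : IsProper X₁.hom := isProper_of_rep R d r X₁ e₁ he₁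
  obtain ⟨Y, ε, hε, hpY⟩ := exists_rep_pow X₁ e₁ he₁ (n + 1)
  obtain ⟨Z, c, eZ, hc, heZ⟩ := exists_rep_closed Y ε hε (LGC R d r n f g)
    (LGC_closed R d r n f g)
  refine ⟨Z, eZ, ?_, ?_⟩
  · intro A B φ x x' hx i
    have hB : (eZ B x').1 = ε B (x' ≫ c) := heZ B x'
    have hA : (eZ A x).1 = ε A (x ≫ c) := heZ A x
    have h1 := hε A B φ (x ≫ c) (x' ≫ c) (by
      show x'.left ≫ c.left = _ ≫ x.left ≫ c.left
      rw [hx, Category.assoc])
    show (eZ B x').1 i = Module.Grassmannian.map φ.hom ((eZ A x).1 i)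
    rw [hB, hA, h1]
    rfl
  · haveI := hpY hp₁
    rw [← Over.w c]
    infer_instance

end Groth.Agent.Lib.Helper5.Grass.LinkedGr

end
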